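import Groth.Agent.EtLim64.HpullThen

/-!
# Functoriality of pullback followed by a coefficient map
-/

set_option autoImplicit false
set_option backward.isDefEq.respectTransparency.types false

universe u

open CategoryTheory CategoryTheory.Limits AlgebraicGeometry Opposite CategoryTheory.Abelian

namespace Groth.Agent.EtLim64

variable {X Y : Scheme.{u}} (u : X ⟶ Y) [PreservesFiniteLimits (EtCoh.pull u)]

theorem hpullThen_post {G : EtCoh.Ab Y} {M M' : EtCoh.Ab X} (α : (EtCoh.pull u).obj G ⟶ M) (ψ : M ⟶ M')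
    (n : ℕ) (x : EtCoh.H Y G n) :
    EtLim.HpullThen u G (α ≫ ψ) n x = (EtLim.HpullThen u G α n x).comp (Ext.mk₀ ψ) (add_zero n) :=
  (congrArg (EtLim.HpullThen u G (α ≫ ψ) n) (Ext.comp_mk₀_id x).symm).trans
    (hpullThen_map u (𝟙 G) ψ α (α ≫ ψ) (by rw [CategoryTheory.Functor.map_id]; exact Category.id_comp _) n x)

theorem hpullThen_pre {G G' : EtCoh.Ab Y} {M : EtCoh.Ab X} (φ : G ⟶ G') (α : (EtCoh.pull u).obj G' ⟶ M)
    (n : ℕ) (x : EtCoh.H Y G n) :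
    EtLim.HpullThen u G' α n (x.comp (Ext.mk₀ φ) (add_zero n)) =
      EtLim.HpullThen u G ((EtCoh.pull u).map φ ≫ α) n x :=
  (hpullThen_map u φ (𝟙 M) ((EtCoh.pull u).map φ ≫ α) α (Category.comp_id _).symm n x).trans
    (Ext.comp_mk₀_id _)

theorem hpullThen_lift {G G' : EtCoh.Ab Y} {M M' : EtCoh.Ab X} (f : G' ⟶ G) (α : (EtCoh.pull u).obj G' ⟶ M')
    (β : (EtCoh.pull u).obj G ⟶ M) (θ : M' ⟶ M) (σ : M ⟶ M') (h : (EtCoh.pull u).map f ≫ β = α ≫ θ)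
    (hr : σ ≫ θ = 𝟙 M) (n : ℕ) (x : EtCoh.H Y G' n) (ξ : EtCoh.H X M n)
    (hx : EtLim.HpullThen u G' α n x = ξ.comp (Ext.mk₀ σ) (add_zero n)) :
    EtLim.HpullThen u G β n (x.comp (Ext.mk₀ f) (add_zero n)) = ξ :=
  ((hpullThen_map u f θ α β h n x).trans
    (congrArg (fun e : EtCoh.H X M' n => e.comp (Ext.mk₀ θ) (add_zero n)) hx)).trans
    ((Ext.comp_assoc_of_third_deg_zero _ _ _ _).trans
      ((congrArg (fun e => Ext.comp ξ e (add_zero n)) ((Ext.mk₀_comp_mk₀ σ θ).trans (congrArg Ext.mk₀ hr))).trans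
        (Ext.comp_mk₀_id ξ)))

theorem hpullThen_zero_push {G G' : EtCoh.Ab Y} {M M' : EtCoh.Ab X} (f : G ⟶ G') (α : (EtCoh.pull u).obj G' ⟶ M')
    (β : (EtCoh.pull u).obj G ⟶ M) (θ : M ⟶ M') (h : (EtCoh.pull u).map f ≫ α = β ≫ θ) (n : ℕ)
    (x : EtCoh.H Y G n) (h0 : EtLim.HpullThen u G β n x = 0) :
    EtLim.HpullThen u G' α n (x.comp (Ext.mk₀ f) (add_zero n)) = 0 :=
  ((hpullThen_map u f θ β α h n x).trans
    (congrArg (fun e : EtCoh.H X M n => e.comp (Ext.mk₀ θ) (add_zero n)) h0)).trans (Ext.zero_comp _ _ _ _ _)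

theorem hpullThen_zero_pull {G G' : EtCoh.Ab Y} {M M' : EtCoh.Ab X} (f : G ⟶ G') (α : (EtCoh.pull u).obj G' ⟶ M')
    (g : M' ⟶ M) (β : (EtCoh.pull u).obj G ⟶ M) (h : (EtCoh.pull u).map f ≫ α ≫ g = β) (n : ℕ)
    (x : EtCoh.H Y G n) (h0 : EtLim.HpullThen u G' α n (x.comp (Ext.mk₀ f) (add_zero n)) = 0) :
    EtLim.HpullThen u G β n x = 0 :=
  (congrArg (fun a => EtLim.HpullThen u G a n x) h.symm).trans
    ((hpullThen_pre u f (α ≫ g) n x).symm.trans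
      ((hpullThen_post u α g n _).trans
        ((congrArg (fun e : EtCoh.H X M' n => e.comp (Ext.mk₀ g) (add_zero n)) h0).trans (Ext.zero_comp _ _ _ _ _))))

end Groth.Agent.EtLim64
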