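import Groth.Agent.EtLim64.SystemLimit
import Groth.Agent.EtLim64.HpullOps

/-!
# Passage to the limit for a system, stated on the inverse system itself

The hypotheses and the conclusion are packaged as definitions with the inverse system as an argument, so
that they are compared argument by argument.
-/

set_option autoImplicit false
set_option maxHeartbeats 1000000
set_option maxRecDepth 10000
set_option backward.isDefEq.respectTransparency.types false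
set_option linter.unusedSectionVars false

universe u

open CategoryTheory CategoryTheory.Limits AlgebraicGeometry Opposite

namespace Groth.Agent.EtLim64

variable {ι : Type u} [Preorder ι] (Xs : ιᵒᵖ ⥤ Scheme.{u}) (c : Cone Xs) (F : ∀ i : ι, EtCoh.Ab (Xs.obj (op i)))

/-- Transition maps. -/
abbrev PhiFam : Type (u + 1) :=
  ∀ ⦃i j : ι⦄ (h : i ≤ j), (EtCoh.pull (Xs.map (homOfLE h).op)).obj (F i) ⟶ F j

variable (φ : PhiFam Xs F)

/-- The cocycle condition. -/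
def Cocycle : Prop :=
  ∀ ⦃i j k : ι⦄ (hij : i ≤ j) (hjk : j ≤ k),
    φ (hij.trans hjk) = (EtLim.pullTrans Xs hij hjk).hom.app (F i) ≫
      (EtCoh.pull (Xs.map (homOfLE hjk).op)).map (φ hij) ≫ φ hjk

variable (G : ι ⥤ EtCoh.Ab c.pt)

/-- Identification of a diagram. -/
def PsiFam : Type (u + 1) := ∀ i : ι, (EtCoh.pull (c.π.app (op i))).obj (F i) ≅ G.obj i

/-- The underlying family. -/
def PsiFam.get (ψ : PsiFam Xs c F G) : ∀ i : ι, (EtCoh.pull (c.π.app (op i))).obj (F i) ≅ G.obj i := ψ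

variable (ψ : PsiFam Xs c F G)

/-- Compatibility of the identification. -/
def DiagCompat : Prop :=
  ∀ ⦃i j : ι⦄ (hij : i ≤ j), (ψ.get Xs c F G i).hom ≫ G.map (homOfLE hij) =
    (EtLim.pullTransCone Xs c hij).hom.app (F i) ≫ (EtCoh.pull (c.π.app (op j))).map (φ hij) ≫ (ψ.get Xs c F G j).hom

/-- The conclusion. -/
def IsColim [∀ a, PreservesFiniteLimits (EtCoh.pull (c.π.app a))]
    [∀ ⦃a b : ιᵒᵖ⦄ (h : a ⟶ b), PreservesFiniteLimits (EtCoh.pull (Xs.map h))] (n : ℕ) : Prop :=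
  (∀ ξ : EtCoh.H c.pt (colimit G) n, ∃ (j : ι) (ξj : EtCoh.H (Xs.obj (op j)) (F j) n),
      EtLim.HpullThen (c.π.app (op j)) (F j) ((ψ.get Xs c F G j).hom ≫ colimit.ι G j) n ξj = ξ) ∧
  (∀ (j : ι) (ξj : EtCoh.H (Xs.obj (op j)) (F j) n),
    EtLim.HpullThen (c.π.app (op j)) (F j) ((ψ.get Xs c F G j).hom ≫ colimit.ι G j) n ξj = 0 →
      ∃ (k : ι) (hk : j ≤ k), EtLim.HpullThen (Xs.map (homOfLE hk).op) (F j) (φ hk) n ξj = 0)

theorem isColim_of_tower [IsDirected ι (· ≤ ·)] [Nonempty ι] (T : Tower ι)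
    [∀ a, PreservesFiniteLimits (EtCoh.pull (T.c.π.app a))]
    [∀ ⦃a b : ιᵒᵖ⦄ (h : a ⟶ b), PreservesFiniteLimits (EtCoh.pull (T.Xs.map h))]
    (F : ∀ i : ι, EtCoh.Ab (T.Xs.obj (op i))) (φ : PhiFam T.Xs F) (hφ : Cocycle T.Xs F φ)
    (G : ι ⥤ EtCoh.Ab T.c.pt) (ψ : PsiFam T.Xs T.c F G) (hψ : DiagCompat T.Xs T.c F φ G ψ) (n : ℕ) :
    IsColim T.Xs T.c F φ G ψ n := by
  let D : PreSys T := ⟨F, φ, hφ⟩
  let E : PreSys.Diag D := ⟨G, ψ.get T.Xs T.c F G, hψ⟩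
  refine ⟨fun ξ => ?_, fun j ξj h0 => ?_⟩
  · obtain ⟨j, x, hx⟩ := T.exists_toH D.sys n (ξ.comp (Abelian.Ext.mk₀ E.Ξ) (add_zero n))
    exact ⟨j, _, hpullThen_lift (T.pr j) (D.inc j) ((T.αLim j).app D.sys) (E.leg j)
      (PreSys.Θ E.under) E.Ξ (E.inc_leg j) E.Ξ_Θ n x ξ hx⟩
  · obtain ⟨k, hk, e⟩ := T.exists_toStage D.sys n _ (hpullThen_zero_push (T.pr j) (D.prj j)
      ((T.αLim j).app D.sys) (E.leg j) E.Ξ (E.prj_αLim j) n ξj h0)
    exact ⟨k, hk, hpullThen_zero_pull (T.tr hk) (D.prj j) ((T.βStage hk).app D.sys) (D.inc k) (φ hk)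
      (D.prj_βStage_inc hk) n ξj e⟩

end Groth.Agent.EtLim64
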