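import Groth.Agent.EtLim64.FibreInj
import Groth.Agent.EtFound.CechPushGen
import Groth.Agent.EtFound.PullStalk
import Mathlib.Algebra.Category.Grp.FilteredColimits

/-!
# The sheaf on the limit of an injective system is acyclic
-/

set_option autoImplicit false
set_option maxHeartbeats 1000000
set_option linter.style.haveILetI false
set_option backward.isDefEq.respectTransparency.types false

universe u

open CategoryTheory CategoryTheory.Limits AlgebraicGeometry Opposite

namespace Groth.Agent.EtLim64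

open EtLC12.QcqsAcyclic

theorem isCechAcyclic_of_iso {X : Scheme.{u}} {G G' : EtCoh.Ab X} (e : G ≅ G') (h : IsCechAcyclic G) :
    IsCechAcyclic G' := fun U _ κ _ Uf hU hUf p =>
  (h U κ Uf hU hUf p).of_iso
    ((EtCech.cechHFunctor Uf (p + 1)).mapIso ((sheafToPresheaf _ _).mapIso e)).symm

theorem isCechAcyclic_push {X Y : Scheme.{u}} (u : X ⟶ Y) [IsAffineHom u] {G : EtCoh.Ab X}
    (h : IsCechAcyclic G) : IsCechAcyclic ((EtCoh.push u).obj G) := by
  intro U _ κ _ Uf hU hUf p
  haveI : LocallySmall.{u + 1} X.Etale := ⟨fun _ _ => inferInstance⟩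
  haveI : LocallySmall.{u + 1} Y.Etale := ⟨fun _ _ => inferInstance⟩
  haveI : HasFiniteProducts (Over ((EtCoh.bc u).obj U)) := hasFiniteProducts_of_has_binary_and_terminal
  refine IsZero.of_iso (h ((EtCoh.bc u).obj U) κ (fun a => (Over.post (EtCoh.bc u)).obj (Uf a))
    (Tower.isQcqsObj_bc u hU) (fun a => Tower.isQcqsObj_bc u (hUf a)) p) ?_
  exact ((HomologicalComplex.homologyFunctor _ _ (p + 1)).mapIso
    (EtFound.CechPushGen.complexIso (EtCoh.bc u) Uf G.obj)).symm

theorem exists_affine_nhd {X : Scheme.{u}} (U : X.Etale) (x : U.left) :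
    ∃ (W : X.Etale) (g : W ⟶ U) (w : W.left), EtFound.IsQcqsObj W ∧ g.left.base w = x := by
  obtain ⟨_, ⟨O, hO : IsAffineOpen O, rfl⟩, hx, -⟩ := U.left.isBasis_affineOpens.exists_subset_of_mem_open
    (Set.mem_univ x) isOpen_univ
  haveI : Etale U.hom := U.prop
  let O' : U.left.Opens := O
  haveI : Etale (O'.ι ≫ U.hom) :=
    MorphismProperty.comp_mem (@Etale : MorphismProperty Scheme.{u}) _ _ (inferInstance : Etale O'.ι) ‹_›
  haveI : IsAffine (O' : Scheme.{u}) := hO
  exact ⟨Scheme.Etale.mk (O'.ι ≫ U.hom), MorphismProperty.Over.homMk O'.ι rfl trivial, ⟨x, hx⟩,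
    ⟨inferInstanceAs (CompactSpace ↥(O' : Scheme.{u})), inferInstanceAs (QuasiSeparatedSpace ↥(O' : Scheme.{u}))⟩,
    rfl⟩

theorem ab_map_map {C : Type (u + 1)} [Category.{u} C] (G : Cᵒᵖ ⥤ AddCommGrpCat.{u + 1}) {X Y Z : C} (g : X ⟶ Y)
    (h : Y ⟶ Z) {k : X ⟶ Z} (e : g ≫ h = k) (x : G.obj (op Z)) :
    (G.map g.op).hom ((G.map h.op).hom x) = (G.map k.op).hom x := by
  subst e
  exact (Functor.map_comp_apply G h.op g.op x).symm

theorem ab_map_map_id {C : Type (u + 1)} [Category.{u} C] (G : Cᵒᵖ ⥤ AddCommGrpCat.{u + 1}) {X Y : C} (g : X ⟶ Y)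
    (h : Y ⟶ X) (e : g ≫ h = 𝟙 X) (x : G.obj (op X)) :
    (G.map g.op).hom ((G.map h.op).hom x) = x :=
  (ab_map_map G g h e x).trans (congrArg (fun r => r.hom x) (G.map_id (op X)))

variable {ι : Type u} [Preorder ι] [IsDirected ι (· ≤ ·)] [Nonempty ι]

namespace Tower

variable (T : Tower ι)

/-- The indices after `i`, in the large universe. -/
abbrev After (i : ι) : Type (u + 1) := AsSmall.{u + 1} {k : ι // i ≤ k}

/-- The underlying index. -/
def idx {i : ι} (k : After (ι := ι) i) : ι := ((AsSmall.down).obj k).1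

theorem le_idx {i : ι} (k : After (ι := ι) i) : i ≤ idx k := ((AsSmall.down).obj k).2

theorem idx_le {i : ι} {k l : After (ι := ι) i} (f : k ⟶ l) : idx k ≤ idx l :=
  leOfHom ((AsSmall.down).map f)

/-- An index after `i`. -/
def mkAfter {i : ι} (k : ι) (h : i ≤ k) : After (ι := ι) i := (AsSmall.up).obj ⟨k, h⟩

/-- A morphism of indices after `i`. -/
def homAfter {i : ι} {k l : After (ι := ι) i} (h : idx k ≤ idx l) : k ⟶ l := ULift.up (homOfLE h)

instance isFiltered_after (i : ι) : IsFiltered (After (ι := ι) i) := by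
  haveI : Nonempty {k : ι // i ≤ k} := ⟨⟨i, le_rfl⟩⟩
  haveI : IsDirected {k : ι // i ≤ k} (· ≤ ·) := ⟨fun a b => by
    obtain ⟨c, ha, hb⟩ := directed_of (α := ι) (· ≤ ·) a.1 b.1
    exact ⟨⟨c, a.2.trans ha⟩, ha, hb⟩⟩
  exact IsFiltered.of_equivalence AsSmall.equiv

variable {T}

/-- The transition morphism between base changes. -/
noncomputable def pullMap (A : Obj T) {k l : ι} (hk : A.stage ≤ k) (hkl : k ≤ l) :
    T.pullTo A (hk.trans hkl) ⟶ T.pullTo A hk :=
  T.liftTo (T.proj A (hk.trans hkl)) hk hkl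

theorem pullMap_proj (A : Obj T) {k l : ι} (hk : A.stage ≤ k) (hkl : k ≤ l) :
    pullMap A hk hkl ≫ T.proj A hk = T.proj A (hk.trans hkl) := T.liftTo_proj _ _ _

theorem pullMap_natural {i : ι} {V W : (T.obj i).Etale} (g : V ⟶ W) {k l : ι} (hk : i ≤ k) (hkl : k ≤ l) :
    (T.incl l).map ((EtCoh.bc (T.tr (hk.trans hkl))).map g) ≫ pullMap ((T.incl i).obj W) hk hkl =
      pullMap ((T.incl i).obj V) hk hkl ≫ (T.incl k).map ((EtCoh.bc (T.tr hk)).map g) := by
  refine T.pullTo_hom_ext ((Category.assoc _ _ _).trans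
    ((congrArg (_ ≫ ·) (pullMap_proj _ _ _)).trans (Eq.trans ?_ (Category.assoc _ _ _).symm)))
  have e : ∀ {m : ι} (hm : i ≤ m), (T.incl m).map ((EtCoh.bc (T.tr hm)).map g) ≫ T.proj ((T.incl i).obj W) hm =
      T.proj ((T.incl i).obj V) hm ≫ (T.incl i).map g :=
    fun hm => hom_ext (EtCoh.isPullback_bc_map (T.tr hm) g).w
  refine (e _).trans (Eq.trans ?_ (congrArg (_ ≫ ·) (e _)).symm)
  exact (congrArg (· ≫ (T.incl i).map g) (pullMap_proj ((T.incl i).obj V) hk hkl)).symm.trans
    (Category.assoc _ _ _)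

/-- The stages seen on one stage. -/
noncomputable def stageDiag (F : T.Sys) (i : ι) : After (ι := ι) i ⥤ EtCoh.Ab (T.obj i) where
  obj k := (EtCoh.push (T.tr (le_idx k))).obj ((T.res (idx k)).obj F)
  map {k l} f := ObjectProperty.homMk
    { app := fun V => F.obj.map (pullMap ((T.incl i).obj V.unop) (le_idx k) (idx_le f)).op
      naturality := fun V W g => by
        refine (F.obj.map_comp _ _).symm.trans (Eq.trans ?_ (F.obj.map_comp _ _))
        refine congrArg F.obj.map ((op_comp).symm.trans (Eq.trans ?_ op_comp))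
        exact congrArg Quiver.Hom.op (pullMap_natural g.unop (le_idx k) (idx_le f)).symm }
  map_id k := by
    ext V : 3
    refine (congrArg (fun r => F.obj.map (Quiver.Hom.op r)) (?_ : _ = 𝟙 _)).trans (F.obj.map_id _)
    exact T.pullTo_hom_ext ((pullMap_proj _ _ _).trans (Category.id_comp _).symm)
  map_comp {k l m} f g := by
    ext V : 3
    refine Eq.trans ?_ (F.obj.map_comp _ _)
    refine congrArg (fun r => F.obj.map r) ?_
    refine Eq.trans ?_ op_comp
    refine congrArg Quiver.Hom.op (T.pullTo_hom_ext ((pullMap_proj _ _ _).trans (Eq.trans ?_ (Category.assoc _ _ _).symm)))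
    exact ((congrArg (_ ≫ ·) (pullMap_proj _ _ _)).trans (pullMap_proj _ _ _)).symm

theorem toLimProjInv_proj (A : Obj T) {k : ι} (h : A.stage ≤ k) :
    T.toLimProjInv A h ≫ T.toLim.map (T.proj A h) = 𝟙 _ := by
  refine MorphismProperty.Over.Hom.ext (pullback.hom_ext ?_ ?_)
  · refine Eq.trans ?_ (Category.id_comp _).symm
    refine (Category.assoc _ _ _).trans ((congrArg (_ ≫ ·) (T.toLim_map_fst _)).trans ?_)
    refine (Category.assoc _ _ _).symm.trans ((congrArg (· ≫ _) (pullback.lift_fst _ _ _)).trans ?_)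
    exact pullback.lift_fst _ _ _
  · refine Eq.trans ?_ (Category.id_comp _).symm
    exact (Category.assoc _ _ _).trans ((congrArg (_ ≫ ·) (T.toLim_map_snd _)).trans
      (pullback.lift_snd _ _ _))

theorem proj_toLimProjInv (A : Obj T) {k : ι} (h : A.stage ≤ k) :
    T.toLim.map (T.proj A h) ≫ T.toLimProjInv A h = 𝟙 _ := by
  haveI := T.isIso_toLim_proj A h
  refine (cancel_mono (T.toLim.map (T.proj A h))).1 ?_
  rw [Category.assoc, toLimProjInv_proj, Category.comp_id, Category.id_comp]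

theorem toLim_pullMap_inv (A : Obj T) {k l : ι} (hk : A.stage ≤ k) (hkl : k ≤ l) :
    T.toLimProjInv A (hk.trans hkl) ≫ T.toLim.map (pullMap A hk hkl) = T.toLimProjInv A hk := by
  haveI := T.isIso_toLim_proj A hk
  refine (cancel_mono (T.toLim.map (T.proj A hk))).1 ?_
  rw [Category.assoc, ← T.toLim.map_comp, pullMap_proj, toLimProjInv_proj, toLimProjInv_proj]

theorem toLimProjInv_natural {i : ι} {V W : (T.obj i).Etale} (g : V ⟶ W) {k : ι} (hk : i ≤ k) :
    (EtCoh.bc (T.pr i)).map g ≫ T.toLimProjInv ((T.incl i).obj W) hk =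
      T.toLimProjInv ((T.incl i).obj V) hk ≫ T.toLim.map ((T.incl k).map ((EtCoh.bc (T.tr hk)).map g)) := by
  haveI := T.isIso_toLim_proj ((T.incl i).obj W) hk
  refine (cancel_mono (T.toLim.map (T.proj ((T.incl i).obj W) hk))).1 ?_
  have e : (T.incl k).map ((EtCoh.bc (T.tr hk)).map g) ≫ T.proj ((T.incl i).obj W) hk =
      T.proj ((T.incl i).obj V) hk ≫ (T.incl i).map g := hom_ext (EtCoh.isPullback_bc_map (T.tr hk) g).w
  refine (Category.assoc _ _ _).trans ((congrArg (_ ≫ ·) (toLimProjInv_proj ((T.incl i).obj W) hk)).trans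
    ((Category.comp_id _).trans ?_))
  refine Eq.trans ?_ (Category.assoc _ _ _).symm
  refine Eq.trans ?_ (congrArg (_ ≫ ·) (((T.toLim.map_comp _ _).symm.trans
    (congrArg T.toLim.map e)).trans (T.toLim.map_comp _ _))).symm
  refine Eq.trans ?_ (Category.assoc _ _ _)
  refine Eq.trans ?_ (congrArg (· ≫ _) (toLimProjInv_proj ((T.incl i).obj V) hk)).symm
  exact ((Category.id_comp _).trans (T.incl_toLim_map i g)).symm

/-- The comparison cocone. -/
noncomputable def stageCocone (F : T.Sys) (i : ι) : Cocone (stageDiag F i) where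
  pt := (EtCoh.push (T.pr i)).obj (T.colimF.obj F)
  ι :=
    { app := fun k => ObjectProperty.homMk
        { app := fun V => ((T.colimAdj.unit.app F).hom.app (op (T.pullTo ((T.incl i).obj V.unop) (le_idx k)))) ≫
            (T.colimF.obj F).obj.map (T.toLimProjInv ((T.incl i).obj V.unop) (le_idx k)).op
          naturality := fun V W g => by
            ext x
            refine (congrArg ((T.colimF.obj F).obj.map _).hom
              (atLim_map F ((T.incl (idx k)).map ((EtCoh.bc (T.tr (le_idx k))).map g.unop)) x)).trans ?_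
            change _ = ((T.colimF.obj F).obj.map ((EtCoh.bc (T.pr i)).map g.unop).op).hom
              (((T.colimF.obj F).obj.map (T.toLimProjInv ((T.incl i).obj V.unop) (le_idx k)).op).hom (atLim F x))
            refine (Functor.map_comp_apply _ _ _ _).symm.trans (Eq.trans ?_ (Functor.map_comp_apply _ _ _ _))
            exact congrArg (fun r => ((T.colimF.obj F).obj.map r).hom (atLim F x))
              (op_comp.symm.trans ((congrArg Quiver.Hom.op (toLimProjInv_natural g.unop (le_idx k))).symm.trans op_comp)) }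
      naturality := fun k l f => by
        ext V : 3
        ext x
        change F.obj.obj (op (T.pullTo ((T.incl i).obj V.unop) (le_idx k))) at x
        refine (congrArg ((T.colimF.obj F).obj.map _).hom
          (atLim_map F (pullMap ((T.incl i).obj V.unop) (le_idx k) (idx_le f)) x)).trans ?_
        refine (ab_map_map (T.colimF.obj F).obj _ _ (toLim_pullMap_inv _ (le_idx k) (idx_le f)) (atLim F x)).trans ?_
        rfl }

theorem bijective_desc_qcqs (F : T.Sys) (i : ι) {V : (T.obj i).Etale} (hV : EtFound.IsQcqsObj V) :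
    Function.Bijective ((colimit.desc (stageDiag F i) (stageCocone F i)).hom.app (op V)).hom := by
  haveI := EtFound.preservesColimitsOfShape_sections_qcqs_ab V hV (After (ι := ι) i)
  let hc := isColimitOfPreserves (sheafToPresheaf (T.obj i).smallEtaleTopology AddCommGrpCat.{u + 1} ⋙
    (evaluation _ AddCommGrpCat.{u + 1}).obj (op V)) (colimit.isColimit (stageDiag F i))
  let A := (T.incl i).obj V
  have hd : ∀ (k : After (ι := ι) i) (y : F.obj.obj (op (T.pullTo A (le_idx k)))),
      ((colimit.desc (stageDiag F i) (stageCocone F i)).hom.app (op V)).hom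
        (((colimit.ι (stageDiag F i) k).hom.app (op V)).hom y) =
      ((T.colimF.obj F).obj.map (T.toLimProjInv A (le_idx k)).op).hom (atLim F y) := fun k y =>
    ConcreteCategory.congr_hom (congrArg (fun m : (stageDiag F i).obj k ⟶ (stageCocone F i).pt => m.hom.app (op V))
      (colimit.ι_desc (stageCocone F i) k)) y
  refine ⟨(injective_iff_map_eq_zero _).2 fun x hx => ?_, fun z => ?_⟩
  · obtain ⟨k, y, rfl⟩ := Concrete.isColimit_exists_rep _ hc x
    have h0 : atLim F y = 0 := by
      have h2 := congrArg ((T.colimF.obj F).obj.map (T.toLim.map (T.proj A (le_idx k))).op).hom ((hd k y).symm.trans hx)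
      refine Eq.trans ?_ (h2.trans (map_zero _))
      exact (ab_map_map_id (T.colimF.obj F).obj _ _ (proj_toLimProjInv A (le_idx k)) (atLim F y)).symm
    obtain ⟨l, hl, e⟩ := exists_zero F (isQcqs_pullTo (A := A) hV (le_idx k)) y h0
    let l' : After (ι := ι) i := mkAfter l ((le_idx k).trans hl)
    let f : k ⟶ l' := homAfter hl
    refine ((ConcreteCategory.congr_hom (congrArg (fun m : (stageDiag F i).obj k ⟶ colimit (stageDiag F i) =>
      m.hom.app (op V)) (colimit.w (stageDiag F i) f)) y).symm.trans ?_)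
    have hy : (F.obj.map (pullMap A (le_idx k) hl).op).hom y = 0 := by
      refine Eq.trans ?_ ((congrArg (F.obj.map (T.liftTo (pullMap A (le_idx k) hl) hl le_rfl).op).hom e).trans (map_zero _))
      exact (ab_map_map F.obj _ _ (T.liftTo_proj (pullMap A (le_idx k) hl) hl le_rfl) y).symm
    exact (congrArg ((colimit.ι (stageDiag F i) l').hom.app (op V)).hom hy).trans (map_zero _)
  · obtain ⟨k, h, u, hu⟩ := exists_stage F (A := A) hV z
    let k' : After (ι := ι) i := mkAfter k h
    refine ⟨((colimit.ι (stageDiag F i) k').hom.app (op V)).hom u, (hd k' u).trans ?_⟩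
    refine (congrArg ((T.colimF.obj F).obj.map (T.toLimProjInv A h).op).hom hu).trans ?_
    exact ab_map_map_id (T.colimF.obj F).obj _ _ (toLimProjInv_proj A h) z

instance isIso_desc (F : T.Sys) (i : ι) : IsIso (colimit.desc (stageDiag F i) (stageCocone F i)) := by
  refine (Sheaf.isLocallyBijective_iff_isIso _).1 ⟨⟨fun {U} x y h => ?_⟩, ⟨fun {U} z => ?_⟩⟩
  · refine (EtFound.mem_topology_iff _).2 fun p => ?_
    obtain ⟨W, g, w, hW, hw⟩ := exists_affine_nhd U.unop p
    refine ⟨W, g, w, (bijective_desc_qcqs F i hW).1 ?_, hw⟩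
    refine (NatTrans.naturality_apply _ g.op x).trans (Eq.trans ?_ (NatTrans.naturality_apply _ g.op y).symm)
    exact congrArg _ h
  · refine (EtFound.mem_topology_iff _).2 fun p => ?_
    obtain ⟨W, g, w, hW, hw⟩ := exists_affine_nhd U p
    exact ⟨W, g, w, (bijective_desc_qcqs F i hW).2 _, hw⟩

theorem isCechAcyclic_push_colimF (I : T.Sys) [Injective I] (i : ι) :
    IsCechAcyclic ((EtCoh.push (T.pr i)).obj (T.colimF.obj I)) := by
  refine isCechAcyclic_of_iso (@asIso _ _ _ _ (colimit.desc (stageDiag I i) (stageCocone I i)) (isIso_desc I i))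
    (isCechAcyclic_colimit _ fun k => ?_)
  haveI : IsAffineHom (T.tr (le_idx k)) := T.isAffineHom_tr _
  exact isCechAcyclic_push _ (T.isCechAcyclic_res I (idx k))

/-- No higher Čech cohomology on any stage. -/
def LimAcyclic (G : EtCoh.Ab T.lim) : Prop :=
  ∀ i, IsCechAcyclic ((EtCoh.push (T.pr i)).obj G)

theorem limAcyclic_of_injective (G : EtCoh.Ab T.lim) [Injective G] : LimAcyclic G := fun i => by
  haveI := EtFound.pull_preservesFiniteLimits (T.pr i)
  haveI : Injective ((EtCoh.push (T.pr i)).obj G) := Injective.injective_of_adjoint (EtCoh.pullPushAdj (T.pr i)) G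
  exact isCechAcyclic_of_injective _

variable (S : ShortComplex (EtCoh.Ab T.lim)) (hS : S.ShortExact)

include hS

theorem sections_surjective (h1 : LimAcyclic S.X₁) {A : Obj T} (hA : IsQcqs A) :
    Function.Surjective (S.g.hom.app (op (T.toLim.obj A))).hom := by
  intro z
  haveI := hS.mono_f
  haveI := hS.epi_g
  have hloc : Presheaf.IsLocallySurjective T.lim.smallEtaleTopology S.g.hom :=
    (Sheaf.isLocallySurjective_iff_epi' AddCommGrpCat.{u + 1} S.g).2 inferInstance
  have hc := (EtFound.mem_topology_iff _).1 (hloc.imageSieve_mem (U := T.toLim.obj A) z)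
  have hB : ∀ x : (T.toLim.obj A).left, ∃ (B : Obj T) (φ : B ⟶ A) (y : (T.toLim.obj B).left)
      (s : S.X₂.obj.obj (op (T.toLim.obj B))), IsQcqs B ∧ (T.toLim.map φ).left.base y = x ∧
        (S.g.hom.app _).hom s = (S.X₃.obj.map (T.toLim.map φ).op).hom z := fun x => by
    obtain ⟨V, g, v, ⟨s, hs⟩, hv⟩ := hc x
    obtain ⟨B₀, g₀, y₀, -, hB₀, hy₀⟩ := T.exists_basis V v
    obtain ⟨k, h, φ, hφ⟩ := T.exists_hom hB₀ (g₀ ≫ g)
    obtain ⟨y, hy⟩ := toLim_proj_surjective B₀ h y₀
    refine ⟨T.pullTo B₀ h, φ, y, (S.X₂.obj.map (T.toLim.map (T.proj B₀ h) ≫ g₀).op).hom s, isQcqs_pullTo hB₀ h,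
      ?_, ?_⟩
    · rw [hφ]
      exact (Scheme.Hom.comp_apply (T.toLim.map (T.proj B₀ h)).left (g₀ ≫ g).left y).trans
        ((congrArg (g₀ ≫ g).left.base hy).trans ((Scheme.Hom.comp_apply g₀.left g.left y₀).trans
          ((congrArg g.left.base hy₀).trans hv)))
    · refine (NatTrans.naturality_apply S.g.hom _ s).trans ((congrArg _ hs).trans ?_)
      refine (ab_map_map S.X₃.obj _ _ ((Category.assoc _ _ _).trans ?_) z)
      exact hφ.symm
  choose B φ y s hBq hy hs using hB
  haveI := qcqs_toLim hA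
  have ho : ∀ x, IsOpen (Set.range (T.toLim.map (φ x)).left.base) := fun x => by
    haveI := EtFound.etale_left (T.toLim.map (φ x))
    exact (Scheme.Hom.isOpenMap ((T.toLim.map (φ x)).left)).isOpen_range
  obtain ⟨N, hN⟩ := isCompact_univ.elim_finite_subcover _ ho
    (fun x _ => Set.mem_iUnion.2 ⟨x, ⟨y x, hy x⟩⟩)
  obtain ⟨k, h, h', hcov⟩ := T.exists_cover hA (fun a : N => B a.1) (fun a => φ a.1) (fun x => by
    obtain ⟨a, ha, w, hw⟩ := Set.mem_iUnion₂.1 (hN (Set.mem_univ x))
    exact ⟨⟨a, ha⟩, w, hw⟩)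
  let U := (T.pullTo A h).obj
  haveI : HasFiniteProducts (Over U) := hasFiniteProducts_of_has_binary_and_terminal
  haveI : LocallySmall.{u + 1} (T.obj k).Etale := ⟨fun _ _ => inferInstance⟩
  let Uf : ULift.{u + 1} N → Over U := fun a => Over.mk (T.mapTo (φ a.down.1) (h' a.down))
  let R := EtCoh.push (T.pr k)
  have hsheaf : ∀ G : EtCoh.Ab (T.obj k), Presieve.IsSheafFor (G.obj ⋙ forget AddCommGrpCat.{u + 1})
      (Presieve.ofArrows (fun i => (Uf i).left) fun i => (Uf i).hom) := fun G => by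
    rw [Presieve.isSheafFor_iff_generate]
    refine isSheaf_type G _ ((EtFound.mem_topology_iff _).2 fun x => ?_)
    obtain ⟨a, w, hw⟩ := hcov x
    exact ⟨_, _, w, Sieve.le_generate _ _ _ (Presieve.ofArrows.mk (f := fun i => (Uf i).hom) ⟨a⟩), hw⟩
  let pb : ∀ a : ULift.{u + 1} N, T.toLim.obj (T.pullTo (B a.down.1) (h' a.down)) ⟶ T.toLim.obj (B a.down.1) :=
    fun a => T.toLim.map (T.proj (B a.down.1) (h' a.down))
  obtain ⟨w, hw⟩ := EtFound.CechSurjGen.exists_lift_of_isZero_cechH_one (Uf := Uf)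
    (R.map S.f).hom (R.map S.g).hom
    (fun V => SiteBase.sheaf_app_injective S.f ((EtCoh.bc (T.pr k)).obj V.unop))
    (fun V y hy => (SiteBase.secExact_iff S ((EtCoh.bc (T.pr k)).obj V.unop)).1 (hS.exact.map_of_mono_of_preservesKernel
      (sheafToPresheaf T.lim.smallEtaleTopology AddCommGrpCat.{u + 1} ⋙
        (evaluation _ AddCommGrpCat.{u + 1}).obj (op ((EtCoh.bc (T.pr k)).obj V.unop))) inferInstance inferInstance) y hy)
    (fun V x => congrArg (fun t : S.X₁ ⟶ S.X₃ => (t.hom.app (op ((EtCoh.bc (T.pr k)).obj V.unop))).hom x) S.zero)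
    (h1 k U _ Uf (isQcqs_pullTo hA h) (fun a => isQcqs_pullTo (hBq a.down.1) (h' a.down)) 0)
    (hsheaf _) (hsheaf _) ((S.X₃.obj.map (T.toLim.map (T.proj A h)).op).hom z)
    (fun a => (S.X₂.obj.map (pb a).op).hom (s a.down.1))
    (fun a => by
      refine (NatTrans.naturality_apply S.g.hom (pb a).op (s a.down.1)).trans ?_
      refine (congrArg _ (hs a.down.1)).trans ?_
      refine (lim_map_map S.X₃ (φ a.down.1) _ z).trans ?_
      refine (congrArg (fun r => (S.X₃.obj.map (T.toLim.map r).op).hom z)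
        (T.mapTo_proj (φ a.down.1) (h' a.down)).symm).trans ?_
      refine (lim_map_map S.X₃ (T.proj A h) ((T.incl k).map (T.mapTo (φ a.down.1) (h' a.down))) z).symm.trans ?_
      exact congrArg (fun r => (S.X₃.obj.map (Quiver.Hom.op r)).hom _)
        (T.incl_toLim_map k (T.mapTo (φ a.down.1) (h' a.down))))
  refine ⟨(S.X₂.obj.map (T.toLimProjInv A h).op).hom w, ?_⟩
  refine (NatTrans.naturality_apply S.g.hom _ w).trans ((congrArg _ hw).trans ?_)
  exact ab_map_map_id S.X₃.obj _ _ (toLimProjInv_proj A h) z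

theorem shortExact_push (h1 : LimAcyclic S.X₁) (i : ι) : (S.map (EtCoh.push (T.pr i))).ShortExact := by
  haveI := hS.mono_f
  haveI := hS.epi_g
  haveI : PreservesFiniteLimits (EtCoh.push (T.pr i)) :=
    have : PreservesLimitsOfSize.{0, 0} (EtCoh.push (T.pr i)) :=
      (EtCoh.pullPushAdj (T.pr i)).rightAdjoint_preservesLimits
    PreservesLimitsOfSize.preservesFiniteLimits _
  haveI : Mono (S.map (EtCoh.push (T.pr i))).f := inferInstanceAs (Mono ((EtCoh.push (T.pr i)).map S.f))
  haveI : Epi (S.map (EtCoh.push (T.pr i))).g := by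
    refine (Sheaf.isLocallySurjective_iff_epi' AddCommGrpCat.{u + 1} _).1 ⟨fun {U} z => ?_⟩
    refine (EtFound.mem_topology_iff _).2 fun p => ?_
    obtain ⟨W, g, w, hW, hw⟩ := exists_affine_nhd U p
    exact ⟨W, g, w, sections_surjective S hS h1 (A := (T.incl i).obj W) hW _, hw⟩
  exact { exact := hS.exact.map_of_mono_of_preservesKernel (EtCoh.push (T.pr i)) inferInstance inferInstance }

theorem limAcyclic_X₃ (h1 : LimAcyclic S.X₁) (h2 : LimAcyclic S.X₂) : LimAcyclic S.X₃ := fun i =>
  isCechAcyclic_X₃ (S.map (EtCoh.push (T.pr i))) (shortExact_push S hS h1 i) (h1 i) (h2 i)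

omit hS

theorem subsingleton_H_of_limAcyclic (n : ℕ) (G : EtCoh.Ab T.lim) (hG : LimAcyclic G) :
    Subsingleton (EtCoh.H T.lim G (n + 1)) := by
  induction n generalizing G with
  | zero =>
    let S := ShortComplex.mk (Injective.ι G) (cokernel.π _) (cokernel.condition (Injective.ι G))
    have hS : S.ShortExact := { exact := ShortComplex.exact_of_g_is_cokernel _ (cokernelIsCokernel _) }
    refine subsingleton_of_forall_eq 0 fun x => ?_
    obtain ⟨z, rfl⟩ := Abelian.Ext.covariant_sequence_exact₁ _ hS x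
      (haveI : Injective S.X₂ := inferInstanceAs (Injective (Injective.under G)); Abelian.Ext.eq_zero_of_injective _)
      (rfl : 0 + 1 = 1)
    obtain ⟨φ, rfl⟩ := (Abelian.Ext.mk₀_bijective _ _).2 z
    let adj := constantSheafAdj T.lim.smallEtaleTopology AddCommGrpCat.{u + 1} (EtCore.topIsTerminal T.lim)
    obtain ⟨i⟩ := ‹Nonempty ι›
    let A : Obj T := (T.incl i).obj (EtCoh.top _)
    have hA : IsQcqs A := ⟨T.compactSpace_obj i, T.quasiSeparatedSpace_obj i⟩
    obtain ⟨a, ha⟩ : ∃ a, (S.g.hom.app (op (EtCoh.top T.lim))).hom a = adj.homEquiv _ _ φ ⟨1⟩ := by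
      obtain ⟨b, hb⟩ := sections_surjective S hS hG hA
        ((S.X₃.obj.map (EtCore.bcTopIso (T.pr i)).hom.op).hom (adj.homEquiv _ _ φ ⟨1⟩))
      refine ⟨(S.X₂.obj.map (EtCore.bcTopIso (T.pr i)).inv.op).hom b, ?_⟩
      refine (NatTrans.naturality_apply S.g.hom _ b).trans ((congrArg _ hb).trans ?_)
      exact ab_map_map_id S.X₃.obj _ _ (EtCore.bcTopIso (T.pr i)).inv_hom_id _
    have hφ : (adj.homEquiv _ _).symm ((AddCommGrpCat.uliftZMultiplesAddEquiv _).symm a) ≫ S.g = φ := by
      apply (adj.homEquiv _ _).injective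
      rw [Adjunction.homEquiv_naturality_right, Equiv.apply_symm_apply]
      apply (AddCommGrpCat.uliftZMultiplesAddEquiv _).injective
      refine Eq.trans ?_ ha
      exact congrArg (S.g.hom.app (op (EtCoh.top T.lim))) ((AddCommGrpCat.uliftZMultiplesAddEquiv _).apply_symm_apply a)
    rw [← hφ, ← Abelian.Ext.mk₀_comp_mk₀, Abelian.Ext.comp_assoc_of_second_deg_zero, hS.comp_extClass,
      Abelian.Ext.comp_zero]
  | succ n ih =>
    let S := ShortComplex.mk (Injective.ι G) (cokernel.π _) (cokernel.condition (Injective.ι G))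
    have hS : S.ShortExact := { exact := ShortComplex.exact_of_g_is_cokernel _ (cokernelIsCokernel _) }
    haveI hI : Injective S.X₂ := inferInstanceAs (Injective (Injective.under G))
    refine subsingleton_of_forall_eq 0 fun x => ?_
    obtain ⟨z, rfl⟩ := Abelian.Ext.covariant_sequence_exact₁ _ hS x (Abelian.Ext.eq_zero_of_injective _)
      (rfl : (n + 1) + 1 = _)
    haveI := ih S.X₃ (limAcyclic_X₃ S hS hG (limAcyclic_of_injective S.X₂))
    rw [Subsingleton.elim z 0, Abelian.Ext.zero_comp]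

theorem subsingleton_H_colimF (I : T.Sys) [Injective I] (q : ℕ) :
    Subsingleton (EtCoh.H T.lim (T.colimF.obj I) (q + 1)) :=
  subsingleton_H_of_limAcyclic q _ (fun i => isCechAcyclic_push_colimF I i)

end Tower

end Groth.Agent.EtLim64
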