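import Groth.Prelude.Def_EtCore
import Mathlib.AlgebraicGeometry.AffineTransitionLimit
import Mathlib.CategoryTheory.Limits.Shapes.Pullback.Connected

/-!
# Inverse systems with affine transition maps and their total etale category
-/

set_option autoImplicit false
set_option backward.isDefEq.respectTransparency.types false

universe u

open CategoryTheory CategoryTheory.Limits AlgebraicGeometry Opposite

namespace Groth.Agent.EtLim64

/-- An inverse system of qcqs schemes with affine transition maps together with a limit. -/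
structure Tower (ι : Type u) [Preorder ι] [IsDirected ι (· ≤ ·)] [Nonempty ι] : Type (u + 1) where
  Xs : ιᵒᵖ ⥤ Scheme.{u}
  c : Cone Xs
  hc : IsLimit c
  haff : ∀ ⦃a b : ιᵒᵖ⦄ (h : a ⟶ b), IsAffineHom (Xs.map h)
  hqc : ∀ a, CompactSpace ↥(Xs.obj a)
  hqs : ∀ a, QuasiSeparatedSpace ↥(Xs.obj a)

variable {ι : Type u} [Preorder ι] [IsDirected ι (· ≤ ·)] [Nonempty ι] (T : Tower ι)

namespace Tower

/-- The stages. -/
abbrev obj (i : ι) : Scheme.{u} := T.Xs.obj (op i)

/-- The limit. -/
abbrev lim : Scheme.{u} := T.c.pt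

/-- The transition maps. -/
abbrev tr {i j : ι} (h : i ≤ j) : T.obj j ⟶ T.obj i := T.Xs.map (homOfLE h).op

/-- The projections. -/
abbrev pr (i : ι) : T.lim ⟶ T.obj i := T.c.π.app (op i)

theorem pr_tr {i j : ι} (h : i ≤ j) : T.pr j ≫ T.tr h = T.pr i := T.c.w (homOfLE h).op

theorem tr_tr {i j k : ι} (h : i ≤ j) (h' : j ≤ k) : T.tr h' ≫ T.tr h = T.tr (h.trans h') :=
  (T.Xs.map_comp _ _).symm.trans rfl

theorem tr_refl (i : ι) : T.tr (le_refl i) = 𝟙 _ := T.Xs.map_id _

instance isAffineHom_tr {i j : ι} (h : i ≤ j) : IsAffineHom (T.tr h) := T.haff _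

instance compactSpace_obj (i : ι) : CompactSpace ↥(T.obj i) := T.hqc _

instance quasiSeparatedSpace_obj (i : ι) : QuasiSeparatedSpace ↥(T.obj i) := T.hqs _

instance isAffineHom_pr (i : ι) : IsAffineHom (T.pr i) :=
  have : ∀ {a b : ιᵒᵖ} (f : a ⟶ b), IsAffineHom (T.Xs.map f) := fun f => T.haff f
  AlgebraicGeometry.isAffineHom_π_app T.Xs T.c T.hc _

/-- An etale scheme over some stage. -/
structure Obj : Type (u + 1) where
  stage : ι
  obj : (T.obj stage).Etale

variable {T}

/-- The underlying scheme. -/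
abbrev Obj.sch (A : Obj T) : Scheme.{u} := A.obj.left

/-- The structure map. -/
abbrev Obj.str (A : Obj T) : A.sch ⟶ T.obj A.stage := A.obj.hom

/-- Morphisms over the transition maps. -/
@[ext]
structure Hom (A B : Obj T) : Type u where
  map : A.sch ⟶ B.sch
  hle : B.stage ≤ A.stage
  w : map ≫ B.str = A.str ≫ T.tr hle

instance : Category.{u} (Obj T) where
  Hom := Hom
  id A := ⟨𝟙 _, le_rfl, by rw [T.tr_refl, Category.id_comp, Category.comp_id]⟩
  comp {A B C} f g := ⟨f.map ≫ g.map, g.hle.trans f.hle, by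
    rw [Category.assoc, g.w, ← Category.assoc, f.w, Category.assoc, T.tr_tr]⟩
  id_comp _ := Hom.ext (Category.id_comp _)
  comp_id _ := Hom.ext (Category.comp_id _)
  assoc _ _ _ := Hom.ext (Category.assoc _ _ _)

theorem hom_ext {A B : Obj T} {f g : A ⟶ B} (h : f.map = g.map) : f = g := Hom.ext h

theorem comp_map {A B C : Obj T} (f : A ⟶ B) (g : B ⟶ C) : (f ≫ g).map = f.map ≫ g.map := rfl

theorem id_map (A : Obj T) : Hom.map (𝟙 A) = 𝟙 _ := rfl

variable (T)

/-- Inclusion of the etale site of a stage. -/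
def incl (i : ι) : (T.obj i).Etale ⥤ Obj T where
  obj V := ⟨i, V⟩
  map {V W} g := ⟨g.left, le_rfl, (MorphismProperty.Over.w g).trans
    ((Category.comp_id _).symm.trans (congrArg (V.hom ≫ ·) (T.tr_refl i).symm))⟩
  map_id _ := hom_ext rfl
  map_comp _ _ := hom_ext rfl

instance faithful_incl (i : ι) : (T.incl i).Faithful :=
  ⟨fun h => MorphismProperty.Over.Hom.ext (congrArg Hom.map h)⟩

instance full_incl (i : ι) : (T.incl i).Full :=
  ⟨fun {V W} g => ⟨MorphismProperty.Over.homMk g.map
    (g.w.trans ((congrArg (V.hom ≫ ·) (T.tr_refl i)).trans (Category.comp_id _))) trivial, hom_ext rfl⟩⟩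

/-- Base change to a later stage. -/
noncomputable def pullTo (A : Obj T) {k : ι} (h : A.stage ≤ k) : Obj T :=
  ⟨k, (EtCoh.bc (T.tr h)).obj A.obj⟩

/-- The projection from the base change. -/
noncomputable def proj (A : Obj T) {k : ι} (h : A.stage ≤ k) : T.pullTo A h ⟶ A where
  map := pullback.fst A.str (T.tr h)
  hle := h
  w := pullback.condition

/-- The base change of a morphism to a common stage. -/
noncomputable def mapTo {A B : Obj T} (f : A ⟶ B) {k : ι} (hA : A.stage ≤ k) :
    (EtCoh.bc (T.tr hA)).obj A.obj ⟶ (EtCoh.bc (T.tr (f.hle.trans hA))).obj B.obj :=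
  MorphismProperty.Over.homMk
    (pullback.lift (pullback.fst A.str (T.tr hA) ≫ f.map) (pullback.snd A.str (T.tr hA)) (
      (Category.assoc _ _ _).trans <| (congrArg (pullback.fst A.str (T.tr hA) ≫ ·) f.w).trans <|
      (Category.assoc _ _ _).symm.trans <| (congrArg (· ≫ T.tr f.hle) pullback.condition).trans <|
      (Category.assoc _ _ _).trans <| congrArg (pullback.snd A.str (T.tr hA) ≫ ·) (T.tr_tr f.hle hA)))
    (pullback.lift_snd _ _ _) trivial

theorem mapTo_proj {A B : Obj T} (f : A ⟶ B) {k : ι} (hA : A.stage ≤ k) :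
    (T.incl k).map (T.mapTo f hA) ≫ T.proj B (f.hle.trans hA) = T.proj A hA ≫ f :=
  hom_ext (pullback.lift_fst _ _ _)

/-- Base change to the limit. -/
noncomputable def toLim : Obj T ⥤ T.lim.Etale where
  obj A := (EtCoh.bc (T.pr A.stage)).obj A.obj
  map {A B} f := MorphismProperty.Over.homMk
    (pullback.lift (pullback.fst A.str (T.pr A.stage) ≫ f.map) (pullback.snd A.str (T.pr A.stage)) (
      (Category.assoc _ _ _).trans <| (congrArg (pullback.fst A.str (T.pr A.stage) ≫ ·) f.w).trans <|
      (Category.assoc _ _ _).symm.trans <| (congrArg (· ≫ T.tr f.hle) pullback.condition).trans <|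
      (Category.assoc _ _ _).trans <| congrArg (pullback.snd A.str (T.pr A.stage) ≫ ·) (T.pr_tr f.hle)))
    (pullback.lift_snd _ _ _) trivial
  map_id A := MorphismProperty.Over.Hom.ext (pullback.hom_ext
    ((pullback.lift_fst _ _ _).trans ((Category.comp_id _).trans (Category.id_comp _).symm))
    ((pullback.lift_snd _ _ _).trans (Category.id_comp _).symm))
  map_comp {A B C} f g := MorphismProperty.Over.Hom.ext (by
    refine pullback.hom_ext ?_ ?_
    · refine (pullback.lift_fst _ _ _).trans (Eq.trans ?_ (Category.assoc _ _ _).symm)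
      refine Eq.trans ?_ (congrArg (_ ≫ ·) (pullback.lift_fst _ _ _).symm)
      refine Eq.trans ?_ (Category.assoc _ _ _)
      exact Eq.trans (Category.assoc _ _ _).symm (congrArg (· ≫ g.map) (pullback.lift_fst _ _ _).symm)
    · refine (pullback.lift_snd _ _ _).trans (Eq.trans ?_ (Category.assoc _ _ _).symm)
      exact ((congrArg (_ ≫ ·) (pullback.lift_snd _ _ _)).trans (pullback.lift_snd _ _ _)).symm)

theorem toLim_map_fst {A B : Obj T} (f : A ⟶ B) :
    (T.toLim.map f).left ≫ pullback.fst B.str (T.pr B.stage) =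
      pullback.fst A.str (T.pr A.stage) ≫ f.map :=
  pullback.lift_fst _ _ _

theorem toLim_map_snd {A B : Obj T} (f : A ⟶ B) :
    (T.toLim.map f).left ≫ pullback.snd B.str (T.pr B.stage) =
      pullback.snd A.str (T.pr A.stage) :=
  pullback.lift_snd _ _ _

theorem toLim_hom_ext {Z : Scheme.{u}} {B : Obj T} {a b : Z ⟶ (T.toLim.obj B).left}
    (h₁ : a ≫ pullback.fst B.str (T.pr B.stage) = b ≫ pullback.fst B.str (T.pr B.stage))
    (h₂ : a ≫ pullback.snd B.str (T.pr B.stage) = b ≫ pullback.snd B.str (T.pr B.stage)) : a = b :=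
  pullback.hom_ext h₁ h₂

/-- The projection becomes invertible over the limit. -/
noncomputable def toLimProjInv (A : Obj T) {k : ι} (h : A.stage ≤ k) :
    T.toLim.obj A ⟶ T.toLim.obj (T.pullTo A h) :=
  MorphismProperty.Over.homMk
    (pullback.lift
      (pullback.lift (pullback.fst A.str (T.pr A.stage)) (pullback.snd A.str (T.pr A.stage) ≫ T.pr k)
        (pullback.condition.trans <| ((Category.assoc _ _ _).trans
          (congrArg (pullback.snd A.str (T.pr A.stage) ≫ ·) (T.pr_tr h))).symm))
      (pullback.snd A.str (T.pr A.stage))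
      (pullback.lift_snd _ _ _))
    (pullback.lift_snd _ _ _) trivial

instance isIso_toLim_proj (A : Obj T) {k : ι} (h : A.stage ≤ k) : IsIso (T.toLim.map (T.proj A h)) := by
  refine ⟨T.toLimProjInv A h, MorphismProperty.Over.Hom.ext ?_, MorphismProperty.Over.Hom.ext ?_⟩
  · refine pullback.hom_ext ?_ ?_
    · refine Eq.trans ?_ (Category.id_comp _).symm
      refine (Category.assoc _ _ _).trans ((congrArg (_ ≫ ·) (pullback.lift_fst _ _ _)).trans ?_)
      refine pullback.hom_ext ?_ ?_
      · refine (Category.assoc _ _ _).trans ((congrArg (_ ≫ ·) (pullback.lift_fst _ _ _)).trans ?_)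
        exact T.toLim_map_fst _
      · refine (Category.assoc _ _ _).trans ((congrArg (_ ≫ ·) (pullback.lift_snd _ _ _)).trans ?_)
        refine (Category.assoc _ _ _).symm.trans ((congrArg (· ≫ T.pr k) (T.toLim_map_snd _)).trans ?_)
        exact pullback.condition.symm
    · refine Eq.trans ?_ (Category.id_comp _).symm
      exact (Category.assoc _ _ _).trans ((congrArg (_ ≫ ·) (pullback.lift_snd _ _ _)).trans
        (T.toLim_map_snd _))
  · refine pullback.hom_ext ?_ ?_
    · refine Eq.trans ?_ (Category.id_comp _).symm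
      refine (Category.assoc _ _ _).trans ((congrArg (_ ≫ ·) (T.toLim_map_fst _)).trans ?_)
      refine (Category.assoc _ _ _).symm.trans ((congrArg (· ≫ _) (pullback.lift_fst _ _ _)).trans ?_)
      exact pullback.lift_fst _ _ _
    · refine Eq.trans ?_ (Category.id_comp _).symm
      exact (Category.assoc _ _ _).trans ((congrArg (_ ≫ ·) (T.toLim_map_snd _)).trans
        (pullback.lift_snd _ _ _))

/-- A morphism lifted to the base change at the stage of its source. -/
noncomputable def liftTo' {C A : Obj T} (φ : C ⟶ A) (h : A.stage ≤ C.stage) :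
    C ⟶ T.pullTo A h where
  map := pullback.lift φ.map C.str φ.w
  hle := le_rfl
  w := (pullback.lift_snd _ _ _).trans ((Category.comp_id _).symm.trans (congrArg (C.str ≫ ·) (T.tr_refl _).symm))

theorem liftTo'_proj {C A : Obj T} (φ : C ⟶ A) (h : A.stage ≤ C.stage) :
    T.liftTo' φ h ≫ T.proj A h = φ :=
  hom_ext (pullback.lift_fst _ _ _)

theorem incl_toLim_map (i : ι) {V W : (T.obj i).Etale} (g : V ⟶ W) :
    T.toLim.map ((T.incl i).map g) = (EtCoh.bc (T.pr i)).map g := by
  refine MorphismProperty.Over.Hom.ext (pullback.hom_ext ?_ ?_)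
  · exact (T.toLim_map_fst _).trans (EtCoh.isPullback_bc_map (T.pr i) g).w.symm
  · exact (T.toLim_map_snd _).trans (MorphismProperty.Over.w ((EtCoh.bc (T.pr i)).map g)).symm

end Tower

end Groth.Agent.EtLim64
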