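import Groth.Prelude.Def_EtCore
import Groth.Agent.EtLim64.Tower

/-!
# Adjoints of composites of pullbacks, on sections
-/

set_option autoImplicit false
set_option backward.isDefEq.respectTransparency.types false

universe u

open CategoryTheory CategoryTheory.Limits AlgebraicGeometry Opposite

namespace Groth.Agent.EtLim64

variable {X Y Z : Scheme.{u}}

/-- The comparison of iterated base change. -/
noncomputable def bcCompMap (k : X ⟶ Y) (g : Y ⟶ Z) {h : X ⟶ Z} (w : h = k ≫ g) (V : Z.Etale) :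
    (EtCoh.bc h).obj V ⟶ (EtCoh.bc k).obj ((EtCoh.bc g).obj V) :=
  (MorphismProperty.Over.pullbackCongr (P := EtCoh.etaleMP) (Q := ⊤) w.symm).inv.app V ≫
    (MorphismProperty.Over.pullbackComp (P := EtCoh.etaleMP) (Q := ⊤) k g).hom.app V

theorem bcCompMap_fst (k : X ⟶ Y) (g : Y ⟶ Z) {h : X ⟶ Z} (w : h = k ≫ g) (V : Z.Etale) :
    (bcCompMap k g w V).left ≫ pullback.fst ((EtCoh.bc g).obj V).hom k ≫ pullback.fst V.hom g =
      pullback.fst V.hom h := by
  subst w
  refine (Category.assoc _ _ _).trans ?_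
  refine (congrArg (_ ≫ ·) (MorphismProperty.Over.pullbackComp_left_fst_fst (P := EtCoh.etaleMP) (Q := ⊤) k g V)).trans ?_
  simp [MorphismProperty.Over.pullbackCongr]
  exact Category.id_comp _

/-- Morphisms into an iterated base change. -/
theorem bc2_hom_ext (k : X ⟶ Y) (g : Y ⟶ Z) {U : X.Etale} {V : Z.Etale}
    (a b : U ⟶ (EtCoh.bc k).obj ((EtCoh.bc g).obj V))
    (e : a.left ≫ pullback.fst ((EtCoh.bc g).obj V).hom k ≫ pullback.fst V.hom g =
      b.left ≫ pullback.fst ((EtCoh.bc g).obj V).hom k ≫ pullback.fst V.hom g) : a = b := by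
  have hs : a.left ≫ pullback.snd ((EtCoh.bc g).obj V).hom k = b.left ≫ pullback.snd ((EtCoh.bc g).obj V).hom k :=
    (MorphismProperty.Over.w a).trans (MorphismProperty.Over.w b).symm
  refine MorphismProperty.Over.Hom.ext (pullback.hom_ext (pullback.hom_ext ?_ ?_) hs)
  · exact (Category.assoc _ _ _).trans (e.trans (Category.assoc _ _ _).symm)
  · refine (Category.assoc _ _ _).trans (Eq.trans ?_ (Category.assoc _ _ _).symm)
    refine (congrArg (a.left ≫ ·) (pullback.condition (f := ((EtCoh.bc g).obj V).hom) (g := k))).trans ?_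
    refine Eq.trans ?_ (congrArg (b.left ≫ ·) (pullback.condition (f := ((EtCoh.bc g).obj V).hom) (g := k))).symm
    exact (Category.assoc _ _ _).symm.trans ((congrArg (· ≫ k) hs).trans (Category.assoc _ _ _))

theorem homEquiv_comp (k : X ⟶ Y) (g : Y ⟶ Z) {h : X ⟶ Z} (w : h = k ≫ g) {F : EtCoh.Ab Z} {G : EtCoh.Ab Y}
    {M : EtCoh.Ab X} (a : (EtCoh.pull g).obj F ⟶ G) (b : (EtCoh.pull k).obj G ⟶ M) :
    (EtCoh.pullPushAdj h).homEquiv _ _
        ((EtCore.pullCongr w ≪≫ EtCore.pullComp k g).hom.app F ≫ (EtCoh.pull k).map a ≫ b) =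
      (EtCoh.pullPushAdj g).homEquiv _ _ a ≫ (EtCoh.push g).map ((EtCoh.pullPushAdj k).homEquiv _ _ b) ≫
        (EtCoh.pushComp g k).hom.app M ≫ (EtCoh.pushCongr w.symm).hom.app M := by
  subst w
  have hc : (EtCoh.pushCongr (rfl : k ≫ g = k ≫ g)).hom.app M = 𝟙 _ := by
    ext V : 3
    refine (congrArg (fun r => M.obj.map (Quiver.Hom.op r)) (?_ : _ = 𝟙 _)).trans (M.obj.map_id _)
    simp [MorphismProperty.Over.pullbackCongr]
    refine MorphismProperty.Over.Hom.ext ?_
    simp [pullback.congrHom]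
    rfl
  have hp : (EtCore.pullCongr (rfl : k ≫ g = k ≫ g) ≪≫ EtCore.pullComp k g).hom.app F =
      (EtCore.pullComp k g).hom.app F := by
    simp [EtCore.pullCongr]
  rw [hp, hc, Category.comp_id, Adjunction.homEquiv_naturality_right]
  refine (congrArg (· ≫ _) (Adjunction.homEquiv_leftAdjointUniq_hom_app (EtCoh.pullPushAdj (k ≫ g))
    (((EtCoh.pullPushAdj g).comp (EtCoh.pullPushAdj k)).ofNatIsoRight (EtCoh.pushComp g k)) F)).trans ?_
  rw [Adjunction.ofNatIsoRight_unit]
  simp only [NatTrans.comp_app, Functor.whiskerLeft_app, Adjunction.comp_unit_app, Category.assoc, Functor.comp_obj]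
  rw [Adjunction.homEquiv_unit, Adjunction.homEquiv_unit, Functor.map_comp]
  have n1 := (EtCoh.pushComp g k).hom.naturality ((EtCoh.pull k).map a ≫ b)
  simp only [Functor.comp_map] at n1
  refine (congrArg (_ ≫ ·) (congrArg (_ ≫ ·) n1.symm)).trans ?_
  rw [Functor.map_comp, Functor.map_comp]
  simp only [Category.assoc]
  have n2 := congrArg (EtCoh.push g).map ((EtCoh.pullPushAdj k).unit.naturality a)
  simp only [Functor.map_comp, Functor.id_map, Functor.comp_map] at n2
  exact congrArg (_ ≫ ·) (((Category.assoc _ _ _).symm.trans (congrArg (· ≫ _) n2.symm)).trans (Category.assoc _ _ _))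

theorem homEquiv_comp_apply (k : X ⟶ Y) (g : Y ⟶ Z) {h : X ⟶ Z} (w : h = k ≫ g) {F : EtCoh.Ab Z} {G : EtCoh.Ab Y}
    {M : EtCoh.Ab X} (a : (EtCoh.pull g).obj F ⟶ G) (b : (EtCoh.pull k).obj G ⟶ M) (V : Z.Etale)
    (s : F.obj.obj (op V)) :
    (((EtCoh.pullPushAdj h).homEquiv _ _
        ((EtCore.pullCongr w ≪≫ EtCore.pullComp k g).hom.app F ≫ (EtCoh.pull k).map a ≫ b)).hom.app (op V)).hom s =
      (M.obj.map (bcCompMap k g w V).op).hom
        ((((EtCoh.pullPushAdj k).homEquiv _ _ b).hom.app (op ((EtCoh.bc g).obj V))).hom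
          ((((EtCoh.pullPushAdj g).homEquiv _ _ a).hom.app (op V)).hom s)) := by
  rw [homEquiv_comp k g w a b]
  exact (Functor.map_comp_apply M.obj _ _ _).symm

end Groth.Agent.EtLim64
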