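import Groth.Prelude.Def_EtBase
import Mathlib.CategoryTheory.Filtered.Final
import Mathlib.CategoryTheory.Filtered.Basic

/-!
# The indices after a given one
-/

set_option autoImplicit false
set_option linter.style.haveILetI false

universe u

open CategoryTheory CategoryTheory.Limits AlgebraicGeometry Opposite

namespace Groth.Agent.EtLim64

variable {ι : Type u} [Preorder ι] [IsDirected ι (· ≤ ·)]

/-- The indices after a given one. -/
abbrev Aft (i₀ : ι) : Type u := {j : ι // i₀ ≤ j}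

instance nonempty_aft (i₀ : ι) : Nonempty (Aft i₀) := ⟨⟨i₀, le_rfl⟩⟩

instance isDirected_aft (i₀ : ι) : IsDirected (Aft i₀) (· ≤ ·) := ⟨fun a b => by
  obtain ⟨c, ha, hb⟩ := directed_of (α := ι) (· ≤ ·) a.1 b.1
  exact ⟨⟨c, a.2.trans ha⟩, ha, hb⟩⟩

/-- The inclusion of the indices after a given one. -/
def aftFun (i₀ : ι) : Aft i₀ ⥤ ι := (Subtype.mono_coe (fun j : ι => i₀ ≤ j)).functor

instance final_aftFun (i₀ : ι) : (aftFun i₀).Final := by
  haveI : Nonempty ι := ⟨i₀⟩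
  haveI : (aftFun i₀).Faithful := ⟨fun _ => Subsingleton.elim _ _⟩
  haveI : (aftFun i₀).Full := ⟨fun {a b} f => ⟨homOfLE (leOfHom f : a.1 ≤ b.1), Subsingleton.elim _ _⟩⟩
  refine Functor.final_of_exists_of_isFiltered_of_fullyFaithful _ fun d => ?_
  obtain ⟨c, ha, hb⟩ := directed_of (α := ι) (· ≤ ·) d i₀
  exact ⟨⟨c, hb⟩, ⟨homOfLE ha⟩⟩

end Groth.Agent.EtLim64
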