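import Groth.Agent.EtLim64.AdjComp
import Groth.Agent.EtEff48.HFunctor
import Groth.Prelude.Def_EtLim

/-!
# The canonical maps from the cohomology of a direct image and base change
-/

set_option autoImplicit false
set_option maxHeartbeats 1000000
set_option maxRecDepth 10000
set_option backward.isDefEq.respectTransparency.types false
set_option linter.style.haveILetI false

universe u

open CategoryTheory CategoryTheory.Limits AlgebraicGeometry Opposite CategoryTheory.Abelian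

namespace Groth.Agent.EtLim64

open EtEff48.HFun (θ pullConst_θ ext_comp_aux)

variable {X Y X' Y' : Scheme.{u}}

theorem θ_inv_app {A B C : Scheme.{u}} (k : A ⟶ B) (t : B ⟶ C) (c : A ⟶ C) (w : k ≫ t = c) (F : EtCoh.Ab C) :
    (θ k t c w).inv.app F = (EtCore.pullCongr w.symm ≪≫ EtCore.pullComp k t).hom.app F := by
  subst w
  simp [θ, EtCore.pullCongr]

theorem pushCongr_hom_symm {f f' : X ⟶ Y} (h : f = f') (M : EtCoh.Ab X) :
    (EtCoh.pushCongr h).hom.app M ≫ (EtCoh.pushCongr h.symm).hom.app M = 𝟙 _ := by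
  subst h
  have e : (EtCoh.pushCongr (rfl : f = f)).hom.app M = 𝟙 _ := by
    ext V : 3
    refine (congrArg (fun r => M.obj.map (Quiver.Hom.op r)) (?_ : _ = 𝟙 _)).trans (M.obj.map_id _)
    simp [MorphismProperty.Over.pullbackCongr]
    refine MorphismProperty.Over.Hom.ext ?_
    simp [pullback.congrHom]
    rfl
  rw [e, Category.comp_id]

theorem baseChange0_counit (f : X ⟶ Y) (g : Y' ⟶ Y) (f' : X' ⟶ Y') (g' : X' ⟶ X) (w : g' ≫ f = f' ≫ g)
    (F : EtCoh.Ab X) :
    (EtCoh.pull f').map (EtCoh.baseChange0 f g f' g' w F) ≫ (EtCoh.pullPushAdj f').counit.app ((EtCoh.pull g').obj F) =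
      (θ f' g (g' ≫ f) w.symm).hom.app ((EtCoh.push f).obj F) ≫
        (θ g' f (g' ≫ f) rfl).inv.app ((EtCoh.push f).obj F) ≫
          (EtCoh.pull g').map ((EtCoh.pullPushAdj f).counit.app F) := by
  rw [← cancel_epi ((θ f' g (g' ≫ f) w.symm).inv.app ((EtCoh.push f).obj F)), Iso.inv_hom_id_app_assoc,
    θ_inv_app, θ_inv_app]
  apply ((EtCoh.pullPushAdj (g' ≫ f)).homEquiv _ _).injective
  refine (homEquiv_comp f' g w.symm.symm (EtCoh.baseChange0 f g f' g' w F)
    ((EtCoh.pullPushAdj f').counit.app ((EtCoh.pull g').obj F))).trans ?_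
  refine Eq.trans ?_ ((congrArg ((EtCoh.pullPushAdj (g' ≫ f)).homEquiv _ _)
    (congrArg ((EtCore.pullCongr (rfl : g' ≫ f = g' ≫ f) ≪≫ EtCore.pullComp g' f).hom.app _ ≫ ·)
      (Category.comp_id ((EtCoh.pull g').map ((EtCoh.pullPushAdj f).counit.app F))).symm)).symm.symm.trans
    (homEquiv_comp g' f rfl ((EtCoh.pullPushAdj f).counit.app F) (𝟙 _))).symm
  have e1 : (EtCoh.pullPushAdj f).homEquiv _ _ ((EtCoh.pullPushAdj f).counit.app F) = 𝟙 ((EtCoh.push f).obj F) :=
    ((EtCoh.pullPushAdj f).homEquiv_unit _ _ _).trans ((EtCoh.pullPushAdj f).right_triangle_components F)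
  have e2 : (EtCoh.pullPushAdj f').homEquiv _ _ ((EtCoh.pullPushAdj f').counit.app ((EtCoh.pull g').obj F)) =
      𝟙 ((EtCoh.push f').obj ((EtCoh.pull g').obj F)) :=
    ((EtCoh.pullPushAdj f').homEquiv_unit _ _ _).trans ((EtCoh.pullPushAdj f').right_triangle_components _)
  have e3 : (EtCoh.pullPushAdj g').homEquiv _ _ (𝟙 ((EtCoh.pull g').obj F)) = (EtCoh.pullPushAdj g').unit.app F :=
    (EtCoh.pullPushAdj g').homEquiv_id F
  have e4 : (EtCoh.pullPushAdj g).homEquiv _ _ (EtCoh.baseChange0 f g f' g' w F) =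
      (EtCoh.push f).map ((EtCoh.pullPushAdj g').unit.app F) ≫ (EtCoh.pushComp f g').hom.app _ ≫
        (EtCoh.pushCongr w).hom.app _ ≫ (EtCoh.pushComp g f').inv.app _ :=
    ((EtCoh.pullPushAdj g).homEquiv _ _).apply_symm_apply _
  have hid : (EtCoh.pushCongr (rfl : g' ≫ f = g' ≫ f)).hom.app ((EtCoh.pull g').obj F) = 𝟙 _ := by
    ext V : 3
    refine (congrArg (fun r => ((EtCoh.pull g').obj F).obj.map (Quiver.Hom.op r)) (?_ : _ = 𝟙 _)).trans
      (CategoryTheory.Functor.map_id _ _)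
    simp [MorphismProperty.Over.pullbackCongr]
    refine MorphismProperty.Over.Hom.ext ?_
    simp [pullback.congrHom]
    rfl
  refine (congr (congrArg (· ≫ ·) e4) ((congrArg (· ≫ _) ((congrArg (EtCoh.push g).map e2).trans
    ((EtCoh.push g).map_id _))).trans (Category.id_comp _))).trans ?_
  refine Eq.trans ?_ ((congr (congrArg (· ≫ ·) e1) (congr (congrArg (· ≫ ·) (congrArg (EtCoh.push f).map e3))
    ((congrArg (_ ≫ ·) hid).trans (Category.comp_id _)))).trans (Category.id_comp _)).symm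
  refine (Category.assoc _ _ _).trans (congrArg ((EtCoh.push f).map ((EtCoh.pullPushAdj g').unit.app F) ≫ ·) ?_)
  refine (Category.assoc _ _ _).trans ?_
  refine (congrArg (_ ≫ ·) ((Category.assoc _ _ _).trans ((congrArg (_ ≫ ·)
    (Iso.inv_hom_id_app_assoc (EtCoh.pushComp g f') _ _)).trans (pushCongr_hom_symm w _)))).trans ?_
  exact Category.comp_id _

theorem hofPush_baseChange (f : X ⟶ Y) (g : Y' ⟶ Y) (f' : X' ⟶ Y') (g' : X' ⟶ X) (w : g' ≫ f = f' ≫ g)
    (F : EtCoh.Ab X) (q : ℕ)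
    [PreservesFiniteLimits (EtCoh.pull f)] [PreservesFiniteLimits (EtCoh.pull g)]
    [PreservesFiniteLimits (EtCoh.pull f')] [PreservesFiniteLimits (EtCoh.pull g')]
    (ζ : EtCoh.H Y ((EtCoh.push f).obj F) q) :
    EtCore.Hpull g' F q (EtLim.HofPush f F q ζ) =
      EtLim.HofPush f' ((EtCoh.pull g').obj F) q
        (((EtCoh.HF Y' q).map (EtCoh.baseChange0 f g f' g' w F)).hom
          (EtCore.Hpull g ((EtCoh.push f).obj F) q ζ)) := by
  haveI : PreservesFiniteLimits (EtCoh.pull (g' ≫ f)) := EtFound.pull_preservesFiniteLimits _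
  let tk : (EtCoh.pull (g' ≫ f)).obj ((EtCoh.push f).obj F) ⟶ (EtCoh.pull g').obj F :=
    (θ g' f (g' ≫ f) rfl).inv.app ((EtCoh.push f).obj F) ≫ (EtCoh.pull g').map ((EtCoh.pullPushAdj f).counit.app F)
  have h1 := ext_comp_aux (EtCoh.pull f) (EtCoh.pull g') (EtCoh.pull (g' ≫ f)) (θ g' f (g' ≫ f) rfl).hom
    (EtCore.pullConst f ℤ).inv (EtCore.pullConst g' ℤ).inv (EtCore.pullConst (g' ≫ f) ℤ).inv
    ((EtCoh.pullPushAdj f).counit.app F) (𝟙 _) tk (pullConst_θ g' f (g' ≫ f) rfl)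
    ((Category.comp_id _).trans (Iso.hom_inv_id_app_assoc (θ g' f (g' ≫ f) rfl) _ _).symm) ζ
  have h2 := ext_comp_aux (EtCoh.pull g) (EtCoh.pull f') (EtCoh.pull (g' ≫ f)) (θ f' g (g' ≫ f) w.symm).hom
    (EtCore.pullConst g ℤ).inv (EtCore.pullConst f' ℤ).inv (EtCore.pullConst (g' ≫ f) ℤ).inv
    (EtCoh.baseChange0 f g f' g' w F) ((EtCoh.pullPushAdj f').counit.app ((EtCoh.pull g').obj F)) tk
    (pullConst_θ f' g (g' ≫ f) w.symm) (baseChange0_counit f g f' g' w F) ζ
  exact ((Ext.comp_mk₀_id _).symm.trans h1.symm).trans h2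

end Groth.Agent.EtLim64
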