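import Groth.Agent.EtLim64.Descent
import Mathlib.RingTheory.Smooth.NoetherianDescent
import Groth.Agent.AlgSpDec.LimAffineModel

/-!
# Etale schemes over the limit come, locally, from finite stages
-/

set_option autoImplicit false
set_option backward.isDefEq.respectTransparency.types false

universe u

open CategoryTheory CategoryTheory.Limits AlgebraicGeometry Opposite TensorProduct

namespace Groth.Agent.EtLim64

variable {ι : Type u} [Preorder ι] [IsDirected ι (· ≤ ·)] [Nonempty ι]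

set_option backward.isDefEq.respectTransparency false in
/-- An étale morphism of affine schemes is pulled back from one between schemes of finite presentation
over the integers. -/
theorem exists_model {U S : Scheme.{u}} [IsAffine U] [IsAffine S] (π : U ⟶ S) [Etale π] :
    ∃ (Y U₀ : Scheme.{u}) (q : S ⟶ Y) (π₀ : U₀ ⟶ Y) (q' : U ⟶ U₀), IsAffine U₀ ∧ IsAffine Y ∧ Etale π₀ ∧
      LocallyOfFinitePresentation (terminal.from Y) ∧ IsPullback q' π π₀ q := by
  let A := Γ(S, ⊤)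
  let B := Γ(U, ⊤)
  have het : π.appTop.hom.Etale := (HasRingHomProperty.iff_of_isAffine (P := @Etale)).1 ‹_›
  letI := π.appTop.hom.toAlgebra
  haveI : Algebra.Etale A B := het
  obtain ⟨A₀, B₀, _, _, hA₀, hB₀, ⟨e⟩⟩ := Algebra.Etale.exists_subalgebra_fg (R := ℤ) (A := A) (B := B)
  let f₀ := Spec.map (CommRingCat.ofHom (algebraMap A₀ B₀))
  have hf₀ : Etale f₀ := HasRingHomProperty.Spec_iff.2 (RingHom.etale_algebraMap.mpr hB₀)
  have sq0 : IsPullback (Spec.map (CommRingCat.ofHom (Algebra.TensorProduct.includeRight (R := A₀) (A := A) (B := B₀)).toRingHom))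
      (Spec.map (CommRingCat.ofHom (Algebra.TensorProduct.includeLeftRingHom (R := A₀) (A := A) (B := B₀))))
      f₀ (Spec.map (CommRingCat.ofHom (algebraMap A₀ A))) :=
    (isPullback_SpecMap_of_isPushout _ _ _ _ (CommRingCat.isPushout_tensorProduct A₀ A B₀)).flip
  let eU : U ⟶ Spec (CommRingCat.of (A ⊗[A₀] B₀)) :=
    U.isoSpec.hom ≫ Spec.map (CommRingCat.ofHom e.symm.toRingEquiv.toRingHom)
  have : IsIso (CommRingCat.ofHom e.symm.toRingEquiv.toRingHom) :=
    e.symm.toRingEquiv.toCommRingCatIso.isIso_hom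
  have : IsIso eU := inferInstance
  have heU : eU ≫ Spec.map (CommRingCat.ofHom (Algebra.TensorProduct.includeLeftRingHom (R := A₀) (A := A) (B := B₀))) =
      π ≫ S.isoSpec.hom := by
    change (U.isoSpec.hom ≫ _) ≫ _ = _
    rw [Category.assoc, ← Spec.map_comp]
    refine Eq.trans ?_ (Scheme.isoSpec_hom_naturality π)
    refine congrArg (fun r => U.isoSpec.hom ≫ Spec.map r) (CommRingCat.hom_ext (RingHom.ext fun a => ?_))
    exact e.symm.commutes a
  exact ⟨_, _, _, f₀, _, inferInstance, inferInstance, hf₀,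
    AlgSpDec.locallyOfFinitePresentation_terminal_of_fg A₀ hA₀,
    (IsPullback.of_horiz_isIso ⟨heU⟩ : IsPullback eU π _ S.isoSpec.hom).paste_horiz sq0⟩

namespace Tower

variable (T : Tower ι)

/-- Every point of an étale scheme over the limit has a neighbourhood coming from a stage. -/
theorem exists_basis (U : T.lim.Etale) (x : U.left) :
    ∃ (A : Obj T) (g : T.toLim.obj A ⟶ U) (y : (T.toLim.obj A).left),
      IsAffine A.sch ∧ IsQcqs A ∧ g.left.base y = x := by
  have : ∀ {a b : ιᵒᵖ} (h : a ⟶ b), IsAffineHom (T.Xs.map h) := fun h => T.haff h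
  obtain ⟨i⟩ := ‹Nonempty ι›
  obtain ⟨V, hV, hxV⟩ : ∃ V : (T.obj i).Opens, IsAffineOpen V ∧ (T.pr i).base (U.hom.base x) ∈ V := by
    obtain ⟨_, ⟨V, hV : IsAffineOpen V, rfl⟩, hxV, -⟩ := (T.obj i).isBasis_affineOpens.exists_subset_of_mem_open
      (Set.mem_univ ((T.pr i).base (U.hom.base x))) isOpen_univ
    exact ⟨V, hV, hxV⟩
  have hT : IsAffineOpen (T.pr i ⁻¹ᵁ V) := hV.preimage _
  obtain ⟨U', hU', hxU, hle⟩ : ∃ U' : U.left.Opens, IsAffineOpen U' ∧ x ∈ U' ∧ U' ≤ U.hom ⁻¹ᵁ (T.pr i ⁻¹ᵁ V) := by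
    obtain ⟨_, ⟨U', hU' : IsAffineOpen U', rfl⟩, hxU, hle⟩ := U.left.isBasis_affineOpens.exists_subset_of_mem_open
      (u := ((U.hom ⁻¹ᵁ (T.pr i ⁻¹ᵁ V)).carrier)) hxV (U.hom ⁻¹ᵁ (T.pr i ⁻¹ᵁ V)).2
    exact ⟨U', hU', hxU, hle⟩
  haveI : IsAffine (U' : Scheme.{u}) := hU'
  haveI : IsAffine (T.pr i ⁻¹ᵁ V : Scheme.{u}) := hT
  haveI : Etale U.hom := U.prop
  let π : (U' : Scheme.{u}) ⟶ (T.pr i ⁻¹ᵁ V : Scheme.{u}) := U.hom.resLE _ U' hle
  have : Etale π := MorphismProperty.comp_mem (@Etale : MorphismProperty Scheme.{u}) _ _ inferInstance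
    (IsZariskiLocalAtTarget.restrict (P := @Etale) ‹_› _)
  obtain ⟨Y, U₀, q, π₀, q', hU₀, hY, hπ₀, hlfp, sq⟩ := exists_model π
  haveI := hU₀
  haveI := hY
  haveI := hπ₀
  haveI := hlfp
  let D := opensDiagram T.Xs (op i) V
  have hD : ∀ l, IsAffine (D.obj l) := fun l => hV.preimage _
  have : ∀ l, CompactSpace ↥(D.obj l) := fun l => (hD l).casesOn fun _ => inferInstance
  have : ∀ l, QuasiSeparatedSpace ↥(D.obj l) := fun l => have := hD l; inferInstance
  let t : D ⟶ (Functor.const _).obj (⊤_ Scheme.{u}) :=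
    { app := fun l => terminal.from _
      naturality := fun l m g => terminalIsTerminal.hom_ext _ _ }
  obtain ⟨l, g, hg, -⟩ := Scheme.exists_π_app_comp_eq_of_locallyOfFinitePresentation D t (terminal.from Y)
    (opensCone T.Xs T.c (op i) V) (isLimitOpensCone T.Xs T.c T.hc (op i) V) q
    (by ext m : 2; exact terminalIsTerminal.hom_ext _ _)
  haveI := hD l
  let W := pullback π₀ g
  let O : (T.obj (unop l.left)).Opens := T.Xs.map l.hom ⁻¹ᵁ V
  let j : (O : Scheme.{u}) ⟶ T.obj (unop l.left) := O.ι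
  let O' : T.lim.Opens := T.pr i ⁻¹ᵁ V
  have : IsOpenImmersion j := inferInstanceAs (IsOpenImmersion O.ι)
  haveI : IsAffine W := inferInstanceAs (IsAffine (pullback π₀ g))
  let s : W ⟶ T.obj (unop l.left) := pullback.snd π₀ g ≫ j
  have : Etale s := MorphismProperty.comp_mem (@Etale : MorphismProperty Scheme.{u}) _ _
    (MorphismProperty.pullback_snd (P := @Etale) _ _ hπ₀) (inferInstance : Etale O.ι)
  let A : Obj T := ⟨unop l.left, Scheme.Etale.mk s⟩
  let πl := (opensCone T.Xs T.c (op i) V).π.app l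
  have sq2 : IsPullback (pullback.lift q' (π ≫ πl) (sq.w.trans ((congrArg (π ≫ ·) hg.symm).trans (Category.assoc _ _ _).symm))) π
      (pullback.snd π₀ g) πl :=
    IsPullback.of_right ((congrArg₂ (fun a b => IsPullback a π π₀ b) (pullback.lift_fst _ _ _) hg).mpr sq)
      (pullback.lift_snd _ _ _)
      (IsPullback.of_hasPullback π₀ g)
  have : IsOpenImmersion O'.ι := inferInstance
  have sq3 : IsPullback πl O'.ι j (T.pr (unop l.left)) := by
    refine @IsOpenImmersion.isPullback _ _ _ _ πl O'.ι j (T.pr (unop l.left)) ‹IsOpenImmersion O'.ι› ‹IsOpenImmersion j› ?_ ?_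
    · exact (Scheme.Hom.resLE_comp_ι _ _).symm
    · change (T.pr (unop l.left) ⁻¹ᵁ (T.Xs.map l.hom ⁻¹ᵁ V).ι.opensRange) = (T.pr i ⁻¹ᵁ V).ι.opensRange
      change T.pr (unop l.left) ⁻¹ᵁ O.ι.opensRange = O'.ι.opensRange
      rw [Scheme.Opens.opensRange_ι, Scheme.Opens.opensRange_ι, ← Scheme.Hom.comp_preimage]
      exact congrArg (· ⁻¹ᵁ V) (T.c.w l.hom)
  have sq4 := sq2.paste_vert sq3
  let e := sq4.isoPullback
  have he : e.inv ≫ π ≫ (T.pr i ⁻¹ᵁ V).ι = pullback.snd s (T.pr (unop l.left)) :=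
    sq4.isoPullback_inv_snd
  refine ⟨A, MorphismProperty.Over.homMk (e.inv ≫ U'.ι) ?_ trivial,
    e.hom.base (⟨x, hxU⟩ : (U' : Scheme.{u})), ‹IsAffine W›, @EtFound.isQcqsObj_of_isAffine _ A.obj ‹IsAffine W›, ?_⟩
  · refine (Category.assoc _ _ _).trans (Eq.trans ?_ he)
    exact congrArg (e.inv ≫ ·) (Scheme.Hom.resLE_comp_ι _ _).symm
  · exact (Scheme.Hom.comp_apply _ _ _).symm.trans
      (congrArg (fun m : (U' : Scheme.{u}) ⟶ U.left => m.base (⟨x, hxU⟩ : (U' : Scheme.{u}))) (Iso.hom_inv_id_assoc e U'.ι))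

end Tower

end Groth.Agent.EtLim64
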