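import Groth.Agent.EtLim64.Comparison
import Groth.Agent.EtLim64.HpullOps
import Groth.Prelude.Def_EtGm

/-!
# Passage to the limit for a sheaf on schemes which commutes with limits of qcqs schemes
-/

set_option autoImplicit false
set_option maxHeartbeats 1000000
set_option maxRecDepth 10000
set_option backward.isDefEq.respectTransparency.types false
set_option linter.style.haveILetI false
set_option linter.unusedSectionVars false

universe u

open CategoryTheory CategoryTheory.Limits AlgebraicGeometry Opposite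

namespace Groth.Agent.EtLim64

/-- A presheaf of groups on schemes takes limits of qcqs schemes along affine maps to colimits. -/
structure CommutesLimits (R : Scheme.{u}ᵒᵖ ⥤ AddCommGrpCat.{u + 1}) : Prop where
  surj : ∀ {I : Type u} [SmallCategory I] [IsCofiltered I] (D : I ⥤ Scheme.{u}) (c : Cone D) (_ : IsLimit c)
    [∀ {i j} (f : i ⟶ j), IsAffineHom (D.map f)] [∀ i, CompactSpace ↥(D.obj i)]
    [∀ i, QuasiSeparatedSpace ↥(D.obj i)] (z : R.obj (op c.pt)),
    ∃ (i : I) (t : R.obj (op (D.obj i))), (R.map (c.π.app i).op).hom t = z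
  inj : ∀ {I : Type u} [SmallCategory I] [IsCofiltered I] (D : I ⥤ Scheme.{u}) (c : Cone D) (_ : IsLimit c)
    [∀ {i j} (f : i ⟶ j), IsAffineHom (D.map f)] [∀ i, CompactSpace ↥(D.obj i)]
    [∀ i, QuasiSeparatedSpace ↥(D.obj i)] {i : I} (t : R.obj (op (D.obj i))),
    (R.map (c.π.app i).op).hom t = 0 → ∃ (j : I) (f : j ⟶ i), (R.map (D.map f).op).hom t = 0

variable (R : Sheaf Scheme.etaleTopology.{u} AddCommGrpCat.{u + 1})

/-- The restriction to a small etale site. -/
noncomputable def smallOf (X : Scheme.{u}) : EtCoh.Ab X :=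
  ((Scheme.Etale.forget X ⋙ CategoryTheory.Over.forget X).sheafPushforwardContinuous AddCommGrpCat.{u + 1}
    X.smallEtaleTopology Scheme.etaleTopology).obj R

/-- Functoriality in the scheme. -/
noncomputable def smallPush {X Y : Scheme.{u}} (f : X ⟶ Y) : smallOf R Y ⟶ (EtCoh.push f).obj (smallOf R X) :=
  ObjectProperty.homMk (Functor.whiskerRight (NatTrans.op (EtLim.bcProj f)) R.obj)

/-- Functoriality in cohomology. -/
noncomputable def smallPull {X Y : Scheme.{u}} (f : X ⟶ Y) [PreservesFiniteLimits (EtCoh.pull f)] (n : ℕ) :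
    EtCoh.H Y (smallOf R Y) n →+ EtCoh.H X (smallOf R X) n :=
  EtLim.HpullThen f (smallOf R Y) (((EtCoh.pullPushAdj f).homEquiv _ _).symm (smallPush R f)) n

namespace Tower

variable {ι : Type u} [Preorder ι] [IsDirected ι (· ≤ ·)] [Nonempty ι] (T : Tower ι)

/-- The scheme underlying an object. -/
noncomputable def schFun : Obj T ⥤ Scheme.{u} where
  obj A := A.sch
  map f := f.map

/-- A big sheaf as a system. -/
noncomputable def bigSys : T.Sys :=
  ⟨T.schFun.op ⋙ R.obj, by
    rw [Presheaf.isSheaf_iff_isSheaf_forget _ _ (forget AddCommGrpCat.{u + 1})]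
    exact (isSheaf_iff_isSheaf_of_type _ _).2 (T.isSheaf_of_restrictions _ fun i => isSheaf_type (smallOf R (T.obj i)))⟩

/-- The tautological map to the limit. -/
noncomputable def bigToLim : T.bigSys R ⟶ T.pushAll.obj (smallOf R T.lim) :=
  ObjectProperty.homMk
    { app := fun A => R.obj.map (pullback.fst A.unop.str (T.pr A.unop.stage)).op
      naturality := fun A B f => by
        refine (R.obj.map_comp _ _).symm.trans (Eq.trans ?_ (R.obj.map_comp _ _))
        exact congrArg R.obj.map (op_comp.symm.trans ((congrArg Quiver.Hom.op (T.toLim_map_fst f.unop)).symm.trans op_comp)) }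

/-- The comparison. -/
noncomputable def bigΘ : T.colimF.obj (T.bigSys R) ⟶ smallOf R T.lim :=
  (T.colimAdj.homEquiv _ _).symm (T.bigToLim R)

theorem bigΘ_atLim {A : Obj T} (s : (T.bigSys R).obj.obj (op A)) :
    ((T.bigΘ R).hom.app (op (T.toLim.obj A))).hom (atLim (T.bigSys R) s) =
      (R.obj.map (pullback.fst A.str (T.pr A.stage)).op).hom s :=
  ConcreteCategory.congr_hom (congrArg (fun m : T.bigSys R ⟶ T.pushAll.obj (smallOf R T.lim) => m.hom.app (op A))
    ((Adjunction.homEquiv_unit _ _ _ _).symm.trans ((T.colimAdj.homEquiv _ _).apply_symm_apply (T.bigToLim R)))) s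

theorem bigΘ_bijective (hR : CommutesLimits R.obj) {A : Obj T} (hA : IsQcqs A) :
    Function.Bijective ((T.bigΘ R).hom.app (op (T.toLim.obj A))).hom := by
  haveI := fun l => (qcqs_diag hA l).1
  haveI := fun l => (qcqs_diag hA l).2
  refine ⟨(injective_iff_map_eq_zero _).2 fun t ht => ?_, fun z => ?_⟩
  · obtain ⟨k, h, u, hu⟩ := exists_stage (T.bigSys R) hA t
    let l : CategoryTheory.Over (op A.stage) := CategoryTheory.Over.mk (homOfLE h).op
    have h0 : (R.obj.map ((diagCone A).π.app l).op).hom u = 0 := by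
      have h1 : (R.obj.map (pullback.fst (T.pullTo A h).str (T.pr k)).op).hom u = 0 := by
        refine (T.bigΘ_atLim R u).symm.trans ?_
        refine (congrArg ((T.bigΘ R).hom.app (op (T.toLim.obj (T.pullTo A h)))).hom hu).trans ?_
        refine (NatTrans.naturality_apply (T.bigΘ R).hom (T.toLim.map (T.proj A h)).op t).trans ?_
        exact (congrArg ((smallOf R T.lim).obj.map (T.toLim.map (T.proj A h)).op).hom ht).trans (map_zero _)
      refine Eq.trans ?_ ((congrArg (R.obj.map (T.toLimProjInv A h).left.op).hom h1).trans (map_zero _))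
      refine Eq.trans ?_ (Functor.map_comp_apply R.obj _ _ u)
      refine congrArg (fun r => (R.obj.map r).hom u) (Eq.trans ?_ op_comp)
      exact congrArg Quiver.Hom.op (pullback.lift_fst _ _ _).symm
    obtain ⟨m, g, hm⟩ := hR.inj (diag A) (diagCone A) (isLimitDiagCone A) (i := l) u h0
    have hmk : k ≤ unop m.left := leOfHom g.left.unop
    haveI := T.isIso_toLim_proj (T.pullTo A h) hmk
    have hmn : A.stage ≤ unop m.left := h.trans hmk
    let q : T.pullTo A hmn ⟶ T.pullTo A h := T.liftTo (T.proj A hmn) h hmk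
    have h2 : atLim (T.bigSys R) u = 0 := by
      have hq : T.toLim.map q ≫ T.toLim.map (T.proj A h) = T.toLim.map (T.proj A hmn) :=
        (T.toLim.map_comp _ _).symm.trans (congrArg T.toLim.map (T.liftTo_proj _ _ _))
      haveI := T.isIso_toLim_proj A h
      haveI := T.isIso_toLim_proj A hmn
      haveI : IsIso (T.toLim.map q) := by
        rw [show T.toLim.map q = T.toLim.map (T.proj A hmn) ≫ inv (T.toLim.map (T.proj A h)) from
          (IsIso.eq_comp_inv _).2 hq]
        infer_instance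
      have h3 : ((T.colimF.obj (T.bigSys R)).obj.map (T.toLim.map q).op).hom (atLim (T.bigSys R) u) = 0 :=
        (atLim_map (T.bigSys R) q u).symm.trans ((congrArg (atLim (T.bigSys R)) hm).trans (atLim_zero _ _))
      refine Eq.trans ?_ ((congrArg ((T.colimF.obj (T.bigSys R)).obj.map (inv (T.toLim.map q)).op).hom h3).trans
        (map_zero _))
      exact (ab_map_map_id (T.colimF.obj (T.bigSys R)).obj _ _ (IsIso.inv_hom_id _) _).symm
    refine Eq.trans ?_ ((congrArg ((T.colimF.obj (T.bigSys R)).obj.map (T.toLimProjInv A h).op).hom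
      (hu.symm.trans h2)).trans (map_zero _))
    exact (ab_map_map_id (T.colimF.obj (T.bigSys R)).obj _ _ (toLimProjInv_proj A h) t).symm
  · obtain ⟨l, u, hu⟩ := hR.surj (diag A) (diagCone A) (isLimitDiagCone A) z
    have h : A.stage ≤ unop l.left := leOfHom l.hom.unop
    refine ⟨((T.colimF.obj (T.bigSys R)).obj.map (T.toLimProjInv A h).op).hom (atLim (T.bigSys R) (A := T.pullTo A h) u), ?_⟩
    refine (NatTrans.naturality_apply (T.bigΘ R).hom (T.toLimProjInv A h).op _).trans ?_
    refine (congrArg ((smallOf R T.lim).obj.map (T.toLimProjInv A h).op).hom (T.bigΘ_atLim R (A := T.pullTo A h) u)).trans ?_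
    refine Eq.trans ?_ hu
    refine (Functor.map_comp_apply R.obj _ _ u).symm.trans ?_
    refine congrArg (fun r => (R.obj.map r).hom u) (op_comp.symm.trans ?_)
    exact congrArg Quiver.Hom.op (pullback.lift_fst _ _ _)

theorem isIso_bigΘ (hR : CommutesLimits R.obj) : IsIso (T.bigΘ R) := by
  refine (Sheaf.isLocallyBijective_iff_isIso _).1 ⟨⟨fun {U} x y h => ?_⟩, ⟨fun {U} z => ?_⟩⟩
  · refine (EtFound.mem_topology_iff _).2 fun p => ?_
    obtain ⟨A, g, w, -, hA, hw⟩ := T.exists_basis U.unop p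
    refine ⟨_, g, w, (T.bigΘ_bijective R hR hA).1 ?_, hw⟩
    refine (NatTrans.naturality_apply _ g.op x).trans (Eq.trans ?_ (NatTrans.naturality_apply _ g.op y).symm)
    exact congrArg _ h
  · refine (EtFound.mem_topology_iff _).2 fun p => ?_
    obtain ⟨A, g, w, -, hA, hw⟩ := T.exists_basis U p
    exact ⟨_, g, w, (T.bigΘ_bijective R hR hA).2 _, hw⟩

theorem αLim_bigΘ (i : ι) :
    (T.αLim i).app (T.bigSys R) ≫ T.bigΘ R =
      ((EtCoh.pullPushAdj (T.pr i)).homEquiv _ _).symm (smallPush R (T.pr i)) := by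
  apply ((EtCoh.pullPushAdj (T.pr i)).homEquiv _ _).injective
  refine Eq.trans ?_ (((EtCoh.pullPushAdj (T.pr i)).homEquiv _ _).apply_symm_apply (smallPush R (T.pr i))).symm
  refine ((EtCoh.pullPushAdj (T.pr i)).homEquiv_naturality_right _ _).trans ?_
  refine (congrArg (· ≫ _) (T.homEquiv_αLim i _)).trans ?_
  ext V : 3
  ext s
  exact T.bigΘ_atLim R (A := (T.incl i).obj V.unop) s

theorem βStage_bigSys {i j : ι} (h : i ≤ j) :
    (T.βStage h).app (T.bigSys R) = ((EtCoh.pullPushAdj (T.tr h)).homEquiv _ _).symm (smallPush R (T.tr h)) := by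
  refine congrArg ((EtCoh.pullPushAdj (T.tr h)).homEquiv _ _).symm ?_
  ext V : 3
  rfl

/-- Passage to the limit for a big sheaf. -/
theorem limit_big (hR : CommutesLimits R.obj) (n : ℕ) [∀ i, PreservesFiniteLimits (EtCoh.pull (T.pr i))]
    [∀ ⦃i j : ι⦄ (h : i ≤ j), PreservesFiniteLimits (EtCoh.pull (T.tr h))] :
    (∀ ξ : EtCoh.H T.lim (smallOf R T.lim) n, ∃ (j : ι) (ξj : EtCoh.H (T.obj j) (smallOf R (T.obj j)) n),
      smallPull R (T.pr j) n ξj = ξ) ∧
    (∀ (j : ι) (ξj : EtCoh.H (T.obj j) (smallOf R (T.obj j)) n), smallPull R (T.pr j) n ξj = 0 →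
      ∃ (k : ι) (hk : j ≤ k), smallPull R (T.tr hk) n ξj = 0) := by
  haveI := T.isIso_bigΘ R hR
  refine ⟨fun ξ => ?_, fun j ξj h0 => ?_⟩
  · obtain ⟨j, x, hx⟩ := T.exists_toH (T.bigSys R) n (ξ.comp (Abelian.Ext.mk₀ (inv (T.bigΘ R))) (add_zero n))
    refine ⟨j, x, ?_⟩
    have h1 : EtLim.HpullThen (T.pr j) ((T.res j).obj (T.bigSys R)) ((T.αLim j).app (T.bigSys R) ≫ T.bigΘ R) n x = ξ :=
      ((hpullThen_post (T.pr j) _ _ n x).trans
        (congrArg (fun e : EtCoh.H T.lim (T.colimF.obj (T.bigSys R)) n =>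
          e.comp (Abelian.Ext.mk₀ (T.bigΘ R)) (add_zero n)) hx)).trans
        ((Abelian.Ext.comp_assoc_of_third_deg_zero _ _ _ _).trans
          ((congrArg (fun e => Abelian.Ext.comp ξ e (add_zero n)) ((Abelian.Ext.mk₀_comp_mk₀ _ _).trans
            (congrArg Abelian.Ext.mk₀ (IsIso.inv_hom_id (T.bigΘ R))))).trans (Abelian.Ext.comp_mk₀_id ξ)))
    exact (congrArg (fun a => EtLim.HpullThen (T.pr j) _ a n x) (T.αLim_bigΘ R j)).symm.trans h1
  · have h1 : T.toH j (T.bigSys R) n ξj = 0 := by
      have h2 : EtLim.HpullThen (T.pr j) ((T.res j).obj (T.bigSys R)) ((T.αLim j).app (T.bigSys R) ≫ T.bigΘ R) n ξj = 0 :=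
        (congrArg (fun a => EtLim.HpullThen (T.pr j) _ a n ξj) (T.αLim_bigΘ R j)).trans h0
      refine Eq.trans ?_ ((congrArg (fun e : EtCoh.H T.lim (smallOf R T.lim) n =>
        e.comp (Abelian.Ext.mk₀ (inv (T.bigΘ R))) (add_zero n)) h2).trans (Abelian.Ext.zero_comp _ _ _ _ _))
      exact (congrArg (fun a => EtLim.HpullThen (T.pr j) _ a n ξj) ((Category.comp_id _).symm.trans
        ((congrArg (_ ≫ ·) (IsIso.hom_inv_id (T.bigΘ R)).symm).trans (Category.assoc _ _ _).symm))).trans
        (hpullThen_post (T.pr j) ((T.αLim j).app (T.bigSys R) ≫ T.bigΘ R) (inv (T.bigΘ R)) n ξj)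
    obtain ⟨k, hk, e⟩ := T.exists_toStage (T.bigSys R) n ξj h1
    exact ⟨k, hk, (congrArg (fun a => EtLim.HpullThen (T.tr hk) _ a n ξj) (T.βStage_bigSys R hk)).symm.trans e⟩

end Tower

end Groth.Agent.EtLim64
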