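import Mathlib.Algebra.Homology.DerivedCategory.Ext.Map
import Mathlib.Algebra.Homology.DerivedCategory.Ext.ExactSequences
import Mathlib.Algebra.Homology.DerivedCategory.Ext.EnoughInjectives
import Mathlib.CategoryTheory.Adjunction.Additive
import Mathlib.Order.Directed

/-!
# Passage to the limit for Ext groups by dimension shifting
-/

set_option autoImplicit false

universe w

open CategoryTheory CategoryTheory.Limits CategoryTheory.Abelian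

namespace Groth.Agent.EtLim64.ExtColim

section Pair

variable {𝒮 𝒜 ℬ : Type*} [Category* 𝒮] [Category* 𝒜] [Category* ℬ] [Abelian 𝒮] [Abelian 𝒜] [Abelian ℬ]
  [HasExt.{w} 𝒜] [HasExt.{w} ℬ]
  {R : 𝒮 ⥤ 𝒜} [R.Additive] [PreservesFiniteLimits R] [PreservesFiniteColimits R]
  {L : 𝒜 ⥤ ℬ} [L.Additive] [PreservesFiniteLimits L] [PreservesFiniteColimits L]
  {Φ : 𝒮 ⥤ ℬ} [Φ.Additive] [PreservesFiniteLimits Φ] [PreservesFiniteColimits Φ]
  {P : 𝒜} {Q : ℬ}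

/-- Apply `L`, compose with `p` and `α`. -/
noncomputable def tr (p : Q ⟶ L.obj P) (α : R ⋙ L ⟶ Φ) {F : 𝒮} {n : ℕ} (x : Ext P (R.obj F) n) :
    Ext Q (Φ.obj F) n :=
  ((Ext.mk₀ p).comp (x.mapExactFunctor L) (zero_add n)).comp (Ext.mk₀ (α.app F)) (add_zero n)

variable (p : Q ⟶ L.obj P) (α : R ⋙ L ⟶ Φ)

omit [Abelian 𝒮] [R.Additive] [PreservesFiniteLimits R] [PreservesFiniteColimits R] [Φ.Additive]
  [PreservesFiniteLimits Φ] [PreservesFiniteColimits Φ] in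
theorem tr_zero {F : 𝒮} (n : ℕ) : tr p α (0 : Ext P (R.obj F) n) = 0 := by
  rw [tr, Ext.mapExactFunctor_zero, Ext.comp_zero, Ext.zero_comp]

omit [Abelian 𝒮] [R.Additive] [PreservesFiniteLimits R] [PreservesFiniteColimits R] [Φ.Additive]
  [PreservesFiniteLimits Φ] [PreservesFiniteColimits Φ] in
theorem tr_add {F : 𝒮} {n : ℕ} (x y : Ext P (R.obj F) n) : tr p α (x + y) = tr p α x + tr p α y := by
  rw [tr, tr, tr, Ext.mapExactFunctor_add, Ext.comp_add, Ext.add_comp]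

omit [Abelian 𝒮] [R.Additive] [PreservesFiniteLimits R] [PreservesFiniteColimits R] [Φ.Additive]
  [PreservesFiniteLimits Φ] [PreservesFiniteColimits Φ] in
theorem tr_sub {F : 𝒮} {n : ℕ} (x y : Ext P (R.obj F) n) : tr p α (x - y) = tr p α x - tr p α y := by
  rw [eq_sub_iff_add_eq, ← tr_add, sub_add_cancel]

omit [Abelian 𝒮] [R.Additive] [PreservesFiniteLimits R] [PreservesFiniteColimits R] [Φ.Additive]
  [PreservesFiniteLimits Φ] [PreservesFiniteColimits Φ] in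
theorem tr_map {F G : 𝒮} (φ : F ⟶ G) {n : ℕ} (x : Ext P (R.obj F) n) :
    tr p α (x.comp (Ext.mk₀ (R.map φ)) (add_zero n)) = (tr p α x).comp (Ext.mk₀ (Φ.map φ)) (add_zero n) := by
  rw [tr, tr, Ext.mapExactFunctor_comp, Ext.mapExactFunctor_mk₀]
  simp only [Ext.comp_assoc_of_third_deg_zero, Ext.mk₀_comp_mk₀]
  rw [show L.map (R.map φ) ≫ α.app G = α.app F ≫ Φ.map φ from α.naturality φ]

omit [Abelian 𝒮] [R.Additive] [PreservesFiniteLimits R] [PreservesFiniteColimits R] [Φ.Additive]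
  [PreservesFiniteLimits Φ] [PreservesFiniteColimits Φ] in
theorem conn_aux {S : ShortComplex 𝒜} {U : ShortComplex ℬ} (hS : S.ShortExact) (hU : U.ShortExact)
    (b : S.map L ⟶ U) {n : ℕ} (x : Ext P S.X₃ n) :
    ((Ext.mk₀ p).comp ((x.comp hS.extClass (rfl : n + 1 = n + 1)).mapExactFunctor L) (zero_add (n + 1))).comp
        (Ext.mk₀ b.τ₁) (add_zero (n + 1)) =
      (((Ext.mk₀ p).comp (x.mapExactFunctor L) (zero_add n)).comp (Ext.mk₀ b.τ₃) (add_zero n)).comp hU.extClass rfl := by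
  rw [Ext.mapExactFunctor_comp, Ext.mapExactFunctor_extClass L hS]
  refine (congrArg (fun e => Ext.comp e (Ext.mk₀ b.τ₁) (add_zero (n + 1)))
    (Ext.comp_assoc (Ext.mk₀ p) (x.mapExactFunctor L) _ (zero_add n) (rfl : n + 1 = n + 1)
      (by omega)).symm).trans ?_
  refine (Ext.comp_assoc_of_third_deg_zero _ _ _ _).trans ?_
  refine (congrArg (fun e => Ext.comp ((Ext.mk₀ p).comp (x.mapExactFunctor L) (zero_add n)) e rfl)
    (ShortComplex.ShortExact.extClass_naturality (hS.map_of_exact L) hU b)).trans ?_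
  exact (Ext.comp_assoc_of_second_deg_zero _ _ _ _).symm

theorem tr_conn {S : ShortComplex 𝒮} (hS : S.ShortExact) {n : ℕ} (x : Ext P (R.obj S.X₃) n) :
    tr p α (F := S.X₁) (x.comp (hS.map_of_exact R).extClass rfl) =
      (tr p α x).comp (hS.map_of_exact Φ).extClass rfl := by
  let β : (S.map R).map L ⟶ S.map Φ :=
    { τ₁ := α.app S.X₁
      τ₂ := α.app S.X₂
      τ₃ := α.app S.X₃
      comm₁₂ := (α.naturality S.f).symm
      comm₂₃ := (α.naturality S.g).symm }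
  exact conn_aux p (hS.map_of_exact R) (hS.map_of_exact Φ) β x

end Pair

variable {ι : Type*} [Preorder ι] [IsDirected ι (· ≤ ·)]
  {𝒮 ℬ : Type*} [Category* 𝒮] [Category* ℬ] [Abelian 𝒮] [Abelian ℬ] [EnoughInjectives 𝒮] [HasExt.{w} ℬ]
  {𝒜 : ι → Type*} [∀ i, Category (𝒜 i)] [∀ i, Abelian (𝒜 i)] [∀ i, HasExt.{w} (𝒜 i)]
  (R : ∀ i, 𝒮 ⥤ 𝒜 i) [∀ i, (R i).Additive] [∀ i, PreservesFiniteLimits (R i)]
  [∀ i, PreservesFiniteColimits (R i)]
  (L : ∀ ⦃i j : ι⦄, i ≤ j → 𝒜 i ⥤ 𝒜 j) [∀ ⦃i j : ι⦄ (h : i ≤ j), (L h).Additive]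
  [∀ ⦃i j : ι⦄ (h : i ≤ j), PreservesFiniteLimits (L h)]
  [∀ ⦃i j : ι⦄ (h : i ≤ j), PreservesFiniteColimits (L h)]
  (Lc : ∀ i, 𝒜 i ⥤ ℬ) [∀ i, (Lc i).Additive] [∀ i, PreservesFiniteLimits (Lc i)]
  [∀ i, PreservesFiniteColimits (Lc i)]
  (Φ : 𝒮 ⥤ ℬ) [Φ.Additive] [PreservesFiniteLimits Φ] [PreservesFiniteColimits Φ]
  (P : ∀ i, 𝒜 i) (Q : ℬ)
  (p : ∀ ⦃i j : ι⦄ (h : i ≤ j), P j ⟶ (L h).obj (P i)) (pc : ∀ i, Q ⟶ (Lc i).obj (P i))
  (β : ∀ ⦃i j : ι⦄ (h : i ≤ j), R i ⋙ L h ⟶ R j) (α : ∀ i, R i ⋙ Lc i ⟶ Φ)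

/-- The statement in degree `n`. -/
structure Comm (n : ℕ) : Prop where
  comp_colim : ∀ (F : 𝒮) {i j : ι} (h : i ≤ j) (x : Ext (P i) ((R i).obj F) n),
    tr (pc j) (α j) (tr (p h) (β h) x) = tr (pc i) (α i) x
  comp_trans : ∀ (F : 𝒮) {i j k : ι} (h : i ≤ j) (h' : j ≤ k) (x : Ext (P i) ((R i).obj F) n),
    tr (p h') (β h') (tr (p h) (β h) x) = tr (p (h.trans h')) (β (h.trans h')) x
  surj : ∀ (F : 𝒮) (y : Ext Q (Φ.obj F) n), ∃ (i : ι) (x : Ext (P i) ((R i).obj F) n), tr (pc i) (α i) x = y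
  inj : ∀ (F : 𝒮) {i : ι} (x : Ext (P i) ((R i).obj F) n), tr (pc i) (α i) x = 0 →
    ∃ (j : ι) (h : i ≤ j), tr (p h) (β h) x = 0

variable (hR : ∀ (I : 𝒮) [Injective I] (i : ι) (q : ℕ), Subsingleton (Ext (P i) ((R i).obj I) (q + 1)))
  (hΦ : ∀ (I : 𝒮) [Injective I] (q : ℕ), Subsingleton (Ext Q (Φ.obj I) (q + 1)))

omit [IsDirected ι (· ≤ ·)] [EnoughInjectives 𝒮] [Abelian ℬ] [HasExt.{w} ℬ] in
include hR in
theorem exists_eq_conn {S : ShortComplex 𝒮} (hS : S.ShortExact) [Injective S.X₂] {i : ι} {n : ℕ}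
    (x : Ext (P i) ((R i).obj S.X₁) (n + 1)) :
    ∃ z : Ext (P i) ((R i).obj S.X₃) n, z.comp (hS.map_of_exact (R i)).extClass rfl = x :=
  Ext.covariant_sequence_exact₁ (P i) (hS.map_of_exact (R i)) x
    ((hR S.X₂ i n).elim _ _) rfl

include hR hΦ in
theorem comm_succ (n : ℕ) (ih : Comm R L Lc Φ P Q p pc β α n) : Comm R L Lc Φ P Q p pc β α (n + 1) := by
  have key : ∀ F : 𝒮, ∃ S : ShortComplex 𝒮, S.X₁ = F ∧ S.ShortExact ∧ Injective S.X₂ := fun F =>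
    ⟨ShortComplex.mk (Injective.ι F) (cokernel.π _) (cokernel.condition _), rfl,
      { exact := ShortComplex.exact_of_g_is_cokernel _ (cokernelIsCokernel _) }, inferInstance⟩
  refine ⟨fun F {i j} h x => ?_, fun F {i j k} h h' x => ?_, fun F y => ?_, fun F {i} x hx => ?_⟩ <;>
    obtain ⟨S, rfl, hS, hI⟩ := key F
  · obtain ⟨z, rfl⟩ := exists_eq_conn R P hR hS x
    rw [tr_conn _ _ hS, tr_conn _ _ hS, tr_conn _ _ hS, ih.comp_colim]
  · obtain ⟨z, rfl⟩ := exists_eq_conn R P hR hS x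
    rw [tr_conn _ _ hS, tr_conn _ _ hS, tr_conn _ _ hS, ih.comp_trans]
  · obtain ⟨z, hz⟩ := Ext.covariant_sequence_exact₁ Q (hS.map_of_exact Φ) y
      ((hΦ S.X₂ n).elim _ _) (rfl : n + 1 = n + 1)
    obtain ⟨i, w, hw⟩ := ih.surj S.X₃ z
    refine ⟨i, w.comp (hS.map_of_exact (R i)).extClass rfl, ?_⟩
    rw [tr_conn _ _ hS, hw]
    exact hz
  · obtain ⟨z, rfl⟩ := exists_eq_conn R P hR hS x
    rw [tr_conn _ _ hS] at hx
    obtain ⟨a, ha⟩ := Ext.covariant_sequence_exact₃ Q (hS.map_of_exact Φ) _ rfl hx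
    obtain ⟨j, b, hb⟩ := ih.surj S.X₂ a
    obtain ⟨k, h₁, h₂⟩ := directed_of (α := ι) (· ≤ ·) i j
    let r : Ext (P k) ((R k).obj S.X₃) n :=
      (tr (p h₂) (β h₂) b).comp (Ext.mk₀ ((R k).map S.g)) (add_zero n)
    obtain ⟨l, h₃, hl⟩ := ih.inj S.X₃ (tr (p h₁) (β h₁) z - r) (by
      rw [tr_sub, sub_eq_zero, ih.comp_colim, tr_map, ih.comp_colim, hb]
      exact ha.symm)
    refine ⟨l, h₁.trans h₃, ?_⟩
    rw [tr_sub, sub_eq_zero, ih.comp_trans, tr_map] at hl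
    rw [tr_conn _ _ hS, hl]
    refine (Ext.comp_assoc_of_second_deg_zero (tr (p h₃) (β h₃) (tr (p h₂) (β h₂) b)) ((R l).map S.g |> Ext.mk₀)
      (hS.map_of_exact (R l)).extClass (rfl : n + 1 = n + 1)).trans ?_
    exact (congrArg (fun e => Ext.comp _ e rfl) (hS.map_of_exact (R l)).comp_extClass).trans (Ext.comp_zero _ _ _ _ rfl)

include hR hΦ in
theorem comm_all (h0 : Comm R L Lc Φ P Q p pc β α 0) : ∀ n, Comm R L Lc Φ P Q p pc β α n
  | 0 => h0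
  | n + 1 => comm_succ R L Lc Φ P Q p pc β α hR hΦ n (comm_all h0 n)

end Groth.Agent.EtLim64.ExtColim
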