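import Groth.Agent.EtMVLib.PullSec
import Groth.Agent.EtMVLib.HpullApply
import Groth.Agent.EtMVLib.ExtTools
import Groth.Prelude.Def_EtLim

/-!
# Pullback of cohomology followed by a morphism of coefficients
-/

set_option autoImplicit false
set_option backward.isDefEq.respectTransparency.types false

universe u

open CategoryTheory CategoryTheory.Limits AlgebraicGeometry Opposite CategoryTheory.Abelian

namespace Groth.Agent.EtLim64

variable {X Y : Scheme.{u}} (u : X ⟶ Y) [PreservesFiniteLimits (EtCoh.pull u)]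

theorem hpullThen_apply (G : EtCoh.Ab Y) {M : EtCoh.Ab X} (α : (EtCoh.pull u).obj G ⟶ M) (n : ℕ)
    (x : EtCoh.H Y G n) :
    EtLim.HpullThen u G α n x =
      ((Ext.mk₀ (EtCore.pullConst u ℤ).inv).comp (x.mapExactFunctor (EtCoh.pull u)) (zero_add n)).comp
        (Ext.mk₀ α) (add_zero n) := rfl

theorem hpullThen_map {G G' : EtCoh.Ab Y} {M M' : EtCoh.Ab X} (φ : G ⟶ G') (ψ : M ⟶ M')
    (α : (EtCoh.pull u).obj G ⟶ M) (α' : (EtCoh.pull u).obj G' ⟶ M')
    (h : (EtCoh.pull u).map φ ≫ α' = α ≫ ψ) (n : ℕ) (x : EtCoh.H Y G n) :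
    EtLim.HpullThen u G' α' n (x.comp (Ext.mk₀ φ) (add_zero n)) =
      (EtLim.HpullThen u G α n x).comp (Ext.mk₀ ψ) (add_zero n) := by
  rw [hpullThen_apply, hpullThen_apply, Ext.mapExactFunctor_comp, Ext.mapExactFunctor_mk₀]
  refine (congrArg (fun e => Ext.comp e (Ext.mk₀ α') (add_zero n))
    (Ext.comp_assoc _ _ _ (zero_add n) (add_zero n) (by simp)).symm).trans ?_
  rw [Ext.comp_assoc_of_third_deg_zero, Ext.mk₀_comp_mk₀]
  refine Eq.trans ?_ (Ext.comp_assoc_of_third_deg_zero _ _ _ _).symm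
  rw [Ext.mk₀_comp_mk₀, h]

theorem equiv₀_hpullThen (G : EtCoh.Ab Y) {M : EtCoh.Ab X} (α : (EtCoh.pull u).obj G ⟶ M)
    (x : EtCoh.H Y G 0) :
    Sheaf.H.equiv₀ M (EtCore.topIsTerminal X) (EtLim.HpullThen u G α 0 x) =
      ((EtCore.pushGsecIso u).hom.app M).hom
        (((((EtCoh.pullPushAdj u).homEquiv G M) α).hom.app (op (EtCoh.top Y))).hom
          (Sheaf.H.equiv₀ G (EtCore.topIsTerminal Y) x)) := by
  obtain ⟨f, rfl⟩ := (Ext.mk₀_bijective _ _).2 x
  rw [hpullThen_apply, Ext.mapExactFunctor_mk₀, Ext.mk₀_comp_mk₀, Ext.mk₀_comp_mk₀]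
  let A : AddCommGrpCat.{u + 1} := AddCommGrpCat.of (ULift.{u + 1} ℤ)
  let ψ := ((EtCore.pullConst u ℤ).inv ≫ (EtCoh.pull u).map f) ≫ α
  have h1 : (EtCore.constAdj X).homEquiv A M ψ = (EtCore.constAdj Y).homEquiv A G f ≫
      (EtCore.gsec Y).map ((EtCoh.pullPushAdj u).homEquiv G M α) ≫ (EtCore.pushGsecIso u).hom.app M := by
    have n1 := (EtMVLib.pullSec u).naturality f
    have n2 := (EtCore.pushGsecIso u).hom.naturality α
    simp only [Functor.comp_map] at n1 n2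
    rw [show ψ = (EtCore.pullConst u ℤ).inv ≫ ((EtCoh.pull u).map f ≫ α) from Category.assoc _ _ _,
      Adjunction.homEquiv_naturality_right]
    refine (congrArg (· ≫ _) (EtMVLib.homEquiv_pullConst_inv u ℤ)).trans ?_
    refine (Category.assoc _ _ _).trans ?_
    rw [Functor.map_comp, ← Category.assoc ((EtMVLib.pullSec u).app _), ← n1, Category.assoc,
      EtMVLib.pullSec_app, Category.assoc, ← n2]
    rw [Adjunction.homEquiv_unit, Adjunction.homEquiv_unit, Functor.map_comp]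
    simp only [Category.assoc]
    rfl
  have e0 : ∀ {Z : Scheme.{u}} {N : EtCoh.Ab Z} (g : EtCoh.const Z ℤ ⟶ N),
      Sheaf.H.equiv₀ N (EtCore.topIsTerminal Z) (Ext.mk₀ g) =
        (((EtCore.constAdj Z).homEquiv A N) g).hom ⟨1⟩ := by
    intro Z N g
    simp only [Sheaf.H.equiv₀, AddEquiv.trans_apply]
    rw [show Ext.addEquiv₀ (Ext.mk₀ g) = g from Ext.addEquiv₀.apply_symm_apply g]
    rfl
  rw [e0, e0]
  exact congrArg (fun m => m.hom (⟨1⟩ : A)) h1

end Groth.Agent.EtLim64
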