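import Groth.Agent.EtLim64.Acyclic
import Groth.Agent.EtLim64.ExtColim
import Groth.Agent.EtLim64.HpullThen

/-!
# The comparison maps and their degree zero part
-/

set_option autoImplicit false
set_option maxHeartbeats 1000000
set_option maxRecDepth 10000
set_option backward.isDefEq.respectTransparency.types false
set_option linter.style.haveILetI false
set_option linter.unusedSectionVars false

universe u

open CategoryTheory CategoryTheory.Limits AlgebraicGeometry Opposite CategoryTheory.Abelian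

namespace Groth.Agent.EtLim64

variable {ι : Type u} [Preorder ι] [IsDirected ι (· ≤ ·)] [Nonempty ι]

namespace Tower

variable (T : Tower ι)

/-- The unit at one stage. -/
noncomputable def unitAt (i : ι) (F : T.Sys) :
    (T.res i).obj F ⟶ (EtCoh.push (T.pr i)).obj (T.colimF.obj F) :=
  ObjectProperty.homMk
    { app := fun V => (T.colimAdj.unit.app F).hom.app (op ((T.incl i).obj V.unop))
      naturality := fun V W g => by
        refine ((T.colimAdj.unit.app F).hom.naturality ((T.incl i).map g.unop).op).trans ?_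
        exact congrArg (fun r => (T.colimAdj.unit.app F).hom.app _ ≫ (T.colimF.obj F).obj.map (Quiver.Hom.op r))
          (T.incl_toLim_map i g.unop) }

/-- From a stage to the limit. -/
noncomputable def αLim (i : ι) : T.res i ⋙ EtCoh.pull (T.pr i) ⟶ T.colimF where
  app F := ((EtCoh.pullPushAdj (T.pr i)).homEquiv _ _).symm (T.unitAt i F)
  naturality F G φ := by
    refine ((EtCoh.pullPushAdj (T.pr i)).homEquiv_naturality_left_symm _ _).symm.trans ?_
    refine Eq.trans ?_ ((EtCoh.pullPushAdj (T.pr i)).homEquiv_naturality_right_symm _ _)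
    refine congrArg _ ?_
    ext V : 3
    exact congrArg (fun ψ : F ⟶ _ => ψ.hom.app (op ((T.incl i).obj V.unop))) (T.colimAdj.unit.naturality φ)

theorem homEquiv_αLim (i : ι) (F : T.Sys) :
    (EtCoh.pullPushAdj (T.pr i)).homEquiv _ _ ((T.αLim i).app F) = T.unitAt i F :=
  ((EtCoh.pullPushAdj (T.pr i)).homEquiv _ _).apply_symm_apply _

theorem proj_natural {i j : ι} (h : i ≤ j) {V W : (T.obj i).Etale} (g : V ⟶ W) :
    (T.incl j).map ((EtCoh.bc (T.tr h)).map g) ≫ T.proj ((T.incl i).obj W) h =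
      T.proj ((T.incl i).obj V) h ≫ (T.incl i).map g :=
  hom_ext (EtCoh.isPullback_bc_map (T.tr h) g).w

/-- Restriction to a later stage. -/
noncomputable def resTo {i j : ι} (h : i ≤ j) (F : T.Sys) :
    (T.res i).obj F ⟶ (EtCoh.push (T.tr h)).obj ((T.res j).obj F) :=
  ObjectProperty.homMk
    { app := fun V => F.obj.map (T.proj ((T.incl i).obj V.unop) h).op
      naturality := fun V W g => by
        refine (F.obj.map_comp _ _).symm.trans (Eq.trans ?_ (F.obj.map_comp _ _))
        exact congrArg F.obj.map ((op_comp).symm.trans ((congrArg Quiver.Hom.op (T.proj_natural h g.unop)).symm.trans op_comp)) }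

/-- From a stage to a later stage. -/
noncomputable def βStage {i j : ι} (h : i ≤ j) : T.res i ⋙ EtCoh.pull (T.tr h) ⟶ T.res j where
  app F := ((EtCoh.pullPushAdj (T.tr h)).homEquiv _ _).symm (T.resTo h F)
  naturality F G φ := by
    refine ((EtCoh.pullPushAdj (T.tr h)).homEquiv_naturality_left_symm _ _).symm.trans ?_
    refine Eq.trans ?_ ((EtCoh.pullPushAdj (T.tr h)).homEquiv_naturality_right_symm _ _)
    refine congrArg _ ?_
    ext V : 3
    exact (φ.hom.naturality (T.proj ((T.incl i).obj V.unop) h).op).symm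

theorem homEquiv_βStage {i j : ι} (h : i ≤ j) (F : T.Sys) :
    (EtCoh.pullPushAdj (T.tr h)).homEquiv _ _ ((T.βStage h).app F) = T.resTo h F :=
  ((EtCoh.pullPushAdj (T.tr h)).homEquiv _ _).apply_symm_apply _

/-- A stage as an object of the total site. -/
noncomputable def top (i : ι) : Obj T := (T.incl i).obj (EtCoh.top (T.obj i))

theorem top_hom_ext {i : ι} {B : Obj T} (a b : B ⟶ T.top i) : a = b :=
  hom_ext ((Category.comp_id a.map).symm.trans ((a.w.trans b.w.symm).trans (Category.comp_id b.map)))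

/-- Between stages. -/
noncomputable def topMap {i j : ι} (h : i ≤ j) : T.top j ⟶ T.top i :=
  (T.incl j).map (EtCore.bcTopIso (T.tr h)).inv ≫ T.proj (T.top i) h

/-- The global sections at a stage, read on the limit. -/
noncomputable def topLim (i : ι) : EtCoh.top T.lim ⟶ T.toLim.obj (T.top i) :=
  (EtCore.bcTopIso (T.pr i)).inv

theorem topLim_hom_ext {i : ι} {U : T.lim.Etale} (a b : U ⟶ T.toLim.obj (T.top i)) : a = b :=
  (EtCore.bcTopIsTerminal (T.pr i)).hom_ext a b

theorem equiv₀_αLim (i : ι) (F : T.Sys) [PreservesFiniteLimits (EtCoh.pull (T.pr i))]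
    (x : EtCoh.H (T.obj i) ((T.res i).obj F) 0) :
    Sheaf.H.equiv₀ _ (EtCore.topIsTerminal T.lim) (EtLim.HpullThen (T.pr i) _ ((T.αLim i).app F) 0 x) =
      ((T.colimF.obj F).obj.map (T.topLim i).op).hom
        (atLim F (A := T.top i) (Sheaf.H.equiv₀ ((T.res i).obj F) (EtCore.topIsTerminal (T.obj i)) x)) :=
  (equiv₀_hpullThen (T.pr i) ((T.res i).obj F) ((T.αLim i).app F) x).trans
    (congrArg (fun m : (T.res i).obj F ⟶ _ => ((EtCore.pushGsecIso (T.pr i)).hom.app (T.colimF.obj F)).hom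
      ((m.hom.app (op (EtCoh.top (T.obj i)))).hom (Sheaf.H.equiv₀ _ (EtCore.topIsTerminal (T.obj i)) x)))
      (T.homEquiv_αLim i F))

theorem equiv₀_βStage {i j : ι} (h : i ≤ j) (F : T.Sys) [PreservesFiniteLimits (EtCoh.pull (T.tr h))]
    (x : EtCoh.H (T.obj i) ((T.res i).obj F) 0) :
    Sheaf.H.equiv₀ _ (EtCore.topIsTerminal (T.obj j)) (EtLim.HpullThen (T.tr h) _ ((T.βStage h).app F) 0 x) =
      (F.obj.map (T.topMap h).op).hom
        (Sheaf.H.equiv₀ ((T.res i).obj F) (EtCore.topIsTerminal (T.obj i)) x) :=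
  (equiv₀_hpullThen (T.tr h) ((T.res i).obj F) ((T.βStage h).app F) x).trans
    ((congrArg (fun m : (T.res i).obj F ⟶ _ => ((EtCore.pushGsecIso (T.tr h)).hom.app ((T.res j).obj F)).hom
      ((m.hom.app (op (EtCoh.top (T.obj i)))).hom (Sheaf.H.equiv₀ _ (EtCore.topIsTerminal (T.obj i)) x)))
      (T.homEquiv_βStage h F)).trans
      (ab_map_map F.obj _ _ rfl _))

instance preservesFiniteLimits_pull_pr (i : ι) : PreservesFiniteLimits (EtCoh.pull (T.pr i)) :=
  EtFound.pull_preservesFiniteLimits _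

instance preservesFiniteLimits_pull_tr {i j : ι} (h : i ≤ j) : PreservesFiniteLimits (EtCoh.pull (T.tr h)) :=
  EtFound.pull_preservesFiniteLimits _

theorem isQcqs_top (i : ι) : IsQcqs (T.top i) :=
  ⟨T.compactSpace_obj i, T.quasiSeparatedSpace_obj i⟩

/-- The class obtained on the limit. -/
noncomputable abbrev toH (i : ι) (F : T.Sys) (n : ℕ) :
    EtCoh.H (T.obj i) ((T.res i).obj F) n →+ EtCoh.H T.lim (T.colimF.obj F) n :=
  EtLim.HpullThen (T.pr i) _ ((T.αLim i).app F) n

/-- The class obtained at a later stage. -/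
noncomputable abbrev toStage {i j : ι} (h : i ≤ j) (F : T.Sys) (n : ℕ) :
    EtCoh.H (T.obj i) ((T.res i).obj F) n →+ EtCoh.H (T.obj j) ((T.res j).obj F) n :=
  EtLim.HpullThen (T.tr h) _ ((T.βStage h).app F) n

theorem toStage_toH_zero {i j : ι} (h : i ≤ j) (F : T.Sys) (x : EtCoh.H (T.obj i) ((T.res i).obj F) 0) :
    T.toH j F 0 (T.toStage h F 0 x) = T.toH i F 0 x := by
  apply (Sheaf.H.equiv₀ _ (EtCore.topIsTerminal T.lim)).injective
  refine (T.equiv₀_αLim j F _).trans (Eq.trans ?_ (T.equiv₀_αLim i F x).symm)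
  refine (congrArg (fun y => ((T.colimF.obj F).obj.map (T.topLim j).op).hom (atLim F (A := T.top j) y))
    (T.equiv₀_βStage h F x)).trans ?_
  refine (congrArg ((T.colimF.obj F).obj.map (T.topLim j).op).hom (atLim_map F (T.topMap h) _)).trans ?_
  exact ab_map_map (T.colimF.obj F).obj _ _ (T.topLim_hom_ext _ _) _

theorem toStage_toStage_zero {i j k : ι} (h : i ≤ j) (h' : j ≤ k) (F : T.Sys)
    (x : EtCoh.H (T.obj i) ((T.res i).obj F) 0) :
    T.toStage h' F 0 (T.toStage h F 0 x) = T.toStage (h.trans h') F 0 x := by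
  apply (Sheaf.H.equiv₀ _ (EtCore.topIsTerminal (T.obj k))).injective
  refine (T.equiv₀_βStage h' F _).trans (Eq.trans ?_ (T.equiv₀_βStage (h.trans h') F x).symm)
  refine (congrArg (F.obj.map (T.topMap h').op).hom (T.equiv₀_βStage h F x)).trans ?_
  exact ab_map_map F.obj _ _ (T.top_hom_ext _ _) _

theorem exists_toH_zero (F : T.Sys) (y : EtCoh.H T.lim (T.colimF.obj F) 0) :
    ∃ (i : ι) (x : EtCoh.H (T.obj i) ((T.res i).obj F) 0), T.toH i F 0 x = y := by
  obtain ⟨i⟩ := ‹Nonempty ι›
  let z := Sheaf.H.equiv₀ _ (EtCore.topIsTerminal T.lim) y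
  obtain ⟨k, h, u, hu⟩ := exists_stage F (T.isQcqs_top i)
    (((T.colimF.obj F).obj.map (EtCore.bcTopIso (T.pr i)).hom.op).hom z)
  refine ⟨k, (Sheaf.H.equiv₀ _ (EtCore.topIsTerminal (T.obj k))).symm
    ((F.obj.map ((T.incl k).map (EtCore.bcTopIso (T.tr h)).inv).op).hom u), ?_⟩
  apply (Sheaf.H.equiv₀ _ (EtCore.topIsTerminal T.lim)).injective
  refine (T.equiv₀_αLim k F _).trans ?_
  rw [AddEquiv.apply_symm_apply]
  refine (congrArg ((T.colimF.obj F).obj.map (T.topLim k).op).hom (atLim_map F _ u)).trans ?_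
  refine (ab_map_map (T.colimF.obj F).obj _ _ rfl _).trans ?_
  refine (congrArg ((T.colimF.obj F).obj.map _).hom hu).trans ?_
  refine (ab_map_map (T.colimF.obj F).obj _ _ rfl _).trans ?_
  exact ab_map_map_id (T.colimF.obj F).obj _ _ ((EtCore.topIsTerminal T.lim).hom_ext _ _) z

theorem exists_toStage_zero (F : T.Sys) {i : ι} (x : EtCoh.H (T.obj i) ((T.res i).obj F) 0)
    (hx : T.toH i F 0 x = 0) : ∃ (j : ι) (h : i ≤ j), T.toStage h F 0 x = 0 := by
  let s := Sheaf.H.equiv₀ ((T.res i).obj F) (EtCore.topIsTerminal (T.obj i)) x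
  have h0 : ((T.colimF.obj F).obj.map (T.topLim i).op).hom (atLim F (A := T.top i) s) = 0 :=
    ((T.equiv₀_αLim i F x).symm.trans (congrArg _ hx)).trans (map_zero _)
  have h1 : atLim F (A := T.top i) s = 0 := by
    refine Eq.trans ?_ ((congrArg ((T.colimF.obj F).obj.map (EtCore.bcTopIso (T.pr i)).hom.op).hom h0).trans
      (map_zero _))
    exact (ab_map_map_id (T.colimF.obj F).obj _ _ (EtCore.bcTopIso (T.pr i)).hom_inv_id _).symm
  obtain ⟨l, hl, e⟩ := exists_zero F (T.isQcqs_top i) s h1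
  refine ⟨l, hl, (Sheaf.H.equiv₀ _ (EtCore.topIsTerminal (T.obj l))).injective ?_⟩
  refine ((T.equiv₀_βStage hl F x).trans ?_).trans (map_zero _).symm
  refine (ab_map_map F.obj ((T.incl l).map (EtCore.bcTopIso (T.tr hl)).inv) (T.proj (T.top i) hl) rfl s).symm.trans ?_
  exact (congrArg _ e).trans (map_zero _)

instance isGrothendieckAbelian_sys : IsGrothendieckAbelian.{u + 1} T.Sys :=
  have : EssentiallySmall.{u + 1} (Obj T) := inferInstance
  Sheaf.isGrothendieckAbelian_of_essentiallySmall _ _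

end Tower

end Groth.Agent.EtLim64
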