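import Groth.Agent.EtLim64.CompareZero

/-!
# Cohomology of the limit is the colimit of the cohomology of the stages
-/

set_option autoImplicit false
set_option maxHeartbeats 1000000
set_option maxRecDepth 10000
set_option backward.isDefEq.respectTransparency.types false
set_option linter.unusedSectionVars false

universe u

open CategoryTheory CategoryTheory.Limits AlgebraicGeometry Opposite CategoryTheory.Abelian

namespace Groth.Agent.EtLim64

variable {ι : Type u} [Preorder ι] [IsDirected ι (· ≤ ·)] [Nonempty ι]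

namespace Tower

variable (T : Tower ι)

theorem comm_zero :
    ExtColim.Comm (fun i => T.res i) (fun _ _ h => EtCoh.pull (T.tr h)) (fun i => EtCoh.pull (T.pr i)) T.colimF
      (fun i => EtCoh.const (T.obj i) ℤ) (EtCoh.const T.lim ℤ)
      (fun _ _ h => (EtCore.pullConst (T.tr h) ℤ).inv) (fun i => (EtCore.pullConst (T.pr i) ℤ).inv)
      (fun _ _ h => T.βStage h) (fun i => T.αLim i) 0 :=
  ⟨fun F _ _ h x => T.toStage_toH_zero h F x, fun F _ _ _ h h' x => T.toStage_toStage_zero h h' F x,
    fun F y => T.exists_toH_zero F y, fun F _ x hx => T.exists_toStage_zero F x hx⟩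

/-- Passage to the limit in every degree. -/
theorem comm (n : ℕ) :
    ExtColim.Comm (fun i => T.res i) (fun _ _ h => EtCoh.pull (T.tr h)) (fun i => EtCoh.pull (T.pr i)) T.colimF
      (fun i => EtCoh.const (T.obj i) ℤ) (EtCoh.const T.lim ℤ)
      (fun _ _ h => (EtCore.pullConst (T.tr h) ℤ).inv) (fun i => (EtCore.pullConst (T.pr i) ℤ).inv)
      (fun _ _ h => T.βStage h) (fun i => T.αLim i) n :=
  ExtColim.comm_all _ _ _ _ _ _ _ _ _ _ (fun I _ i q => T.subsingleton_H_res I i q)
    (fun I _ q => T.subsingleton_H_colimF I q) T.comm_zero n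

/-- Every class on the limit comes from a stage. -/
theorem exists_toH (F : T.Sys) (n : ℕ) (y : EtCoh.H T.lim (T.colimF.obj F) n) :
    ∃ (i : ι) (x : EtCoh.H (T.obj i) ((T.res i).obj F) n), T.toH i F n x = y :=
  (T.comm n).surj F y

/-- A class dying on the limit dies at a stage. -/
theorem exists_toStage (F : T.Sys) (n : ℕ) {i : ι} (x : EtCoh.H (T.obj i) ((T.res i).obj F) n)
    (hx : T.toH i F n x = 0) : ∃ (j : ι) (h : i ≤ j), T.toStage h F n x = 0 :=
  (T.comm n).inj F x hx

end Tower

end Groth.Agent.EtLim64
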