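import Groth.Agent.EtLim64.Sheaves

/-!
# Sections over qcqs objects of the sheaf on the limit
-/

set_option autoImplicit false
set_option backward.isDefEq.respectTransparency.types false

universe u

open CategoryTheory CategoryTheory.Limits AlgebraicGeometry Opposite

namespace Groth.Agent.EtLim64

section Gen

variable {X : Scheme.{u}} (F : EtCoh.Ab X)

theorem isSheaf_type : Presieve.IsSheaf X.smallEtaleTopology (F.obj ⋙ forget AddCommGrpCat.{u + 1}) :=
  (isSheaf_iff_isSheaf_of_type _ _).1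
    ((Presheaf.isSheaf_iff_isSheaf_forget _ F.obj (forget AddCommGrpCat.{u + 1})).1 F.property)

theorem sect_ext {U : X.Etale} (a b : F.obj.obj (op U))
    (h : ∀ x : U.left, ∃ (V : X.Etale) (g : V ⟶ U) (v : V.left),
      g.left.base v = x ∧ (F.obj.map g.op).hom a = (F.obj.map g.op).hom b) : a = b := by
  let S : Sieve U :=
    { arrows := fun V g => (F.obj.map g.op).hom a = (F.obj.map g.op).hom b
      downward_closed := fun {V W} g hg k => by
        rw [op_comp, F.obj.map_comp]
        exact congrArg (F.obj.map k.op).hom hg }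
  have hS : S ∈ X.smallEtaleTopology U := (EtFound.mem_topology_iff S).2 fun x => by
    obtain ⟨V, g, v, hv, e⟩ := h x
    exact ⟨V, g, v, e, hv⟩
  exact (isSheaf_type F _ hS).isSeparatedFor.ext fun V g hg => hg

theorem sect_glue {U : X.Etale} {N : Type*} (V : N → X.Etale) (g : ∀ a, V a ⟶ U)
    (hg : ∀ x : U.left, ∃ a y, (g a).left.base y = x) (s : ∀ a, F.obj.obj (op (V a)))
    (h : ∀ a b, (F.obj.map (pullback.fst (g a) (g b)).op).hom (s a) =
      (F.obj.map (pullback.snd (g a) (g b)).op).hom (s b)) :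
    ∃ t, ∀ a, (F.obj.map (g a).op).hom t = s a := by
  have hcov : Sieve.ofArrows V g ∈ X.smallEtaleTopology U := (EtFound.mem_topology_iff _).2 fun x => by
    obtain ⟨a, y, hy⟩ := hg x
    exact ⟨V a, g a, y, Sieve.ofArrows_mk _ _ a, hy⟩
  obtain ⟨t, ht, -⟩ := (Presieve.isSheafFor_arrows_iff_pullbacks _ _).1
    ((Presieve.isSheafFor_iff_generate _).2 (isSheaf_type F _ hcov)) s h
  exact ⟨t, ht⟩

end Gen

variable {ι : Type u} [Preorder ι] [IsDirected ι (· ≤ ·)] [Nonempty ι]

namespace Tower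

variable {T : Tower ι}

theorem toLim_proj_surjective (A : Obj T) {k : ι} (h : A.stage ≤ k) (x : (T.toLim.obj A).left) :
    ∃ y, (T.toLim.map (T.proj A h)).left.base y = x := by
  haveI := T.isIso_toLim_proj A h
  refine ⟨(inv (T.toLim.map (T.proj A h))).left.base x, ?_⟩
  exact (Scheme.Hom.comp_apply _ _ _).symm.trans
    (congrArg (fun m => m.left.base x) (IsIso.inv_hom_id (T.toLim.map (T.proj A h))))

theorem qcqs_toLim {A : Obj T} (hA : IsQcqs A) : CompactSpace ↥(T.toLim.obj A).left :=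
  (isQcqsObj_bc (T.pr A.stage) hA).1

/-- Every section on the limit is locally the value of a section at a stage. -/
theorem exists_local (F : T.Sys) {U : T.lim.Etale} (t : (T.colimF.obj F).obj.obj (op U)) (x : U.left) :
    ∃ (A : Obj T) (g : T.toLim.obj A ⟶ U) (y : (T.toLim.obj A).left) (s : F.obj.obj (op A)),
      IsQcqs A ∧ g.left.base y = x ∧ atLim F s = ((T.colimF.obj F).obj.map g.op).hom t := by
  obtain ⟨R, hR, hloc⟩ := SitePullUnit.exists_cover_sGerm T.toLim T.lim.smallEtaleTopology F t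
  obtain ⟨V, f, v, hf, hv⟩ := (EtFound.mem_topology_iff R).1 hR x
  obtain ⟨B, b, a, ha⟩ := hloc f hf
  obtain ⟨A₀, g₀, y₀, -, hA₀, hy₀⟩ := T.exists_basis V v
  obtain ⟨k, h, φ, hφ⟩ := T.exists_hom hA₀ (g₀ ≫ b)
  obtain ⟨y, hy⟩ := toLim_proj_surjective A₀ h y₀
  refine ⟨T.pullTo A₀ h, T.toLim.map (T.proj A₀ h) ≫ g₀ ≫ f, y, F.obj.map φ.op a, isQcqs_pullTo hA₀ h, ?_, ?_⟩
  · exact (Scheme.Hom.comp_apply (T.toLim.map (T.proj A₀ h)).left (g₀ ≫ f).left y).trans
      ((congrArg (g₀ ≫ f).left.base hy).trans ((Scheme.Hom.comp_apply g₀.left f.left y₀).trans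
        ((congrArg f.left.base hy₀).trans hv)))
  · refine (atLim_map F φ a).trans ?_
    rw [hφ, atLim_eq_sGerm]
    refine (SitePullUnit.map_sGerm T.toLim T.lim.smallEtaleTopology F _ _ a).trans ?_
    rw [Category.comp_id, ← Category.assoc (T.toLim.map (T.proj A₀ h)),
      ← Category.assoc (T.toLim.map (T.proj A₀ h))]
    refine (SitePullUnit.map_sGerm T.toLim T.lim.smallEtaleTopology F
      (T.toLim.map (T.proj A₀ h) ≫ g₀) b a).symm.trans ?_
    rw [op_comp (g := f), Functor.map_comp_apply]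
    exact congrArg _ ha

/-- A section vanishing on the limit vanishes locally at later stages. -/
theorem exists_local_zero (F : T.Sys) {A : Obj T} (s : F.obj.obj (op A)) (h0 : atLim F s = 0)
    (x : (T.toLim.obj A).left) :
    ∃ (B : Obj T) (f : B ⟶ A) (y : (T.toLim.obj B).left),
      IsQcqs B ∧ (T.toLim.map f).left.base y = x ∧ (F.obj.map f.op).hom s = 0 := by
  have e : SitePullUnit.sGerm T.toLim T.lim.smallEtaleTopology F (𝟙 _) s =
      SitePullUnit.sGerm T.toLim T.lim.smallEtaleTopology F (𝟙 _) 0 := by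
    rw [← atLim_eq_sGerm, ← atLim_eq_sGerm, atLim_zero, h0]
  obtain ⟨R, hR, hloc⟩ := SitePullUnit.exists_cover_of_sGerm_eq T.toLim T.lim.smallEtaleTopology F _ s 0 e
  obtain ⟨V, f, v, hf, hv⟩ := (EtFound.mem_topology_iff R).1 hR x
  obtain ⟨C, b', c, hc, hcs⟩ := hloc f hf
  obtain ⟨B₀, g₀, y₀, -, hB₀, hy₀⟩ := T.exists_basis V v
  obtain ⟨k, h, φ, hφ⟩ := T.exists_hom hB₀ (g₀ ≫ b')
  obtain ⟨y, hy⟩ := toLim_proj_surjective B₀ h y₀
  refine ⟨T.pullTo B₀ h, φ ≫ c, y, isQcqs_pullTo hB₀ h, ?_, ?_⟩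
  · rw [T.toLim.map_comp, hφ, Category.assoc, Category.assoc, hc, Category.comp_id]
    exact (Scheme.Hom.comp_apply (T.toLim.map (T.proj B₀ h)).left (g₀ ≫ f).left y).trans
      ((congrArg (g₀ ≫ f).left.base hy).trans ((Scheme.Hom.comp_apply g₀.left f.left y₀).trans
        ((congrArg f.left.base hy₀).trans hv)))
  · rw [op_comp, Functor.map_comp_apply, hcs]
    exact (congrArg (F.obj.map φ.op).hom (map_zero (F.obj.map c.op).hom)).trans (map_zero _)

theorem map_map_op (F : T.Sys) {A B C : Obj T} (f : B ⟶ A) (g : C ⟶ B) (s : F.obj.obj (op A)) :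
    (F.obj.map g.op).hom ((F.obj.map f.op).hom s) = (F.obj.map (g ≫ f).op).hom s :=
  (Functor.map_comp_apply F.obj f.op g.op s).symm

theorem lim_map_map (G : EtCoh.Ab T.lim) {A B C : Obj T} (f : B ⟶ A) (g : C ⟶ B)
    (t : G.obj.obj (op (T.toLim.obj A))) :
    (G.obj.map (T.toLim.map g).op).hom ((G.obj.map (T.toLim.map f).op).hom t) =
      (G.obj.map (T.toLim.map (g ≫ f)).op).hom t := by
  refine (Functor.map_comp_apply G.obj (T.toLim.map f).op (T.toLim.map g).op t).symm.trans ?_
  rw [T.toLim.map_comp, op_comp]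

/-- Injectivity: a section vanishing on the limit vanishes at a later stage. -/
theorem exists_zero (F : T.Sys) {A : Obj T} (hA : IsQcqs A) (s : F.obj.obj (op A)) (h0 : atLim F s = 0) :
    ∃ (k : ι) (h : A.stage ≤ k), (F.obj.map (T.proj A h).op).hom s = 0 := by
  choose B f y hB hy hs using fun x => exists_local_zero F s h0 x
  haveI := qcqs_toLim hA
  have ho : ∀ x, IsOpen (Set.range (T.toLim.map (f x)).left.base) := fun x => by
    haveI := EtFound.etale_left (T.toLim.map (f x))
    exact (Scheme.Hom.isOpenMap ((T.toLim.map (f x)).left)).isOpen_range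
  obtain ⟨N, hN⟩ := isCompact_univ.elim_finite_subcover _ ho
    (fun x _ => Set.mem_iUnion.2 ⟨x, ⟨y x, hy x⟩⟩)
  obtain ⟨k, h, h', hcov⟩ := T.exists_cover hA (fun a : N => B a.1) (fun a => f a.1) (fun x => by
    obtain ⟨a, ha, w, hw⟩ := Set.mem_iUnion₂.1 (hN (Set.mem_univ x))
    exact ⟨⟨a, ha⟩, w, hw⟩)
  refine ⟨k, h, sect_ext ((T.res k).obj F) (U := (T.pullTo A h).obj) _ _ fun z => ?_⟩
  obtain ⟨a, w, hw⟩ := hcov z
  refine ⟨_, T.mapTo (f a.1) (h' a), w, hw, ?_⟩
  refine Eq.trans ?_ (map_zero _).symm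
  change (F.obj.map ((T.incl k).map (T.mapTo (f a.1) (h' a))).op).hom ((F.obj.map (T.proj A h).op).hom s) = 0
  refine (Functor.map_comp_apply F.obj (T.proj A h).op ((T.incl k).map (T.mapTo (f a.1) (h' a))).op s).symm.trans ?_
  refine (congrArg (fun r => (F.obj.map (Quiver.Hom.op r)).hom s) (T.mapTo_proj (f a.1) (h' a))).trans ?_
  refine (map_map_op F (f a.1) (T.proj (B a.1) (h' a)) s).symm.trans ?_
  exact (congrArg (F.obj.map (T.proj (B a.1) (h' a)).op).hom (hs a.1)).trans (map_zero _)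

/-- Equality at a later stage. -/
theorem exists_eq_stage (F : T.Sys) {A : Obj T} (hA : IsQcqs A) (s s' : F.obj.obj (op A))
    (h0 : atLim F s = atLim F s') :
    ∃ (k : ι) (h : A.stage ≤ k), (F.obj.map (T.proj A h).op).hom s = (F.obj.map (T.proj A h).op).hom s' := by
  obtain ⟨k, h, e⟩ := exists_zero F hA (s - s') (by
    refine (map_sub ((T.colimAdj.unit.app F).hom.app (op A)).hom s s').trans ?_
    exact sub_eq_zero.2 h0)
  exact ⟨k, h, sub_eq_zero.1 ((map_sub _ _ _).symm.trans e)⟩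

/-- Gluing over a covering given at the stage of the object. -/
theorem exists_glue_stage (F : T.Sys) {A : Obj T} (hA : IsQcqs A)
    (t : (T.colimF.obj F).obj.obj (op (T.toLim.obj A))) {N : Type*} [Finite N]
    (V : N → (T.obj A.stage).Etale) (g : ∀ a, V a ⟶ A.obj) (hV : ∀ a, EtFound.IsQcqsObj (V a))
    (hg : ∀ x : A.sch, ∃ a y, (g a).left.base y = x)
    (s : ∀ a, F.obj.obj (op ((T.incl A.stage).obj (V a))))
    (hs : ∀ a, atLim F (s a) = ((T.colimF.obj F).obj.map (T.toLim.map ((T.incl A.stage).map (g a))).op).hom t) :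
    ∃ (k : ι) (h : A.stage ≤ k) (u : F.obj.obj (op (T.pullTo A h))),
      atLim F u = ((T.colimF.obj F).obj.map (T.toLim.map (T.proj A h)).op).hom t := by
  classical
  cases nonempty_fintype N
  let P : N × N → Obj T := fun p => (T.incl A.stage).obj (pullback (g p.1) (g p.2))
  have hP : ∀ p, IsQcqs (P p) := fun p => EtFound.isQcqsObj_pullback _ _ hA (hV _) (hV _)
  have hk : ∀ p : N × N, ∃ (k : ι) (h : (P p).stage ≤ k),
      (F.obj.map (T.proj (P p) h).op).hom
        ((F.obj.map ((T.incl A.stage).map (pullback.fst (g p.1) (g p.2))).op).hom (s p.1)) =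
      (F.obj.map (T.proj (P p) h).op).hom
        ((F.obj.map ((T.incl A.stage).map (pullback.snd (g p.1) (g p.2))).op).hom (s p.2)) := fun p => by
    refine exists_eq_stage F (hP p) _ _ ?_
    rw [atLim_map, atLim_map, hs, hs, ← Functor.map_comp_apply, ← Functor.map_comp_apply, ← op_comp,
      ← op_comp, ← T.toLim.map_comp, ← T.toLim.map_comp, ← (T.incl A.stage).map_comp,
      ← (T.incl A.stage).map_comp, pullback.condition]
  choose k hk hk' using hk
  obtain ⟨l, hl⟩ := Finset.exists_le (insert A.stage (Finset.univ.image k))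
  have h₀ : A.stage ≤ l := hl _ (Finset.mem_insert_self _ _)
  let b := EtCoh.bc (T.tr h₀)
  let p : ∀ a, (T.incl l).obj (b.obj (V a)) ⟶ (T.incl A.stage).obj (V a) := fun a =>
    T.proj ((T.incl A.stage).obj (V a)) h₀
  let G := (T.res l).obj F
  let s' : ∀ a, G.obj.obj (op (b.obj (V a))) := fun a => (F.obj.map (p a).op).hom (s a)
  have hp : ∀ a, (T.incl l).map (b.map (g a)) ≫ T.proj A h₀ = p a ≫ (T.incl A.stage).map (g a) :=
    fun a => hom_ext (EtCoh.isPullback_bc_map (T.tr h₀) (g a)).w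
  have hcov : ∀ x : (b.obj A.obj).left, ∃ a y, (b.map (g a)).left.base y = x := fun x => by
    obtain ⟨a, y, hy⟩ := hg ((pullback.fst A.str (T.tr h₀)).base x)
    have sq := EtCoh.isPullback_bc_map (T.tr h₀) (g a)
    obtain ⟨q, hq, -⟩ := Scheme.Pullback.exists_preimage_pullback x y hy.symm
    refine ⟨a, sq.isoPullback.inv.base q, ?_⟩
    rw [← hq]
    exact (Scheme.Hom.comp_apply _ _ _).symm.trans (congrArg (fun m => m.base q) sq.isoPullback_inv_fst)
  obtain ⟨u, hu⟩ := sect_glue G (fun a => b.obj (V a)) (fun a => b.map (g a)) hcov s' fun a c => by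
    let e := PreservesPullback.iso b (g a) (g c)
    have e1 : e.inv ≫ b.map (pullback.fst (g a) (g c)) = pullback.fst _ _ :=
      (Iso.inv_comp_eq e).2 (PreservesPullback.iso_hom_fst b (g a) (g c)).symm
    have e2 : e.inv ≫ b.map (pullback.snd (g a) (g c)) = pullback.snd _ _ :=
      (Iso.inv_comp_eq e).2 (PreservesPullback.iso_hom_snd b (g a) (g c)).symm
    have hkl : k (a, c) ≤ l := hl _ (Finset.mem_insert_of_mem (Finset.mem_image_of_mem _ (Finset.mem_univ _)))
    let z : T.pullTo (P (a, c)) h₀ ⟶ T.pullTo (P (a, c)) (hk (a, c)) :=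
      T.liftTo (T.proj (P (a, c)) h₀) (hk (a, c)) hkl
    have hz : (F.obj.map (T.proj (P (a, c)) h₀).op).hom
        ((F.obj.map ((T.incl A.stage).map (pullback.fst (g a) (g c))).op).hom (s a)) =
      (F.obj.map (T.proj (P (a, c)) h₀).op).hom
        ((F.obj.map ((T.incl A.stage).map (pullback.snd (g a) (g c))).op).hom (s c)) := by
      have := congrArg (F.obj.map z.op).hom (hk' (a, c))
      rw [map_map_op, map_map_op F _ z, T.liftTo_proj] at this
      exact this
    have hq : ∀ (m : N) (q : pullback (g a) (g c) ⟶ V m),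
        (G.obj.map (b.map q).op).hom (s' m) = (F.obj.map (T.proj (P (a, c)) h₀).op).hom
          ((F.obj.map ((T.incl A.stage).map q).op).hom (s m)) := fun m q => by
      change (F.obj.map ((T.incl l).map (b.map q)).op).hom ((F.obj.map (p m).op).hom (s m)) = _
      rw [map_map_op, map_map_op]
      exact congrArg (fun r => (F.obj.map (Quiver.Hom.op r)).hom (s m))
        (hom_ext (EtCoh.isPullback_bc_map (T.tr h₀) q).w)
    rw [← e1, ← e2, op_comp, op_comp, Functor.map_comp_apply, Functor.map_comp_apply]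
    exact congrArg (G.obj.map e.inv.op).hom ((hq a _).trans (hz.trans (hq c _).symm))
  refine ⟨l, h₀, u, sect_ext (T.colimF.obj F) (U := T.toLim.obj (T.pullTo A h₀)) _ _ fun x => ?_⟩
  obtain ⟨a, y, hy⟩ := hcov ((pullback.fst (T.pullTo A h₀).str (T.pr l)).base x)
  have sq := EtCoh.isPullback_bc_map (T.pr l) (b.map (g a))
  obtain ⟨q, hq, -⟩ := Scheme.Pullback.exists_preimage_pullback x y hy.symm
  refine ⟨_, T.toLim.map ((T.incl l).map (b.map (g a))), sq.isoPullback.inv.base q, ?_, ?_⟩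
  · refine (congrArg (fun m : (EtCoh.bc (T.pr l)).obj (b.obj (V a)) ⟶ (EtCoh.bc (T.pr l)).obj (b.obj A.obj) =>
      m.left.base (sq.isoPullback.inv.base q)) (T.incl_toLim_map l (b.map (g a)))).trans (Eq.trans ?_ hq)
    exact (Scheme.Hom.comp_apply _ _ _).symm.trans (congrArg (fun m => m.base q) sq.isoPullback_inv_fst)
  · refine (atLim_map F _ u).symm.trans (Eq.trans (congrArg (atLim F) (hu a)) ?_)
    refine (atLim_map F (p a) (s a)).trans ?_
    rw [hs, ← Functor.map_comp_apply, ← Functor.map_comp_apply, ← op_comp, ← op_comp, ← T.toLim.map_comp,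
      ← T.toLim.map_comp]
    exact congrArg (fun r => ((T.colimF.obj F).obj.map (T.toLim.map r).op).hom t) (hp a).symm

set_option maxHeartbeats 800000 in
/-- Surjectivity: every section on the limit comes from a stage. -/
theorem exists_stage (F : T.Sys) {A : Obj T} (hA : IsQcqs A)
    (t : (T.colimF.obj F).obj.obj (op (T.toLim.obj A))) :
    ∃ (k : ι) (h : A.stage ≤ k) (u : F.obj.obj (op (T.pullTo A h))),
      atLim F u = ((T.colimF.obj F).obj.map (T.toLim.map (T.proj A h)).op).hom t := by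
  choose B g y s hB hy hs using fun x => exists_local F t x
  choose kB hkB φ hφ using fun x => T.exists_hom (hB x) (g x)
  choose y' hy' using fun x => toLim_proj_surjective (B x) (hkB x) (y x)
  have hy2 : ∀ x, (T.toLim.map (φ x)).left.base (y' x) = x := fun x => by
    rw [hφ]
    exact (Scheme.Hom.comp_apply _ _ _).trans ((congrArg _ (hy' x)).trans (hy x))
  have hs' : ∀ x, atLim F ((F.obj.map (T.proj (B x) (hkB x)).op).hom (s x)) =
      ((T.colimF.obj F).obj.map (T.toLim.map (φ x)).op).hom t := fun x => by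
    rw [atLim_map, hs, ← Functor.map_comp_apply, ← op_comp, hφ]
  haveI := qcqs_toLim hA
  have ho : ∀ x, IsOpen (Set.range (T.toLim.map (φ x)).left.base) := fun x => by
    haveI := EtFound.etale_left (T.toLim.map (φ x))
    exact (Scheme.Hom.isOpenMap ((T.toLim.map (φ x)).left)).isOpen_range
  obtain ⟨N, hN⟩ := isCompact_univ.elim_finite_subcover _ ho
    (fun x _ => Set.mem_iUnion.2 ⟨x, ⟨y' x, hy2 x⟩⟩)
  obtain ⟨k, h, h', hcov⟩ := T.exists_cover hA (fun a : N => T.pullTo (B a.1) (hkB a.1)) (fun a => φ a.1)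
    (fun x => by
      obtain ⟨a, ha, w, hw⟩ := Set.mem_iUnion₂.1 (hN (Set.mem_univ x))
      exact ⟨⟨a, ha⟩, w, hw⟩)
  obtain ⟨l, hl, u, hu⟩ := exists_glue_stage F (isQcqs_pullTo hA h)
    (((T.colimF.obj F).obj.map (T.toLim.map (T.proj A h)).op).hom t)
    (fun a : N => (T.pullTo (T.pullTo (B a.1) (hkB a.1)) (h' a)).obj) (fun a => T.mapTo (φ a.1) (h' a))
    (fun a => isQcqs_pullTo (isQcqs_pullTo (hB a.1) _) (h' a)) hcov
    (fun a => (F.obj.map (T.proj (T.pullTo (B a.1) (hkB a.1)) (h' a)).op).hom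
      ((F.obj.map (T.proj (B a.1) (hkB a.1)).op).hom (s a.1)))
    (fun a => by
      refine (atLim_map F _ _).trans ((congrArg ((T.colimF.obj F).obj.map
        (T.toLim.map (T.proj (T.pullTo (B a.1) (hkB a.1)) (h' a))).op).hom (hs' a.1)).trans ?_)
      refine (lim_map_map _ (φ a.1) _ t).trans (Eq.trans ?_ (lim_map_map _ (T.proj A h) _ t).symm)
      exact congrArg (fun r => ((T.colimF.obj F).obj.map (T.toLim.map r).op).hom t) (T.mapTo_proj (φ a.1) (h' a)).symm)
  let e : T.pullTo A (h.trans hl) ⟶ T.pullTo (T.pullTo A h) hl :=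
    T.liftTo (T.liftTo (T.proj A (h.trans hl)) h hl) hl le_rfl
  refine ⟨l, h.trans hl, (F.obj.map e.op).hom u, ?_⟩
  refine (atLim_map F e u).trans ((congrArg ((T.colimF.obj F).obj.map (T.toLim.map e).op).hom hu).trans ?_)
  refine (congrArg ((T.colimF.obj F).obj.map (T.toLim.map e).op).hom (lim_map_map _ (T.proj A h) _ t)).trans ?_
  refine (lim_map_map _ _ e t).trans ?_
  refine congrArg (fun r => ((T.colimF.obj F).obj.map (T.toLim.map r).op).hom t) ?_
  exact (Category.assoc _ _ _).symm.trans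
    ((congrArg (· ≫ T.proj A h) (T.liftTo_proj _ _ _)).trans (T.liftTo_proj _ _ _))

end Tower

end Groth.Agent.EtLim64
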