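import Groth.Agent.EtLim64.Diagram
import Groth.Agent.EtFound.Basic

/-!
# Morphisms, equalities and coverings descend to finite stages
-/

set_option autoImplicit false
set_option backward.isDefEq.respectTransparency.types false

universe u

open CategoryTheory CategoryTheory.Limits AlgebraicGeometry Opposite

namespace Groth.Agent.EtLim64

variable {ι : Type u} [Preorder ι] [IsDirected ι (· ≤ ·)] [Nonempty ι]

namespace Tower

variable (T : Tower ι)

/-- The universal property of the base change. -/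
noncomputable def liftTo {C A : Obj T} (φ : C ⟶ A) {k : ι} (h : A.stage ≤ k) (hk : k ≤ C.stage) :
    C ⟶ T.pullTo A h where
  map := pullback.lift φ.map (C.str ≫ T.tr hk)
    (φ.w.trans ((congrArg (C.str ≫ ·) (T.tr_tr h hk).symm).trans (Category.assoc _ _ _).symm))
  hle := hk
  w := pullback.lift_snd _ _ _

theorem liftTo_proj {C A : Obj T} (φ : C ⟶ A) {k : ι} (h : A.stage ≤ k) (hk : k ≤ C.stage) :
    T.liftTo φ h hk ≫ T.proj A h = φ :=
  hom_ext (pullback.lift_fst _ _ _)

theorem pullTo_hom_ext {C A : Obj T} {k : ι} {h : A.stage ≤ k} {a b : C ⟶ T.pullTo A h}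
    (e : a ≫ T.proj A h = b ≫ T.proj A h) : a = b :=
  hom_ext (pullback.hom_ext (congrArg Hom.map e) (a.w.trans b.w.symm))

theorem pullToFst (A : Obj T) (l : CategoryTheory.Over (op A.stage)) :
    (T.toLim.map (T.proj A (leOfHom l.hom.unop))).left ≫ (diagCone A).π.app l =
      pullback.fst (T.pullTo A (leOfHom l.hom.unop)).str (T.pr (unop l.left)) := by
  refine pullback.hom_ext ?_ ?_
  · exact (Category.assoc _ _ _).trans ((congrArg (_ ≫ ·) (pullback.lift_fst _ _ _)).trans
      (T.toLim_map_fst _))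
  · refine (Category.assoc _ _ _).trans ((congrArg (_ ≫ ·) (pullback.lift_snd _ _ _)).trans ?_)
    refine (Category.assoc _ _ _).symm.trans ((congrArg (· ≫ T.pr (unop l.left)) (T.toLim_map_snd _)).trans ?_)
    exact pullback.condition.symm

theorem exists_hom_of_le {A B : Obj T} (hA : IsQcqs A) (h₀ : B.stage ≤ A.stage)
    (b : T.toLim.obj A ⟶ T.toLim.obj B) :
    ∃ (k : ι) (h : A.stage ≤ k) (f : T.pullTo A h ⟶ B),
      T.toLim.map f = T.toLim.map (T.proj A h) ≫ b := by
  haveI : Etale B.str := B.obj.prop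
  haveI := fun l => (qcqs_diag hA l).1
  haveI := fun l => (qcqs_diag hA l).2
  let t : diag A ⟶ (Functor.const _).obj (T.obj B.stage) :=
    { app := fun l => pullback.fst A.str (T.Xs.map l.hom) ≫ A.str ≫ T.tr h₀
      naturality := fun l m g => by
        refine Eq.trans ?_ (Category.comp_id _).symm
        exact pullback.lift_fst_assoc _ _ _ _ }
  have hw : pullback.fst A.str (T.pr A.stage) ≫ A.str ≫ T.tr h₀ =
      (b.left ≫ pullback.fst B.str (T.pr B.stage)) ≫ B.str := by
    refine Eq.trans ?_ ((Category.assoc _ _ _).trans (congrArg (b.left ≫ ·) pullback.condition)).symm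
    refine (Category.assoc _ _ _).symm.trans ((congrArg (· ≫ T.tr h₀) pullback.condition).trans ?_)
    refine (Category.assoc _ _ _).trans ((congrArg (_ ≫ ·) (T.pr_tr h₀)).trans ?_)
    exact (congrArg (· ≫ T.pr B.stage) (MorphismProperty.Over.w b).symm).trans (Category.assoc _ _ _)
  obtain ⟨l, g, hg, hg'⟩ := Scheme.exists_π_app_comp_eq_of_locallyOfFinitePresentation
    (diag A) t B.str (diagCone A) (isLimitDiagCone A) (b.left ≫ pullback.fst B.str (T.pr B.stage)) (by
      ext l : 2
      exact (pullback.lift_fst_assoc _ _ _ _).trans hw)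
  have hl : A.stage ≤ unop l.left := leOfHom l.hom.unop
  let f : T.pullTo A hl ⟶ B :=
    ⟨g, h₀.trans hl, hg'.trans ((Category.assoc _ _ _).symm.trans
      ((congrArg (· ≫ T.tr h₀) pullback.condition).trans
        ((Category.assoc _ _ _).trans (congrArg (_ ≫ ·) (T.tr_tr h₀ hl)))))⟩
  refine ⟨unop l.left, hl, f, MorphismProperty.Over.Hom.ext (pullback.hom_ext ?_ ?_)⟩
  · refine (T.toLim_map_fst f).trans ?_
    refine (congrArg (· ≫ g) (T.pullToFst A l).symm).trans ?_
    refine (Category.assoc _ _ _).trans ((congrArg (_ ≫ ·) hg).trans ?_)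
    exact (Category.assoc _ _ _).symm
  · refine (T.toLim_map_snd f).trans ?_
    exact (MorphismProperty.Over.w (T.toLim.map (T.proj A hl) ≫ b)).symm

/-- Morphisms descend. -/
theorem exists_hom {A B : Obj T} (hA : IsQcqs A) (b : T.toLim.obj A ⟶ T.toLim.obj B) :
    ∃ (k : ι) (h : A.stage ≤ k) (f : T.pullTo A h ⟶ B),
      T.toLim.map f = T.toLim.map (T.proj A h) ≫ b := by
  obtain ⟨k₀, h₁, h₂⟩ := directed_of (α := ι) (· ≤ ·) A.stage B.stage
  obtain ⟨k, h, f, hf⟩ := T.exists_hom_of_le (isQcqs_pullTo hA h₁) (B := B) h₂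
    (T.toLim.map (T.proj A h₁) ≫ b)
  let e := T.liftTo (T.liftTo (T.proj A (h₁.trans h)) h₁ h) (k := k) h le_rfl
  refine ⟨k, h₁.trans h, e ≫ f, ?_⟩
  rw [T.toLim.map_comp, hf, ← Category.assoc, ← Category.assoc, ← T.toLim.map_comp, ← T.toLim.map_comp,
    T.liftTo_proj, T.liftTo_proj]

/-- Equalities of morphisms descend. -/
theorem exists_eq {A B : Obj T} (hA : IsQcqs A) (f g : A ⟶ B) (e : T.toLim.map f = T.toLim.map g) :
    ∃ (k : ι) (h : A.stage ≤ k), T.proj A h ≫ f = T.proj A h ≫ g := by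
  haveI : Etale B.str := B.obj.prop
  haveI := fun l => (qcqs_diag hA l).1
  let t : diag A ⟶ (Functor.const _).obj (T.obj B.stage) :=
    { app := fun l => pullback.fst A.str (T.Xs.map l.hom) ≫ A.str ≫ T.tr f.hle
      naturality := fun l m g => by
        refine Eq.trans ?_ (Category.comp_id _).symm
        exact pullback.lift_fst_assoc _ _ _ _ }
  let i : CategoryTheory.Over (op A.stage) := CategoryTheory.Over.mk (𝟙 _)
  obtain ⟨l, hl, he⟩ := Scheme.exists_hom_comp_eq_comp_of_locallyOfFiniteType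
    (diag A) t B.str (diagCone A) (isLimitDiagCone A) (i := i)
    (pullback.fst _ _ ≫ f.map) (pullback.fst _ _ ≫ g.map)
    ((congrArg (_ ≫ ·) f.w.symm).trans (Category.assoc _ _ _).symm)
    ((congrArg (_ ≫ ·) g.w.symm).trans (Category.assoc _ _ _).symm)
    (by
      refine (Category.assoc _ _ _).symm.trans (Eq.trans ?_ (Category.assoc _ _ _))
      refine (congrArg (· ≫ f.map) (pullback.lift_fst _ _ _)).trans (Eq.trans ?_
        (congrArg (· ≫ g.map) (pullback.lift_fst _ _ _)).symm)
      exact (T.toLim_map_fst f).symm.trans ((congrArg (fun m => m.left ≫ pullback.fst B.str _) e).trans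
        (T.toLim_map_fst g)))
  refine ⟨unop l.left, leOfHom l.hom.unop, hom_ext ?_⟩
  exact (congrArg (· ≫ f.map) (pullback.lift_fst _ _ _).symm).trans ((Category.assoc _ _ _).trans
    (he.trans ((Category.assoc _ _ _).symm.trans (congrArg (· ≫ g.map) (pullback.lift_fst _ _ _)))))

/-- Coverings descend. -/
theorem exists_cover {A : Obj T} (hA : IsQcqs A) {N : Type*} [Finite N] (B : N → Obj T)
    (f : ∀ a, B a ⟶ A)
    (hf : ∀ x : (T.toLim.obj A).left, ∃ a y, (T.toLim.map (f a)).left.base y = x) :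
    ∃ (k : ι) (h : A.stage ≤ k) (h' : ∀ a, (B a).stage ≤ k), ∀ x : (T.pullTo A h).sch,
      ∃ a y, (T.mapTo (f a) (h' a)).left.base y = x := by
  classical
  cases nonempty_fintype N
  obtain ⟨k₀, hk₀⟩ := Finset.exists_le (insert A.stage (Finset.univ.image fun a => (B a).stage))
  have h₀ : A.stage ≤ k₀ := hk₀ _ (Finset.mem_insert_self _ _)
  have h₀' : ∀ a, (B a).stage ≤ k₀ := fun a => hk₀ _ (Finset.mem_insert_of_mem (by simp))
  let A₀ := T.pullTo A h₀
  let g : ∀ a, (EtCoh.bc (T.tr (h₀' a))).obj (B a).obj ⟶ A₀.obj := fun a => T.mapTo (f a) (h₀' a)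
  let O : A₀.sch.Opens := ⟨⋃ a, Set.range (g a).left.base, isOpen_iUnion fun a => by
    haveI := EtFound.etale_left (g a)
    exact (Scheme.Hom.isOpenMap (g a).left).isOpen_range⟩
  haveI := fun l => (qcqs_diag (isQcqs_pullTo hA h₀) l).1
  let i : CategoryTheory.Over (op A₀.stage) := CategoryTheory.Over.mk (𝟙 _)
  obtain ⟨l, hl, htop⟩ := exists_map_eq_top (diag A₀) (diagCone A₀) (isLimitDiagCone A₀) (i := i)
    (pullback.fst A₀.str (T.Xs.map i.hom) ⁻¹ᵁ O) (by
      refine top_unique fun z _ => ?_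
      obtain ⟨a, y, hy⟩ := hf ((T.toLim.map (T.proj A h₀)).left.base z)
      let yy := (inv (T.toLim.map (T.proj (B a) (h₀' a)))).left.base y
      have hz : (T.toLim.map ((T.incl k₀).map (g a))).left.base yy = z := by
        have hinj : Function.Injective (T.toLim.map (T.proj A h₀)).left.base := by
          intro p q hpq
          have := congrArg (inv (T.toLim.map (T.proj A h₀))).left.base hpq
          rw [← Scheme.Hom.comp_apply, ← Scheme.Hom.comp_apply] at this
          have h1 : (T.toLim.map (T.proj A h₀)).left ≫ (inv (T.toLim.map (T.proj A h₀))).left = 𝟙 _ :=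
            congrArg (fun m => m.left) (IsIso.hom_inv_id (T.toLim.map (T.proj A h₀)))
          rw [h1] at this
          exact this
        apply hinj
        have e := congrArg (fun m => m.left) ((T.toLim.map_comp _ _).symm.trans
          ((congrArg T.toLim.map (T.mapTo_proj (f a) (h₀' a))).trans (T.toLim.map_comp _ _)))
        refine (Scheme.Hom.comp_apply _ _ _).symm.trans ((congrArg (fun m => m.base yy) e).trans ?_)
        refine Eq.trans ?_ hy
        refine (Scheme.Hom.comp_apply _ _ _).trans (congrArg _ ?_)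
        exact (Scheme.Hom.comp_apply _ _ _).symm.trans (congrArg (fun m => m.left.base y)
          (IsIso.inv_hom_id (T.toLim.map (T.proj (B a) (h₀' a)))))
      suffices h : ((diagCone A₀).π.app i ≫ pullback.fst A₀.str (T.Xs.map i.hom)).base z ∈ O from h
      refine Set.mem_iUnion.2 ⟨a, ((pullback.fst _ _ : _ ⟶ ((EtCoh.bc (T.tr (h₀' a))).obj (B a).obj).left)).base yy, ?_⟩
      refine Eq.trans ?_ (congrArg (fun m : (diagCone A₀).pt ⟶ A₀.sch => m.base z) (pullback.lift_fst _ _ _)).symm
      refine Eq.trans ?_ (congrArg (pullback.fst A₀.str (T.pr k₀)).base hz)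
      exact (Scheme.Hom.comp_apply _ _ _).symm.trans ((congrArg (fun m => m.base yy)
        (T.toLim_map_fst ((T.incl k₀).map (g a))).symm).trans (Scheme.Hom.comp_apply _ _ _)))
  have hkl : k₀ ≤ unop l.left := leOfHom l.hom.unop
  refine ⟨unop l.left, h₀.trans hkl, fun a => (h₀' a).trans hkl, fun x => ?_⟩
  let z : T.pullTo A (h₀.trans hkl) ⟶ T.pullTo A₀ hkl :=
    T.liftTo (T.liftTo (T.proj A (h₀.trans hkl)) h₀ hkl) hkl le_rfl
  have hxO : (pullback.fst A₀.str (T.tr hkl)).base (z.map.base x) ∈ O := by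
    have hh := htop.ge (Set.mem_univ (z.map.base x))
    have e : (diag A₀).map hl ≫ pullback.fst A₀.str (T.Xs.map i.hom) = pullback.fst A₀.str (T.tr hkl) :=
      pullback.lift_fst _ _ _
    exact (congrArg (fun m => m.base (z.map.base x)) e) ▸ hh
  obtain ⟨a, y₀, hy₀⟩ := Set.mem_iUnion.1 hxO
  have sq := EtCoh.isPullback_bc_map (T.tr hkl) (g a)
  obtain ⟨p, hp₁, hp₂⟩ := Scheme.Pullback.exists_preimage_pullback (z.map.base x) y₀ hy₀.symm
  let q : T.pullTo (T.pullTo (B a) (h₀' a)) hkl ⟶ T.pullTo (B a) ((h₀' a).trans hkl) :=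
    T.liftTo (T.proj _ hkl ≫ T.proj (B a) (h₀' a)) _ le_rfl
  let qA : T.pullTo A₀ hkl ⟶ T.pullTo A (h₀.trans hkl) :=
    T.liftTo (T.proj _ hkl ≫ T.proj A h₀) _ le_rfl
  have e1 : z ≫ qA = 𝟙 _ := by
    refine T.pullTo_hom_ext ?_
    rw [Category.assoc, T.liftTo_proj, ← Category.assoc, T.liftTo_proj, T.liftTo_proj, Category.id_comp]
  have e2 : (T.incl (unop l.left)).map ((EtCoh.bc (T.tr hkl)).map (g a)) ≫ qA =
      q ≫ (T.incl (unop l.left)).map (T.mapTo (f a) ((h₀' a).trans hkl)) := by
    refine T.pullTo_hom_ext ?_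
    have e3 : (T.incl (unop l.left)).map ((EtCoh.bc (T.tr hkl)).map (g a)) ≫ T.proj A₀ hkl =
        T.proj (T.pullTo (B a) (h₀' a)) hkl ≫ (T.incl k₀).map (g a) :=
      hom_ext (EtCoh.isPullback_bc_map (T.tr hkl) (g a)).w
    refine ((Category.assoc _ _ _).trans (congrArg (_ ≫ ·) (T.liftTo_proj _ _ _))).trans ?_
    refine ((Category.assoc _ _ _).symm.trans (congrArg (· ≫ T.proj A h₀) e3)).trans ?_
    refine ((Category.assoc _ _ _).trans (congrArg (_ ≫ ·) (T.mapTo_proj (f a) (h₀' a)))).trans ?_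
    refine Eq.trans ?_ (((Category.assoc _ _ _).trans
      (congrArg (q ≫ ·) (T.mapTo_proj (f a) ((h₀' a).trans hkl))))).symm
    refine (Category.assoc _ _ _).symm.trans ((congrArg (· ≫ f a) ?_).trans (Category.assoc _ _ _))
    exact (T.liftTo_proj _ _ _).symm
  let y : ((EtCoh.bc (T.tr hkl)).obj ((EtCoh.bc (T.tr (h₀' a))).obj (B a).obj)).left :=
    sq.isoPullback.inv.base p
  have hy : ((EtCoh.bc (T.tr hkl)).map (g a)).left.base y = z.map.base x := by
    rw [← hp₁]
    exact (Scheme.Hom.comp_apply _ _ _).symm.trans (congrArg (fun m => m.base p) sq.isoPullback_inv_fst)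
  refine ⟨a, q.map.base y, ?_⟩
  refine (Scheme.Hom.comp_apply _ _ _).symm.trans
    ((congrArg (fun m => m.map.base y) e2.symm).trans ?_)
  refine (Scheme.Hom.comp_apply _ _ _).trans ((congrArg qA.map.base hy).trans ?_)
  exact (Scheme.Hom.comp_apply _ _ _).symm.trans (congrArg (fun m => m.map.base x) e1)

end Tower

end Groth.Agent.EtLim64
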