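import Groth.Agent.EtLim64.Tower
import Groth.Agent.EtFound.QcqsObjects

/-!
# Base changes of a qcqs etale scheme over a stage form a limit system
-/

set_option autoImplicit false
set_option backward.isDefEq.respectTransparency.types false

universe u

open CategoryTheory CategoryTheory.Limits AlgebraicGeometry Opposite

namespace Groth.Agent.EtLim64

variable {ι : Type u} [Preorder ι] [IsDirected ι (· ≤ ·)] [Nonempty ι] {T : Tower ι}

namespace Tower

/-- Quasi-compact quasi-separated objects of the total category. -/
def IsQcqs (A : Obj T) : Prop := EtFound.IsQcqsObj A.obj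

theorem isQcqs_iff (A : Obj T) :
    IsQcqs A ↔ CompactSpace ↥A.sch ∧ QuasiSeparatedSpace ↥A.sch := Iff.rfl

theorem qcqs_of_affineHom {W Y : Scheme.{u}} (g : W ⟶ Y) [IsAffineHom g] [CompactSpace Y]
    [QuasiSeparatedSpace Y] : CompactSpace W ∧ QuasiSeparatedSpace W :=
  ⟨QuasiCompact.compactSpace_of_compactSpace g, quasiSeparatedSpace_of_quasiSeparated g⟩

theorem isQcqsObj_bc {Y Z : Scheme.{u}} (g : Y ⟶ Z) [IsAffineHom g] {V : Z.Etale}
    (hV : EtFound.IsQcqsObj V) : EtFound.IsQcqsObj ((EtCoh.bc g).obj V) := by
  obtain ⟨h1, h2⟩ := hV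
  have : IsAffineHom (pullback.fst V.hom g) := MorphismProperty.pullback_fst (P := @IsAffineHom) _ _ ‹_›
  exact @qcqs_of_affineHom _ _ (pullback.fst V.hom g) this h1 h2

theorem isQcqs_pullTo {A : Obj T} (hA : IsQcqs A) {k : ι} (h : A.stage ≤ k) :
    IsQcqs (T.pullTo A h) :=
  haveI : IsAffineHom (T.tr h) := T.haff _
  isQcqsObj_bc (T.tr h) hA

/-- The base changes of an object to all later stages. -/
noncomputable def diag (A : Obj T) : CategoryTheory.Over (op A.stage) ⥤ Scheme.{u} where
  obj l := pullback A.str (T.Xs.map l.hom)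
  map {l m} g := pullback.lift (pullback.fst _ _) (pullback.snd _ _ ≫ T.Xs.map g.left) (by
    rw [Category.assoc, ← T.Xs.map_comp, CategoryTheory.Over.w g]
    exact pullback.condition)
  map_id l := pullback.hom_ext ((pullback.lift_fst _ _ _).trans (Category.id_comp _).symm)
    ((pullback.lift_snd _ _ _).trans ((congrArg (pullback.snd _ _ ≫ ·) (T.Xs.map_id _)).trans
      ((Category.comp_id _).trans (Category.id_comp _).symm)))
  map_comp {l m n} g g' := by
    refine pullback.hom_ext ?_ ?_
    · rw [pullback.lift_fst, Category.assoc, pullback.lift_fst, pullback.lift_fst]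
    · rw [pullback.lift_snd, Category.assoc, pullback.lift_snd, pullback.lift_snd_assoc,
        Category.assoc, CategoryTheory.Over.comp_left, T.Xs.map_comp]

/-- The second projections. -/
noncomputable def diagSnd (A : Obj T) : diag A ⟶ CategoryTheory.Over.forget (op A.stage) ⋙ T.Xs where
  app l := pullback.snd _ _
  naturality {l m} g := pullback.lift_snd _ _ _

/-- The base change to the limit as a cone. -/
noncomputable def diagCone (A : Obj T) : Cone (diag A) where
  pt := pullback A.str (T.pr A.stage)
  π :=
    { app := fun l => pullback.lift (pullback.fst _ _) (pullback.snd _ _ ≫ T.c.π.app l.left) (by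
        rw [Category.assoc, T.c.w l.hom]
        exact pullback.condition)
      naturality := fun {l m} g => by
        refine (Category.id_comp _).trans (pullback.hom_ext ?_ ?_)
        · simp only [diag, pullback.lift_fst, Category.assoc]
        · simp only [diag, pullback.lift_snd, Category.assoc, pullback.lift_snd_assoc]
          rw [T.c.w g.left] }

attribute [local instance] CategoryTheory.isConnected_of_hasTerminal

/-- It is a limit cone. -/
noncomputable def isLimitDiagCone (A : Obj T) : IsLimit (diagCone A) :=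
  isLimitOfIsPullbackOfIsConnected (diagSnd A) _ (T.c.whisker (CategoryTheory.Over.forget _))
    { hom := pullback.snd A.str (T.pr A.stage)
      w := fun l => (pullback.lift_snd _ _ _).symm }
    (fun l => by
      refine (IsPullback.of_bot (h₁₁ := pullback.snd A.str (T.pr A.stage))
        (v₁₁ := (diagCone A).π.app l) (v₁₂ := T.c.π.app l.left) (h₂₁ := pullback.snd A.str (T.Xs.map l.hom))
        (v₂₁ := pullback.fst A.str (T.Xs.map l.hom)) (v₂₂ := T.Xs.map l.hom) (h₃₁ := A.str)
        ?_ (pullback.lift_snd _ _ _).symm (IsPullback.of_hasPullback _ _).flip).flip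
      rw [T.c.w l.hom]
      exact (congrArg (fun a => IsPullback _ a _ _) (pullback.lift_fst _ _ _)).mpr
        (IsPullback.of_hasPullback A.str (T.pr A.stage)).flip)
    ((Functor.Initial.isLimitWhiskerEquiv (CategoryTheory.Over.forget (op A.stage)) T.c).symm T.hc)

instance isAffineHom_diag_map (A : Obj T) {l m : CategoryTheory.Over (op A.stage)} (g : l ⟶ m) :
    IsAffineHom ((diag A).map g) := by
  refine MorphismProperty.of_isPullback (P := @IsAffineHom)
    (f := pullback.snd A.str (T.Xs.map m.hom)) (f' := pullback.snd A.str (T.Xs.map l.hom))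
    (g := T.Xs.map g.left) (g' := (diag A).map g) ?_ (T.haff _)
  refine (IsPullback.of_bot (h₁₁ := pullback.snd A.str (T.Xs.map l.hom)) (v₁₁ := (diag A).map g)
    (v₁₂ := T.Xs.map g.left) (h₂₁ := pullback.snd A.str (T.Xs.map m.hom))
    (v₂₁ := pullback.fst A.str (T.Xs.map m.hom)) (v₂₂ := T.Xs.map m.hom) (h₃₁ := A.str)
    ?_ (pullback.lift_snd _ _ _).symm (IsPullback.of_hasPullback _ _).flip)
  rw [← T.Xs.map_comp, CategoryTheory.Over.w g]
  exact (congrArg (fun a => IsPullback _ a _ _) (pullback.lift_fst _ _ _)).mpr
    (IsPullback.of_hasPullback A.str (T.Xs.map l.hom)).flip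

theorem qcqs_diag {A : Obj T} (hA : IsQcqs A) (l : CategoryTheory.Over (op A.stage)) :
    CompactSpace ↥((diag A).obj l) ∧ QuasiSeparatedSpace ↥((diag A).obj l) := by
  haveI : IsAffineHom (T.Xs.map l.hom) := T.haff _
  exact isQcqsObj_bc (T.Xs.map l.hom) hA

end Tower

end Groth.Agent.EtLim64
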