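import Groth.Agent.EtLim64.DegZero
import Groth.Agent.SiteBase.AbSecExact
import Mathlib.Algebra.Homology.ShortComplex.ExactFunctor

/-!
# Exactness of restriction to stages and of passage to the limit
-/

set_option autoImplicit false
set_option backward.isDefEq.respectTransparency.types false

universe u

open CategoryTheory CategoryTheory.Limits AlgebraicGeometry Opposite

namespace Groth.Agent.EtLim64

variable {ι : Type u} [Preorder ι] [IsDirected ι (· ≤ ·)] [Nonempty ι]

namespace Tower

variable (T : Tower ι)

instance locallySmall_Obj : LocallySmall.{u + 1} (Obj T) := ⟨fun _ _ => inferInstance⟩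

/-- The right adjoint of the restriction to a stage. -/
noncomputable abbrev resAdj (i : ι) : T.res i ⊣
    (T.incl i).sheafPushforwardCocontinuous AddCommGrpCat.{u + 1} (T.obj i).smallEtaleTopology T.topology :=
  (T.incl i).sheafAdjunctionCocontinuous AddCommGrpCat.{u + 1} (T.obj i).smallEtaleTopology T.topology

instance res_additive (i : ι) : (T.res i).Additive where
  map_add := by intros; rfl

instance pushAll_additive : T.pushAll.Additive where
  map_add := by intros; rfl

instance res_preservesFiniteColimits (i : ι) : PreservesFiniteColimits (T.res i) :=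
  have : PreservesColimitsOfSize.{0, 0} (T.res i) := (T.resAdj i).leftAdjoint_preservesColimits
  PreservesColimitsOfSize.preservesFiniteColimits _

instance colimF_additive : (T.colimF).Additive := T.colimAdj.left_adjoint_additive

instance colimF_preservesFiniteColimits : PreservesFiniteColimits T.colimF :=
  have : PreservesColimitsOfSize.{0, 0} T.colimF := T.colimAdj.leftAdjoint_preservesColimits
  PreservesColimitsOfSize.preservesFiniteColimits _

variable {T}

theorem colimF_map_injective {F G : T.Sys} (φ : F ⟶ G) [Mono φ] (U : T.lim.Etale) :
    Function.Injective ((T.colimF.map φ).hom.app (op U)).hom := by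
  refine (injective_iff_map_eq_zero _).2 fun t ht => sect_ext (T.colimF.obj F) t 0 fun x => ?_
  obtain ⟨A, g, y, s, hA, hy, hs⟩ := exists_local F t x
  have h0 : atLim G ((φ.hom.app (op A)).hom s) = 0 := by
    rw [atLim_nat, hs]
    refine (NatTrans.naturality_apply (T.colimF.map φ).hom g.op t).trans ?_
    exact (congrArg ((T.colimF.obj G).obj.map g.op).hom ht).trans (map_zero _)
  obtain ⟨k, h, hk⟩ := exists_zero G hA _ h0
  have hk' : (F.obj.map (T.proj A h).op).hom s = 0 := by
    refine SiteBase.sheaf_app_injective φ (T.pullTo A h) ?_
    refine Eq.trans ((NatTrans.naturality_apply φ.hom (T.proj A h).op s).trans hk) (map_zero _).symm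
  obtain ⟨z, hz⟩ := toLim_proj_surjective A h y
  refine ⟨_, T.toLim.map (T.proj A h) ≫ g, z,
    (Scheme.Hom.comp_apply (T.toLim.map (T.proj A h)).left g.left z).trans ((congrArg g.left.base hz).trans hy), ?_⟩
  refine Eq.trans ?_ (map_zero _).symm
  rw [op_comp, Functor.map_comp_apply]
  refine (congrArg _ hs.symm).trans ((atLim_map F _ s).symm.trans ?_)
  rw [hk']
  exact atLim_zero F _

variable (T)

instance colimF_preservesMono : T.colimF.PreservesMonomorphisms where
  preserves {F G} φ _ := by
    have : Mono (T.colimF.map φ).hom := by
      have : ∀ U, Mono ((T.colimF.map φ).hom.app U) := fun U =>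
        (AddCommGrpCat.mono_iff_injective _).2 (colimF_map_injective φ U.unop)
      exact NatTrans.mono_of_mono_app _
    exact (sheafToPresheaf _ _).mono_of_mono_map this

instance colimF_preservesFiniteLimits : PreservesFiniteLimits T.colimF := by
  rw [Functor.preservesFiniteLimits_iff_forall_exact_map_and_mono]
  intro S hS
  haveI := hS.mono_f
  haveI := hS.epi_g
  exact ⟨hS.exact.map_of_epi_of_preservesCokernel T.colimF inferInstance inferInstance, inferInstance⟩

theorem shortExact_colimF {S : ShortComplex T.Sys} (hS : S.ShortExact) : (S.map T.colimF).ShortExact :=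
  hS.map_of_exact T.colimF

theorem shortExact_res {S : ShortComplex T.Sys} (hS : S.ShortExact) (i : ι) :
    (S.map (T.res i)).ShortExact :=
  hS.map_of_exact (T.res i)

end Tower

end Groth.Agent.EtLim64
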