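import Groth.Agent.EtLim64.Exact
import Groth.Agent.EtLC12.QcqsAcyclic
import Mathlib.CategoryTheory.Functor.KanExtension.Adjunction

/-!
# Restrictions of injective systems to a stage are acyclic
-/

set_option autoImplicit false
set_option backward.isDefEq.respectTransparency.types false

universe u

open CategoryTheory CategoryTheory.Limits AlgebraicGeometry Opposite

namespace Groth.Agent.EtLim64

variable {ι : Type u} [Preorder ι] [IsDirected ι (· ≤ ·)] [Nonempty ι]

namespace Tower

variable (T : Tower ι)

theorem exists_span_incl {i : ι} (B : Obj T) {V₁ V₂ : (T.obj i).Etale} (a : B ⟶ (T.incl i).obj V₁)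
    (b : B ⟶ (T.incl i).obj V₂) :
    ∃ (V : (T.obj i).Etale) (c : B ⟶ (T.incl i).obj V) (p : V ⟶ V₁) (q : V ⟶ V₂),
      c ≫ (T.incl i).map p = a ∧ c ≫ (T.incl i).map q = b := by
  let F := Scheme.Etale.forget (T.obj i) ⋙ CategoryTheory.Over.forget (T.obj i)
  have : PreservesFiniteLimits (Scheme.Etale.forget (T.obj i)) := inferInstance
  have : PreservesLimitsOfShape WalkingCospan F := comp_preservesLimitsOfShape _ _
  let f₁ := (EtCore.topIsTerminal (T.obj i)).from V₁
  let f₂ := (EtCore.topIsTerminal (T.obj i)).from V₂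
  have sq := (IsPullback.of_hasPullback f₁ f₂).map F
  have e : a.map ≫ f₁.left = b.map ≫ f₂.left := by
    have e₁ : f₁.left = V₁.hom := (Category.comp_id _).symm.trans (MorphismProperty.Over.w f₁)
    have e₂ : f₂.left = V₂.hom := (Category.comp_id _).symm.trans (MorphismProperty.Over.w f₂)
    exact (congrArg (a.map ≫ ·) e₁).trans (a.w.trans (b.w.symm.trans (congrArg (b.map ≫ ·) e₂).symm))
  let m : B.sch ⟶ (pullback f₁ f₂).left := sq.lift a.map b.map e
  let c : B ⟶ (T.incl i).obj (pullback f₁ f₂) :=
    ⟨m, a.hle, (congrArg (m ≫ ·) (MorphismProperty.Over.w (pullback.fst f₁ f₂)).symm).trans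
      ((Category.assoc _ _ _).symm.trans ((congrArg (· ≫ V₁.hom) (sq.lift_fst _ _ _)).trans a.w))⟩
  exact ⟨_, c, pullback.fst _ _, pullback.snd _ _, hom_ext (sq.lift_fst _ _ _), hom_ext (sq.lift_snd _ _ _)⟩

theorem exists_equalizing_incl {i : ι} (B : Obj T) {V₁ V₂ : (T.obj i).Etale} (f g : V₁ ⟶ V₂)
    (a : B ⟶ (T.incl i).obj V₁) (h : a ≫ (T.incl i).map f = a ≫ (T.incl i).map g) :
    ∃ (V : (T.obj i).Etale) (c : B ⟶ (T.incl i).obj V) (e : V ⟶ V₁),
      c ≫ (T.incl i).map e = a ∧ e ≫ f = e ≫ g := by
  let F := Scheme.Etale.forget (T.obj i) ⋙ CategoryTheory.Over.forget (T.obj i)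
  have : PreservesFiniteLimits (Scheme.Etale.forget (T.obj i)) := inferInstance
  have : IsConnected WalkingParallelPair := inferInstance
  have : PreservesLimitsOfShape WalkingParallelPair F := comp_preservesLimitsOfShape _ _
  have hl := isLimitOfHasEqualizerOfPreservesLimit F f g
  obtain ⟨m, hm⟩ := Fork.IsLimit.lift' hl a.map (congrArg Hom.map h)
  let c : B ⟶ (T.incl i).obj (equalizer f g) :=
    ⟨m, a.hle, (congrArg (m ≫ ·) (MorphismProperty.Over.w (equalizer.ι f g)).symm).trans
      ((Category.assoc _ _ _).symm.trans ((congrArg (· ≫ V₁.hom) hm).trans a.w))⟩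
  exact ⟨_, c, equalizer.ι f g, hom_ext hm, equalizer.condition f g⟩

instance isCofilteredOrEmpty_incl (i : ι) (B : Obj T) :
    IsCofilteredOrEmpty (StructuredArrow B (T.incl i)) where
  cone_objs P Q := by
    obtain ⟨V, c, p, q, hp, hq⟩ := T.exists_span_incl B P.hom Q.hom
    exact ⟨StructuredArrow.mk c, StructuredArrow.homMk p hp, StructuredArrow.homMk q hq, trivial⟩
  cone_maps P Q f g := by
    obtain ⟨V, c, e, he, he'⟩ := T.exists_equalizing_incl B f.right g.right P.hom
      ((StructuredArrow.w f).trans (StructuredArrow.w g).symm)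
    exact ⟨StructuredArrow.mk c, StructuredArrow.homMk e he, StructuredArrow.ext _ _ he'⟩

instance isFilteredOrEmpty_incl_op (i : ι) (B : Obj T) :
    IsFilteredOrEmpty (CostructuredArrow (T.incl i).op (op B)) :=
  IsFilteredOrEmpty.of_equivalence (structuredArrowOpEquivalence (T.incl i) B)

instance lan_preservesMono (i : ι) :
    ((T.incl i).op.lan : _ ⥤ (Obj T)ᵒᵖ ⥤ AddCommGrpCat.{u + 1}).PreservesMonomorphisms where
  preserves {P Q} φ _ := by
    refine @NatTrans.mono_of_mono_app _ _ _ _ _ _ _ (fun B => ?_)
    obtain ⟨B⟩ := B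
    let hP := (T.incl i).op.isPointwiseLeftKanExtensionLeftKanExtensionUnit P (op B)
    rcases isEmpty_or_nonempty (CostructuredArrow (T.incl i).op (op B)) with he | hne
    · haveI : IsEmpty (CostructuredArrow (T.incl i).op (op B)) := he
      have hz : IsZero (((T.incl i).op.lan.obj P).obj (op B)) := (IsZero.iff_id_eq_zero _).2
        (hP.hom_ext fun g => isEmptyElim g)
      exact ⟨fun a b _ => hz.eq_of_tgt a b⟩
    · have : IsFiltered (CostructuredArrow (T.incl i).op (op B)) := ⟨⟩
      have : IsFiltered (AsSmall.{u + 1} (CostructuredArrow (T.incl i).op (op B))) :=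
        IsFiltered.of_equivalence AsSmall.equiv
      have : PreservesFilteredColimitsOfSize.{u + 1, u + 1} (forget AddCommGrpCat.{u + 1}) :=
        AddCommGrpCat.FilteredColimits.forget_preservesFilteredColimits.{u + 1}
      have : PreservesColimitsOfShape (CostructuredArrow (T.incl i).op (op B)) (forget AddCommGrpCat.{u + 1}) :=
        preservesColimitsOfShape_of_equiv AsSmall.equiv.symm _
      let hQ := (T.incl i).op.isPointwiseLeftKanExtensionLeftKanExtensionUnit Q (op B)
      refine (AddCommGrpCat.mono_iff_injective _).2 ((injective_iff_map_eq_zero _).2 fun x hx => ?_)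
      obtain ⟨g, y, hy⟩ := Concrete.isColimit_exists_rep _ hP x
      have hy' : ((((T.incl i).op.lan).map φ).app (op B)).hom x =
          (((Functor.LeftExtension.coconeAt (Functor.LeftExtension.mk _ ((T.incl i).op.lanUnit.app Q))
            (op B))).ι.app g).hom ((φ.app g.left).hom y) := by
        rw [← hy]
        have n1 := congrArg (fun t => t.app g.left) ((T.incl i).op.lanUnit.naturality φ)
        have n2 := (((T.incl i).op.lan).map φ).naturality g.hom
        refine (ConcreteCategory.congr_hom n2 (((T.incl i).op.lanUnit.app P).app g.left y)).trans ?_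
        exact congrArg (((T.incl i).op.lan.obj Q).map g.hom).hom (ConcreteCategory.congr_hom n1 y).symm
      obtain ⟨k, p, q, hpq⟩ := Concrete.isColimit_exists_of_rep_eq _ hQ ((φ.app g.left).hom y)
        (0 : Q.obj g.left) (hy'.symm.trans (hx.trans (map_zero _).symm))
      have hmono : Mono (φ.app k.left) := inferInstance
      have hz : (P.map p.left).hom y = 0 := by
        refine (AddCommGrpCat.mono_iff_injective _).1 hmono ?_
        refine (NatTrans.naturality_apply φ p.left y).trans ?_
        exact hpq.trans ((map_zero _).trans (map_zero _).symm)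
      rw [← hy, ← (Functor.LeftExtension.coconeAt _ (op B)).w p]
      exact (congrArg (((Functor.LeftExtension.coconeAt (Functor.LeftExtension.mk _ ((T.incl i).op.lanUnit.app P))
        (op B))).ι.app k).hom hz).trans (map_zero _)

theorem injective_res_presheaf (I : T.Sys) [Injective I] (i : ι) :
    Injective ((T.incl i).op ⋙ I.obj) := by
  haveI : Injective I.obj :=
    Injective.injective_of_adjoint (sheafificationAdjunction T.topology AddCommGrpCat.{u + 1}) I
  exact Injective.injective_of_adjoint ((T.incl i).op.lanAdjunction AddCommGrpCat.{u + 1}) I.obj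

theorem isCechAcyclic_res (I : T.Sys) [Injective I] (i : ι) :
    EtLC12.QcqsAcyclic.IsCechAcyclic ((T.res i).obj I) := by
  intro U _ κ _ Uf _ _ p
  haveI : LocallySmall.{u + 1} (T.obj i).Etale := ⟨fun _ _ => inferInstance⟩
  haveI : Injective ((T.res i).obj I).obj := T.injective_res_presheaf I i
  exact EtFound.CechInjGen.isZero_cechH_injective Uf _ p

theorem subsingleton_H_res (I : T.Sys) [Injective I] (i : ι) (q : ℕ) :
    Subsingleton (EtCoh.H (T.obj i) ((T.res i).obj I) (q + 1)) :=
  EtLC12.QcqsAcyclic.subsingleton_H_of_isCechAcyclic q _ (T.isCechAcyclic_res I i)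

end Tower

end Groth.Agent.EtLim64
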