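import Groth.Agent.EtLim64.BigSheaf
import Groth.Prelude.Def_EtLim

/-!
# Global functions and units commute with limits of qcqs schemes
-/

set_option autoImplicit false
set_option maxHeartbeats 1000000
set_option maxRecDepth 10000
set_option backward.isDefEq.respectTransparency.types false
set_option linter.style.haveILetI false

universe u

open CategoryTheory CategoryTheory.Limits AlgebraicGeometry Opposite

namespace Groth.Agent.EtLim64

/-- Global functions on schemes as a sheaf. -/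
noncomputable def addBig : Sheaf Scheme.etaleTopology.{u} AddCommGrpCat.{u + 1} :=
  ⟨EtCoh.ΓAdd, EtCoh.isSheaf_ΓAdd⟩

/-- Units on schemes as a sheaf. -/
noncomputable def unitsBig : Sheaf Scheme.etaleTopology.{u} AddCommGrpCat.{u + 1} :=
  ⟨EtCoh.ΓUnits, EtCoh.isSheaf_ΓUnits⟩

section Lim

variable {I : Type u} [SmallCategory I] [IsCofiltered I] (D : I ⥤ Scheme.{u}) (c : Cone D) (hc : IsLimit c)
  [∀ {i j} (f : i ⟶ j), IsAffineHom (D.map f)] [∀ i, CompactSpace ↥(D.obj i)]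
  [∀ i, QuasiSeparatedSpace ↥(D.obj i)]

include hc in
theorem exists_eq_of_appTop {i : I} (s t : Γ(D.obj i, ⊤)) (h : (c.π.app i).appTop s = (c.π.app i).appTop t) :
    ∃ (j : I) (f : j ⟶ i), (D.map f).appTop s = (D.map f).appTop t :=
  exists_app_map_eq_map_of_isLimit D c hc (U := ⊤) isCompact_univ s t h

include hc in
theorem exists_unit_eq_one {i : I} (t : Γ(D.obj i, ⊤)) (h : (c.π.app i).appTop t = 1) :
    ∃ (j : I) (f : j ⟶ i), (D.map f).appTop t = 1 := by
  obtain ⟨j, f, e⟩ := exists_eq_of_appTop D c hc t 1 (h.trans (map_one _).symm)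
  exact ⟨j, f, e.trans (map_one _)⟩

theorem appTop_comp {i j k : I} (f : k ⟶ j) (g : j ⟶ i) (t : Γ(D.obj i, ⊤)) :
    (D.map f).appTop ((D.map g).appTop t) = (D.map (f ≫ g)).appTop t := by
  rw [D.map_comp, Scheme.Hom.comp_appTop]
  rfl

theorem π_appTop {i j : I} (f : j ⟶ i) (t : Γ(D.obj i, ⊤)) :
    (c.π.app j).appTop ((D.map f).appTop t) = (c.π.app i).appTop t := by
  rw [← c.w f, Scheme.Hom.comp_appTop]
  rfl

include hc in
theorem exists_units_map_eq (z : Γ(c.pt, ⊤)ˣ) :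
    ∃ (i : I) (t : Γ(D.obj i, ⊤)ˣ), Units.map (c.π.app i).appTop.hom.toMonoidHom t = z := by
  obtain ⟨i, a, ha⟩ := exists_appTop_π_eq_of_isLimit D c hc (z : Γ(c.pt, ⊤))
  obtain ⟨j, b, hb⟩ := exists_appTop_π_eq_of_isLimit D c hc (↑z⁻¹ : Γ(c.pt, ⊤))
  let k := IsCofiltered.min i j
  let fi : k ⟶ i := IsCofiltered.minToLeft i j
  let fj : k ⟶ j := IsCofiltered.minToRight i j
  obtain ⟨l, f, hf⟩ := exists_unit_eq_one D c hc ((D.map fi).appTop a * (D.map fj).appTop b) (by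
    rw [map_mul, π_appTop, π_appTop, ← ha, ← hb]
    exact z.mul_inv)
  rw [map_mul, appTop_comp, appTop_comp] at hf
  refine ⟨l, Units.mkOfMulEqOne _ _ hf, Units.ext ?_⟩
  exact (π_appTop D c (f ≫ fi) a).trans ha.symm

end Lim

theorem commutesLimits_add : CommutesLimits (addBig.{u}).obj := by
  refine ⟨fun D c hc _ _ _ z => ?_, fun D c hc _ _ _ i t ht => ?_⟩
  · obtain ⟨i, a, ha⟩ := exists_appTop_π_eq_of_isLimit D c hc z.down
    exact ⟨i, ⟨a⟩, congrArg ULift.up ha.symm⟩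
  · obtain ⟨j, f, e⟩ := exists_eq_of_appTop D c hc t.down 0 ((congrArg ULift.down ht).trans (map_zero _).symm)
    exact ⟨j, f, congrArg ULift.up (e.trans (map_zero _))⟩

theorem commutesLimits_units : CommutesLimits (unitsBig.{u}).obj := by
  refine ⟨fun D c hc _ _ _ z => ?_, fun D c hc _ _ _ i t ht => ?_⟩
  · obtain ⟨i, a, ha⟩ := exists_units_map_eq D c hc (Additive.toMul z.down)
    exact ⟨i, ⟨Additive.ofMul a⟩, congrArg (fun x => ULift.up (Additive.ofMul x)) ha⟩
  · obtain ⟨j, f, e⟩ := exists_unit_eq_one D c hc (Additive.toMul t.down : Γ(D.obj i, ⊤)ˣ).val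
      (congrArg (fun x => Units.val (Additive.toMul (ULift.down x))) ht)
    exact ⟨j, f, congrArg (fun x => ULift.up (Additive.ofMul x)) (Units.ext e)⟩

theorem hGaPull_eq {X Y : Scheme.{u}} (f : X ⟶ Y) [PreservesFiniteLimits (EtCoh.pull f)] (n : ℕ)
    (x : EtCoh.H Y (EtCoh.Ga Y) n) : EtLim.HGaPull f n x = smallPull addBig f n x :=
  (hpullThen_pre f (EtLim.GaPush f) ((EtCoh.pullPushAdj f).counit.app (EtCoh.Ga X)) n x).trans
    (congrArg (fun a => EtLim.HpullThen f (EtCoh.Ga Y) a n x) ((EtCoh.pullPushAdj f).homEquiv_counit _ _ _).symm)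

theorem hGmPull_eq {X Y : Scheme.{u}} (f : X ⟶ Y) [PreservesFiniteLimits (EtCoh.pull f)] (n : ℕ)
    (x : EtCoh.H Y (EtCoh.Gm Y) n) : EtLim.HGmPull f n x = smallPull unitsBig f n x :=
  (hpullThen_pre f (EtLim.GmPush f) ((EtCoh.pullPushAdj f).counit.app (EtCoh.Gm X)) n x).trans
    (congrArg (fun a => EtLim.HpullThen f (EtCoh.Gm Y) a n x) ((EtCoh.pullPushAdj f).homEquiv_counit _ _ _).symm)

end Groth.Agent.EtLim64
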