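import Groth.Agent.EtLim64.SystemStatement
import Groth.Agent.EtEff48.PullCoh

/-!
# Systems pulled back from a fixed scheme
-/

set_option autoImplicit false
set_option maxHeartbeats 1000000
set_option maxRecDepth 10000
set_option backward.isDefEq.respectTransparency.types false
set_option linter.unusedSectionVars false
set_option linter.style.haveILetI false

universe u

open CategoryTheory CategoryTheory.Limits AlgebraicGeometry Opposite

namespace Groth.Agent.EtLim64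

open EtEff48.HFun (θ θ_assoc)

theorem θ_symm {X Y Z : Scheme.{u}} (k : X ⟶ Y) (t : Y ⟶ Z) (c : X ⟶ Z) (w : k ≫ t = c) :
    (θ k t c w).symm = EtCore.pullCongr w.symm ≪≫ EtCore.pullComp k t := by
  subst w
  ext1
  simp [θ, EtCore.pullCongr]

theorem θ_cocycle {T₀ T₁ T₂ T₃ : Scheme.{u}} (h : T₀ ⟶ T₁) (g : T₁ ⟶ T₂) (a : T₂ ⟶ T₃) (k : T₀ ⟶ T₂)
    (b : T₁ ⟶ T₃) (c : T₀ ⟶ T₃) (wk : h ≫ g = k) (wb : g ≫ a = b) (wc : h ≫ b = c) (wc' : k ≫ a = c)
    (F : EtCoh.Ab T₃) :
    (θ k a c wc').hom.app F = (θ h g k wk).symm.hom.app ((EtCoh.pull a).obj F) ≫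
      (EtCoh.pull h).map ((θ g a b wb).hom.app F) ≫ (θ h b c wc).hom.app F := by
  rw [θ_assoc h g a k b c wk wb wc wc', Iso.symm_hom, Iso.inv_hom_id_app_assoc]

section Generic

variable {J : Type u} [Preorder J] (Ys : Jᵒᵖ ⥤ Scheme.{u}) (d : Cone Ys) {S : Scheme.{u}}
  (a : ∀ j : J, Ys.obj (op j) ⟶ S) (ha : ∀ ⦃i j : J⦄ (h : i ≤ j), Ys.map (homOfLE h).op ≫ a i = a j)
  (a' : d.pt ⟶ S) (ha' : ∀ j : J, d.π.app (op j) ≫ a j = a') (F₀ : EtCoh.Ab S)

/-- The transition maps of the pulled back system. -/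
noncomputable def onePhi : PhiFam Ys (fun j => (EtCoh.pull (a j)).obj F₀) := fun i j h =>
  (θ (Ys.map (homOfLE h).op) (a i) (a j) (ha h)).hom.app F₀

theorem one_cocycle : Cocycle Ys (fun j => (EtCoh.pull (a j)).obj F₀) (onePhi Ys a ha F₀) := by
  intro i j k hij hjk
  have hk : Ys.map (homOfLE hjk).op ≫ Ys.map (homOfLE hij).op = Ys.map (homOfLE (hij.trans hjk)).op :=
    (Ys.map_comp _ _).symm
  have e : EtLim.pullTrans Ys hij hjk = (θ _ _ _ hk).symm := (θ_symm _ _ _ hk).symm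
  rw [e]
  exact θ_cocycle _ _ (a i) _ _ _ hk (ha hij) (ha hjk) (ha (hij.trans hjk)) F₀

/-- The identification with the constant diagram. -/
noncomputable def onePsi : PsiFam Ys d (fun j => (EtCoh.pull (a j)).obj F₀)
    ((Functor.const J).obj ((EtCoh.pull a').obj F₀)) := fun j =>
  (θ (d.π.app (op j)) (a j) a' (ha' j)).app F₀

theorem one_compat : DiagCompat Ys d (fun j => (EtCoh.pull (a j)).obj F₀) (onePhi Ys a ha F₀) _
    (onePsi Ys d a a' ha' F₀) := by
  intro i j hij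
  have hk : d.π.app (op j) ≫ Ys.map (homOfLE hij).op = d.π.app (op i) := d.w (homOfLE hij).op
  have e : EtLim.pullTransCone Ys d hij = (θ _ _ _ hk).symm := (θ_symm _ _ _ hk).symm
  rw [e]
  exact (Category.comp_id _).trans (θ_cocycle _ _ (a i) _ _ _ hk (ha hij) (ha' j) (ha' i) F₀)

end Generic

end Groth.Agent.EtLim64
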