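import Groth.Agent.EtLim64.OneStage

/-!
# Passage to the limit for a sheaf pulled back from a fixed scheme
-/

set_option autoImplicit false
set_option maxHeartbeats 1000000
set_option maxRecDepth 10000
set_option backward.isDefEq.respectTransparency.types false
set_option linter.unusedSectionVars false

universe u

open CategoryTheory CategoryTheory.Limits AlgebraicGeometry Opposite

namespace Groth.Agent.EtLim64

open EtEff48.HFun (θ)

section Generic

variable {J : Type u} [Preorder J] (Ys : Jᵒᵖ ⥤ Scheme.{u}) (d : Cone Ys) {S : Scheme.{u}}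
  (a : ∀ j : J, Ys.obj (op j) ⟶ S) (ha : ∀ ⦃i j : J⦄ (h : i ≤ j), Ys.map (homOfLE h).op ≫ a i = a j)
  (a' : d.pt ⟶ S) (ha' : ∀ j : J, d.π.app (op j) ≫ a j = a') (F₀ : EtCoh.Ab S)

variable [IsDirected J (· ≤ ·)] [Nonempty J]

/-- The fold map of a constant diagram. -/
noncomputable def fold (A : EtCoh.Ab d.pt) : colimit ((Functor.const J).obj A) ⟶ A :=
  colimit.desc ((Functor.const J).obj A) { pt := A, ι := 𝟙 _ }

theorem ι_fold (A : EtCoh.Ab d.pt) (j : J) : colimit.ι ((Functor.const J).obj A) j ≫ fold Ys d A = 𝟙 A :=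
  colimit.ι_desc _ j

theorem exists_pull_stage (hd : IsLimit d) (haff : ∀ ⦃x y : Jᵒᵖ⦄ (h : x ⟶ y), IsAffineHom (Ys.map h))
    (hqc : ∀ x, CompactSpace ↥(Ys.obj x)) (hqs : ∀ x, QuasiSeparatedSpace ↥(Ys.obj x))
    [∀ x, PreservesFiniteLimits (EtCoh.pull (d.π.app x))]
    [∀ ⦃x y : Jᵒᵖ⦄ (h : x ⟶ y), PreservesFiniteLimits (EtCoh.pull (Ys.map h))] (p : ℕ) :
    (∀ ξ : EtCoh.H d.pt ((EtCoh.pull a').obj F₀) p, ∃ (j : J) (ξj : EtCoh.H (Ys.obj (op j)) ((EtCoh.pull (a j)).obj F₀) p),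
        EtCore.HpullVia (d.π.app (op j)) (a j) a' (ha' j) F₀ p ξj = ξ) ∧
    (∀ (j : J) (ξj : EtCoh.H (Ys.obj (op j)) ((EtCoh.pull (a j)).obj F₀) p),
      EtCore.HpullVia (d.π.app (op j)) (a j) a' (ha' j) F₀ p ξj = 0 →
        ∃ (k : J) (hk : j ≤ k), EtLim.HpullThen (Ys.map (homOfLE hk).op) _ (onePhi Ys a ha F₀ hk) p ξj = 0) := by
  obtain ⟨hsurj, hinj⟩ := isColim_of_tower ⟨Ys, d, hd, haff, hqc, hqs⟩ _ (onePhi Ys a ha F₀)
    (one_cocycle Ys a ha F₀) _ (onePsi Ys d a a' ha' F₀) (one_compat Ys d a ha a' ha' F₀) p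
  let A := (EtCoh.pull a').obj F₀
  obtain ⟨j₀⟩ := ‹Nonempty J›
  refine ⟨fun ξ => ?_, fun j ξj h0 => ?_⟩
  · obtain ⟨j, x, hx⟩ := hsurj (ξ.comp (Abelian.Ext.mk₀ (colimit.ι ((Functor.const J).obj A) j₀)) (add_zero p))
    refine ⟨j, x, ?_⟩
    have h1 := congrArg (fun e : EtCoh.H d.pt (colimit ((Functor.const J).obj A)) p =>
      e.comp (Abelian.Ext.mk₀ (fold Ys d A)) (add_zero p)) hx
    refine Eq.trans ?_ (h1.trans ((Abelian.Ext.comp_assoc_of_third_deg_zero _ _ _ _).trans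
      ((congrArg (fun e => Abelian.Ext.comp ξ e (add_zero p)) ((Abelian.Ext.mk₀_comp_mk₀ _ _).trans
        (congrArg Abelian.Ext.mk₀ (ι_fold Ys d A j₀)))).trans (Abelian.Ext.comp_mk₀_id ξ))))
    refine Eq.trans ?_ (hpullThen_post (d.π.app (op j)) _ (fold Ys d A) p x)
    exact congrArg (fun e => EtLim.HpullThen (d.π.app (op j)) _ e p x)
      ((Category.assoc _ _ _).trans ((congrArg (_ ≫ ·) (ι_fold Ys d A j)).trans (Category.comp_id _))).symm
  · exact hinj j ξj ((hpullThen_post (d.π.app (op j)) ((θ (d.π.app (op j)) (a j) a' (ha' j)).hom.app F₀)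
      (colimit.ι ((Functor.const J).obj A) j) p ξj).trans
      ((congrArg (fun e : EtCoh.H d.pt A p =>
        e.comp (Abelian.Ext.mk₀ (colimit.ι ((Functor.const J).obj A) j)) (add_zero p)) h0).trans
        (Abelian.Ext.zero_comp _ _ _ _ _)))

end Generic

theorem Hpull_eq_zero_of_hpullThen {X Y : Scheme.{u}} (u : X ⟶ Y) [PreservesFiniteLimits (EtCoh.pull u)]
    (G : EtCoh.Ab Y) {M : EtCoh.Ab X} (e : (EtCoh.pull u).obj G ≅ M) (p : ℕ) (x : EtCoh.H Y G p)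
    (h : EtLim.HpullThen u G e.hom p x = 0) : EtCore.Hpull u G p x = 0 := by
  refine ((Abelian.Ext.comp_mk₀_id (EtCore.Hpull u G p x)).symm.trans
    (congrArg (fun r => EtLim.HpullThen u G r p x) e.hom_inv_id.symm)).trans ?_
  exact (hpullThen_post u e.hom e.inv p x).trans
    ((congrArg (fun y : EtCoh.H X M p => y.comp (Abelian.Ext.mk₀ e.inv) (add_zero p)) h).trans
      (Abelian.Ext.zero_comp _ _ _ _ _))

end Groth.Agent.EtLim64
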