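import Groth.Agent.EtLim64.Comparison

/-!
# The system of direct images of a sheaf on the limit
-/

set_option autoImplicit false
set_option maxHeartbeats 1000000
set_option maxRecDepth 10000
set_option backward.isDefEq.respectTransparency.types false
set_option linter.style.haveILetI false
set_option linter.unusedSectionVars false

universe u

open CategoryTheory CategoryTheory.Limits AlgebraicGeometry Opposite CategoryTheory.Abelian

namespace Groth.Agent.EtLim64

theorem comp_congr_inv_left_fst {X Y Z : Scheme.{u}} (f : X ⟶ Y) (g : Y ⟶ Z) {k : X ⟶ Z} (hk : k = f ≫ g)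
    (V : Z.Etale) :
    ((MorphismProperty.Over.pullbackComp (P := EtCoh.etaleMP) (Q := ⊤) f g).inv.app V ≫
      (MorphismProperty.Over.pullbackCongr (P := EtCoh.etaleMP) (Q := ⊤) hk).inv.app V).left ≫ pullback.fst V.hom k =
      pullback.fst (pullback.snd V.hom g) f ≫ pullback.fst V.hom g := by
  subst hk
  simp [MorphismProperty.Over.pullbackCongr]
  exact (congrArg (_ ≫ ·) (Category.id_comp _)).trans (pullbackLeftPullbackSndIso_hom_fst _ _ _)

variable {ι : Type u} [Preorder ι] [IsDirected ι (· ≤ ·)] [Nonempty ι]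

namespace Tower

variable {T : Tower ι}

theorem counit_atLim (G : EtCoh.Ab T.lim) {A : Obj T} (u : G.obj.obj (op (T.toLim.obj A))) :
    ((T.colimAdj.counit.app G).hom.app (op (T.toLim.obj A))).hom (atLim (T.pushAll.obj G) (A := A) u) = u :=
  ConcreteCategory.congr_hom (congrArg (fun m : T.pushAll.obj G ⟶ T.pushAll.obj G => m.hom.app (op A))
    (T.colimAdj.right_triangle_components G)) u

theorem counit_bijective_toLim (G : EtCoh.Ab T.lim) {A : Obj T} (hA : IsQcqs A) :
    Function.Bijective ((T.colimAdj.counit.app G).hom.app (op (T.toLim.obj A))).hom := by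
  refine ⟨(injective_iff_map_eq_zero _).2 fun t ht => ?_, fun z => ⟨_, counit_atLim G z⟩⟩
  obtain ⟨k, h, u, hu⟩ := exists_stage (T.pushAll.obj G) hA t
  haveI := T.isIso_toLim_proj A h
  have hu0 : u = 0 := by
    refine (counit_atLim G u).symm.trans ?_
    refine (congrArg ((T.colimAdj.counit.app G).hom.app (op (T.toLim.obj (T.pullTo A h)))).hom hu).trans ?_
    refine (NatTrans.naturality_apply (T.colimAdj.counit.app G).hom (T.toLim.map (T.proj A h)).op t).trans ?_
    exact (congrArg ((((𝟭 (EtCoh.Ab T.lim)).obj G).obj.map (T.toLim.map (T.proj A h)).op).hom) ht).trans (map_zero _)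
  refine Eq.trans ?_ (map_zero ((T.colimF.obj (T.pushAll.obj G)).obj.map (T.toLimProjInv A h).op).hom)
  refine Eq.trans ?_ (congrArg ((T.colimF.obj (T.pushAll.obj G)).obj.map (T.toLimProjInv A h).op).hom
    (hu.symm.trans ((congrArg (atLim (T.pushAll.obj G)) hu0).trans (atLim_zero _ _))))
  exact (ab_map_map_id (T.colimF.obj (T.pushAll.obj G)).obj _ _ (toLimProjInv_proj A h) t).symm

theorem isIso_counit (G : EtCoh.Ab T.lim) : IsIso (T.colimAdj.counit.app G) := by
  refine (Sheaf.isLocallyBijective_iff_isIso _).1 ⟨⟨fun {U} x y h => ?_⟩, ⟨fun {U} z => ?_⟩⟩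
  · refine (EtFound.mem_topology_iff _).2 fun p => ?_
    obtain ⟨A, g, w, -, hA, hw⟩ := T.exists_basis U.unop p
    refine ⟨_, g, w, (counit_bijective_toLim G hA).1 ?_, hw⟩
    refine (NatTrans.naturality_apply _ g.op x).trans (Eq.trans ?_ (NatTrans.naturality_apply _ g.op y).symm)
    exact congrArg _ h
  · refine (EtFound.mem_topology_iff _).2 fun p => ?_
    obtain ⟨A, g, w, -, hA, hw⟩ := T.exists_basis U p
    exact ⟨_, g, w, (counit_bijective_toLim G hA).2 _, hw⟩

theorem αLim_comp_counit (i : ι) (G : EtCoh.Ab T.lim) :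
    (T.αLim i).app (T.pushAll.obj G) ≫ T.colimAdj.counit.app G = (EtCoh.pullPushAdj (T.pr i)).counit.app G := by
  apply ((EtCoh.pullPushAdj (T.pr i)).homEquiv _ _).injective
  refine ((EtCoh.pullPushAdj (T.pr i)).homEquiv_naturality_right _ _).trans ?_
  refine (congrArg (· ≫ _) (T.homEquiv_αLim i _)).trans ?_
  refine Eq.trans ?_ ((Adjunction.homEquiv_unit _ _ _ _).trans
    ((EtCoh.pullPushAdj (T.pr i)).right_triangle_components G)).symm
  ext V : 3
  exact congrArg (fun m : T.pushAll.obj G ⟶ T.pushAll.obj G => m.hom.app (op ((T.incl i).obj V.unop)))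
    (T.colimAdj.right_triangle_components G)

theorem hofPush_eq (i : ι) (G : EtCoh.Ab T.lim) (n : ℕ)
    (x : EtCoh.H (T.obj i) ((EtCoh.push (T.pr i)).obj G) n) :
    EtLim.HofPush (T.pr i) G n x =
      (T.toH i (T.pushAll.obj G) n x).comp (Ext.mk₀ (T.colimAdj.counit.app G)) (add_zero n) := by
  refine Eq.trans ?_ (congrArg (fun e => Ext.comp e _ (add_zero n)) (hpullThen_apply _ _ _ n x)).symm
  rw [Ext.comp_assoc_of_third_deg_zero, Ext.mk₀_comp_mk₀]
  exact (hpullThen_apply (T.pr i) ((EtCoh.push (T.pr i)).obj G) ((EtCoh.pullPushAdj (T.pr i)).counit.app G) n x).trans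
    (congrArg (fun a => Ext.comp _ (Ext.mk₀ a) (add_zero n)) (αLim_comp_counit i G).symm)

theorem toLim_proj_eq {i j : ι} (h : i ≤ j) (V : (T.obj i).Etale) :
    (MorphismProperty.Over.pullbackComp (P := EtCoh.etaleMP) (Q := ⊤) (T.pr j) (T.tr h)).inv.app V ≫
        (MorphismProperty.Over.pullbackCongr (P := EtCoh.etaleMP) (Q := ⊤) (T.pr_tr h).symm).inv.app V =
      T.toLim.map (T.proj ((T.incl i).obj V) h) := by
  refine MorphismProperty.Over.Hom.ext (pullback.hom_ext ?_ ?_)
  · exact (comp_congr_inv_left_fst (T.pr j) (T.tr h) (T.pr_tr h).symm V).trans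
      (T.toLim_map_fst (T.proj ((T.incl i).obj V) h)).symm
  · refine Eq.trans ?_ (T.toLim_map_snd (T.proj ((T.incl i).obj V) h)).symm
    exact MorphismProperty.Over.w ((MorphismProperty.Over.pullbackComp (P := EtCoh.etaleMP) (Q := ⊤) (T.pr j) (T.tr h)).inv.app V ≫
      (MorphismProperty.Over.pullbackCongr (P := EtCoh.etaleMP) (Q := ⊤) (T.pr_tr h).symm).inv.app V)

theorem toStage_eq_pushTrans {i j : ι} (h : i ≤ j) (G : EtCoh.Ab T.lim) (n : ℕ)
    (x : EtCoh.H (T.obj i) ((EtCoh.push (T.pr i)).obj G) n) :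
    EtLim.HpushTrans (T.tr h) (T.pr j) (T.pr i) (T.pr_tr h) G n x = T.toStage h (T.pushAll.obj G) n x := by
  have hm : ((EtCoh.pushCongr (T.pr_tr h).symm).app G).hom ≫ (EtCoh.pushComp (T.tr h) (T.pr j)).inv.app G =
      T.resTo h (T.pushAll.obj G) := by
    ext V : 3
    exact ((G.obj.map_comp _ _).symm.trans (congrArg G.obj.map (op_comp.symm.trans
      (congrArg Quiver.Hom.op (toLim_proj_eq h V.unop)))))
  have hβ : (EtCoh.pull (T.tr h)).map (T.resTo h (T.pushAll.obj G)) ≫
      (EtCoh.pullPushAdj (T.tr h)).counit.app _ = (T.βStage h).app (T.pushAll.obj G) :=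
    (Adjunction.homEquiv_counit _ _ _ _).symm
  refine Eq.trans ?_ ((hpullThen_map (T.tr h) (T.resTo h (T.pushAll.obj G)) (𝟙 _) _ _
    (hβ.trans (Category.comp_id _).symm) n x).trans (Ext.comp_mk₀_id _))
  rw [← hm]
  rfl

end Tower

end Groth.Agent.EtLim64
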