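import Groth.Agent.EtLim64.Site
import Groth.Agent.EtLim64.Basis
import Groth.Agent.SitePullUnit.Basic

/-!
# Sheaves on the total etale site and their pullback to the limit
-/

set_option autoImplicit false
set_option backward.isDefEq.respectTransparency.types false

universe u

open CategoryTheory CategoryTheory.Limits AlgebraicGeometry Opposite

namespace Groth.Agent.EtLim64

variable {ι : Type u} [Preorder ι] [IsDirected ι (· ≤ ·)] [Nonempty ι]

namespace Tower

variable (T : Tower ι)

instance hasSheafify_topology : HasSheafify T.topology AddCommGrpCat.{u + 1} := inferInstance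

/-- Systems of abelian etale sheaves on the stages, as sheaves on the total site. -/
abbrev Sys : Type (u + 2) := Sheaf T.topology AddCommGrpCat.{u + 1}

/-- The sheaf at one stage. -/
noncomputable abbrev res (i : ι) : T.Sys ⥤ EtCoh.Ab (T.obj i) :=
  (T.incl i).sheafPushforwardContinuous AddCommGrpCat.{u + 1} (T.obj i).smallEtaleTopology T.topology

/-- Direct images of a sheaf on the limit to all stages. -/
noncomputable abbrev pushAll : EtCoh.Ab T.lim ⥤ T.Sys :=
  T.toLim.sheafPushforwardContinuous AddCommGrpCat.{u + 1} T.topology T.lim.smallEtaleTopology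

/-- The sheaf on the limit attached to a system. -/
noncomputable abbrev colimF : T.Sys ⥤ EtCoh.Ab T.lim :=
  Functor.sheafPullbackConstruction.sheafPullback T.toLim AddCommGrpCat.{u + 1} T.topology T.lim.smallEtaleTopology

/-- The adjunction. -/
noncomputable abbrev colimAdj : T.colimF ⊣ T.pushAll :=
  Functor.sheafPullbackConstruction.sheafAdjunctionContinuous T.toLim AddCommGrpCat.{u + 1} T.topology
    T.lim.smallEtaleTopology

variable {T}

/-- The value at the limit of a section at a stage. -/
noncomputable def atLim (F : T.Sys) {A : Obj T} (s : F.obj.obj (op A)) :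
    (T.colimF.obj F).obj.obj (op (T.toLim.obj A)) :=
  ((T.colimAdj.unit.app F).hom.app (op A)).hom s

theorem atLim_map (F : T.Sys) {A B : Obj T} (f : B ⟶ A) (s : F.obj.obj (op A)) :
    atLim F (F.obj.map f.op s) = (T.colimF.obj F).obj.map (T.toLim.map f).op (atLim F s) :=
  NatTrans.naturality_apply (T.colimAdj.unit.app F).hom f.op s

theorem atLim_nat {F G : T.Sys} (φ : F ⟶ G) {A : Obj T} (s : F.obj.obj (op A)) :
    atLim G ((φ.hom.app (op A)).hom s) = ((T.colimF.map φ).hom.app (op (T.toLim.obj A))).hom (atLim F s) :=
  (ConcreteCategory.congr_hom (congrArg (fun ψ : F ⟶ _ => ψ.hom.app (op A)) (T.colimAdj.unit.naturality φ)) s)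

theorem atLim_zero (F : T.Sys) (A : Obj T) : atLim F (0 : F.obj.obj (op A)) = 0 :=
  map_zero ((T.colimAdj.unit.app F).hom.app (op A)).hom

theorem atLim_eq_sGerm (F : T.Sys) {A : Obj T} (s : F.obj.obj (op A)) :
    atLim F s = SitePullUnit.sGerm T.toLim T.lim.smallEtaleTopology F (𝟙 (T.toLim.obj A)) s := by
  rw [SitePullUnit.sGerm, op_id, CategoryTheory.Functor.map_id, ConcreteCategory.id_apply]
  exact congrArg (fun m => (m.app (op A)).hom s) (SitePullUnit.unit_con T.toLim T.lim.smallEtaleTopology F)

end Tower

end Groth.Agent.EtLim64
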