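import Groth.Agent.EtLim64.Tower
import Groth.Agent.EtFound.Basic
import Mathlib.CategoryTheory.Sites.CoverLifting
import Mathlib.CategoryTheory.Sites.CoverPreserving
import Mathlib.CategoryTheory.Functor.Flat
import Mathlib.Algebra.Category.Grp.Limits

/-!
# The total etale site of a tower
-/

set_option autoImplicit false
set_option backward.isDefEq.respectTransparency.types false

universe w u

open CategoryTheory CategoryTheory.Limits AlgebraicGeometry Opposite

namespace Groth.Agent.EtLim64

variable {ι : Type u} [Preorder ι] [IsDirected ι (· ≤ ·)] [Nonempty ι]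

namespace Tower

variable (T : Tower ι)

/-- Sieves covering on the fibre over each point. -/
def Covers {A : Obj T} (S : Sieve A) : Prop :=
  ∀ x : A.sch, ∃ (V : (T.obj A.stage).Etale) (g : V ⟶ A.obj) (v : V.left),
    S.arrows ((T.incl A.stage).map g) ∧ g.left.base v = x

variable {T}

/-- Lifting a fibre covering along a morphism of the total category. -/
theorem exists_lift {A B : Obj T} (f : B ⟶ A) {V : (T.obj A.stage).Etale} (g : V ⟶ A.obj) (v : V.left)
    (y : B.sch) (hy : g.left.base v = f.map.base y) :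
    ∃ (W : (T.obj B.stage).Etale) (h : W ⟶ B.obj) (m : (T.incl B.stage).obj W ⟶ (T.incl A.stage).obj V)
      (w : W.left), h.left.base w = y ∧ (T.incl B.stage).map h ≫ f = m ≫ (T.incl A.stage).map g := by
  have : Etale g.left := EtFound.etale_left g
  let p : pullback f.map g.left ⟶ B.sch := pullback.fst _ _
  have : Etale p := MorphismProperty.pullback_fst (P := @Etale) _ _ ‹_›
  have : Etale (p ≫ B.str) := MorphismProperty.comp_mem (@Etale : MorphismProperty Scheme.{u}) _ _ ‹_› B.obj.prop
  obtain ⟨z, hz, -⟩ := Scheme.Pullback.exists_preimage_pullback y v hy.symm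
  let m : pullback f.map g.left ⟶ V.left := pullback.snd _ _
  refine ⟨Scheme.Etale.mk (p ≫ B.str), MorphismProperty.Over.homMk p rfl trivial,
    ⟨m, f.hle, ?_⟩, z, hz, hom_ext pullback.condition⟩
  refine ((congrArg (m ≫ ·) (MorphismProperty.Over.w g).symm).trans (Category.assoc _ _ _).symm).trans ?_
  refine ((congrArg (· ≫ A.str) pullback.condition.symm).trans (Category.assoc _ _ _)).trans ?_
  exact (congrArg (p ≫ ·) f.w).trans (Category.assoc _ _ _).symm

variable (T)

/-- The fibrewise etale topology. -/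
def topology : GrothendieckTopology (Obj T) where
  sieves A := {S | T.Covers S}
  top_mem' A := fun x => ⟨A.obj, 𝟙 _, x, trivial, rfl⟩
  pullback_stable' {A B S} f hS := fun y => by
    obtain ⟨V, g, v, hg, hv⟩ := hS (f.map.base y)
    obtain ⟨W, h, m, w, hw, e⟩ := exists_lift f g v y hv
    exact ⟨W, h, w, by
      show S.arrows ((T.incl B.stage).map h ≫ f)
      rw [e]; exact S.downward_closed hg m, hw⟩
  transitive' {A S} hS R hR := fun x => by
    obtain ⟨V, g, v, hg, hv⟩ := hS x
    obtain ⟨W, h, w, hh, hw⟩ := hR hg v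
    refine ⟨W, h ≫ g, w, ?_, ?_⟩
    · have hh' : R.arrows ((T.incl A.stage).map h ≫ (T.incl A.stage).map g) := hh
      rwa [(T.incl A.stage).map_comp]
    · exact (Scheme.Hom.comp_apply h.left g.left w).trans ((congrArg g.left.base hw).trans hv)

theorem mem_topology_iff {A : Obj T} (S : Sieve A) : S ∈ T.topology A ↔ T.Covers S := Iff.rfl

theorem functorPullback_mem {A : Obj T} (S : Sieve A) (hS : S ∈ T.topology A) :
    Sieve.functorPullback (F := T.incl A.stage) (X := A.obj) S ∈ (T.obj A.stage).smallEtaleTopology A.obj :=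
  (EtFound.mem_topology_iff _).2 hS

theorem coverPreserving_incl (i : ι) :
    CoverPreserving (T.obj i).smallEtaleTopology T.topology (T.incl i) := by
  constructor
  intro U S hS x
  obtain ⟨V, g, v, hg, hv⟩ := (EtFound.mem_topology_iff S).1 hS x
  exact ⟨V, g, v, Sieve.image_mem_functorPushforward _ _ hg, hv⟩

instance isCocontinuous_incl (i : ι) :
    (T.incl i).IsCocontinuous (T.obj i).smallEtaleTopology T.topology where
  cover_lift {U S} hS := T.functorPullback_mem (A := (T.incl i).obj U) S hS

theorem compatiblePreserving_incl (i : ι) : CompatiblePreserving.{w} T.topology (T.incl i) := by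
  constructor
  intro ℱ Z R x hx Y₁ Y₂ W f₁ f₂ g₁ g₂ hg₁ hg₂ e
  have : PreservesFiniteLimits (Scheme.Etale.forget (T.obj i)) := inferInstance
  have : PreservesLimitsOfShape WalkingCospan
      (Scheme.Etale.forget (T.obj i) ⋙ CategoryTheory.Over.forget (T.obj i)) :=
    comp_preservesLimitsOfShape _ _
  have sq := (IsPullback.of_hasPullback g₁ g₂).map
    (Scheme.Etale.forget (T.obj i) ⋙ CategoryTheory.Over.forget (T.obj i))
  let m : W.sch ⟶ (pullback g₁ g₂).left := sq.lift f₁.map f₂.map (congrArg Hom.map e)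
  let φ : W ⟶ (T.incl i).obj (pullback g₁ g₂) :=
    ⟨m, f₁.hle, (congrArg (m ≫ ·) (MorphismProperty.Over.w (pullback.fst g₁ g₂)).symm).trans
      ((Category.assoc _ _ _).symm.trans ((congrArg (· ≫ Y₁.hom) (sq.lift_fst _ _ _)).trans f₁.w))⟩
  have h₁ : f₁ = φ ≫ (T.incl i).map (pullback.fst g₁ g₂) := hom_ext (sq.lift_fst _ _ _).symm
  have h₂ : f₂ = φ ≫ (T.incl i).map (pullback.snd g₁ g₂) := hom_ext (sq.lift_snd _ _ _).symm
  have h := hx (pullback.fst g₁ g₂) (pullback.snd g₁ g₂) hg₁ hg₂ pullback.condition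
  rw [h₁, h₂, op_comp, op_comp, ℱ.obj.map_comp, ℱ.obj.map_comp, types_comp_apply, types_comp_apply]
  exact congrArg _ h

instance isContinuous_incl (i : ι) :
    (T.incl i).IsContinuous (T.obj i).smallEtaleTopology T.topology :=
  Functor.isContinuous_of_coverPreserving (T.compatiblePreserving_incl i) (T.coverPreserving_incl i)

/-- A presheaf on the total category is a sheaf as soon as all its restrictions to the stages are. -/
theorem isSheaf_of_restrictions (G : (Obj T)ᵒᵖ ⥤ Type w)
    (h : ∀ i, Presieve.IsSheaf (T.obj i).smallEtaleTopology ((T.incl i).op ⋙ G)) :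
    Presieve.IsSheaf T.topology G := by
  intro A S hS x hx
  have hS' := T.functorPullback_mem S hS
  let x' : Presieve.FamilyOfElements ((T.incl A.stage).op ⋙ G)
      (Sieve.functorPullback (F := T.incl A.stage) (X := A.obj) S).arrows :=
    fun V g hg => x ((T.incl A.stage).map g) hg
  have hx' : x'.Compatible := by
    intro Y₁ Y₂ Z g₁ g₂ f₁ f₂ h₁ h₂ e
    exact hx ((T.incl _).map g₁) ((T.incl _).map g₂) h₁ h₂
      (((T.incl A.stage).map_comp g₁ f₁).symm.trans
        ((congrArg (T.incl A.stage).map e).trans ((T.incl A.stage).map_comp g₂ f₂)))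
  refine ⟨(h A.stage _ hS').amalgamate x' hx', fun B g hg => ?_, fun t ht => ?_⟩
  · let R : Sieve B.obj :=
      { arrows := fun W k => ∃ (V : (T.obj A.stage).Etale) (g' : V ⟶ A.obj)
          (m : (T.incl B.stage).obj W ⟶ (T.incl A.stage).obj V),
          S.arrows ((T.incl A.stage).map g') ∧ (T.incl B.stage).map k ≫ g = m ≫ (T.incl A.stage).map g'
        downward_closed := fun {W W'} k ⟨V, g', m, hs, e⟩ k' =>
          ⟨V, g', (T.incl B.stage).map k' ≫ m, hs, by
            rw [(T.incl B.stage).map_comp, Category.assoc, Category.assoc]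
            exact congrArg _ e⟩ }
    have hR : R ∈ (T.obj B.stage).smallEtaleTopology B.obj := (EtFound.mem_topology_iff R).2 fun y => by
      obtain ⟨V, g', v, hg', hv⟩ := hS (g.map.base y)
      obtain ⟨W, k, m, w, hw, e⟩ := exists_lift g g' v y hv
      exact ⟨W, k, w, ⟨V, g', m, hg', e⟩, hw⟩
    refine ((h B.stage _ hR).isSeparatedFor).ext fun W k ⟨V, g', m, hs, e⟩ => ?_
    change G.map ((T.incl B.stage).map k).op (G.map g.op _) = G.map ((T.incl B.stage).map k).op (x g hg)
    refine (Functor.map_comp_apply G g.op ((T.incl B.stage).map k).op _).symm.trans ?_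
    refine (congrArg (fun q => G.map (Quiver.Hom.op q) _) e).trans ?_
    refine (Functor.map_comp_apply G ((T.incl A.stage).map g').op m.op _).trans ?_
    refine (congrArg (G.map m.op) ((h A.stage _ hS').valid_glue hx' g' hs)).trans ?_
    exact hx m ((T.incl B.stage).map k) hs hg e.symm
  · exact (h A.stage _ hS').isSeparatedFor.ext fun W k hk =>
      (ht ((T.incl A.stage).map k) hk).trans ((h A.stage _ hS').valid_glue hx' k hk).symm

theorem coverPreserving_toLim : CoverPreserving T.topology T.lim.smallEtaleTopology T.toLim := by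
  constructor
  intro A S hS
  refine (EtFound.mem_topology_iff _).2 fun z => ?_
  obtain ⟨V, g, v, hg, hv⟩ := hS ((pullback.fst A.str (T.pr A.stage)).base z)
  have sq := EtCoh.isPullback_bc_map (T.pr A.stage) g
  obtain ⟨p, hp, -⟩ := Scheme.Pullback.exists_preimage_pullback z v hv.symm
  refine ⟨_, T.toLim.map ((T.incl A.stage).map g), sq.isoPullback.inv.base p,
    Sieve.image_mem_functorPushforward _ _ hg, ?_⟩
  refine (congrArg (fun m : (EtCoh.bc (T.pr A.stage)).obj V ⟶ (EtCoh.bc (T.pr A.stage)).obj A.obj =>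
    m.left.base (sq.isoPullback.inv.base p)) (T.incl_toLim_map A.stage g)).trans (Eq.trans ?_ hp)
  exact (Scheme.Hom.comp_apply _ _ _).symm.trans (congrArg (fun m => m.base p) sq.isoPullback_inv_fst)

set_option maxHeartbeats 600000 in
theorem exists_span {U : T.lim.Etale} (A B : Obj T) (a : U ⟶ T.toLim.obj A) (b : U ⟶ T.toLim.obj B) :
    ∃ (C : Obj T) (c : U ⟶ T.toLim.obj C) (p : C ⟶ A) (q : C ⟶ B),
      c ≫ T.toLim.map p = a ∧ c ≫ T.toLim.map q = b := by
  obtain ⟨k, h₁, h₂⟩ := directed_of (α := ι) (· ≤ ·) A.stage B.stage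
  let A' := T.pullTo A h₁
  let B' := T.pullTo B h₂
  have i₁ : IsIso (T.toLim.map (T.proj A h₁)) := T.isIso_toLim_proj A h₁
  have i₂ : IsIso (T.toLim.map (T.proj B h₂)) := T.isIso_toLim_proj B h₂
  let hl := isLimitOfPreserves (EtCoh.bc (T.pr k)) (limit.isLimit (pair A'.obj B'.obj))
  let a' : U ⟶ T.toLim.obj A' := a ≫ inv (T.toLim.map (T.proj A h₁))
  let b' : U ⟶ T.toLim.obj B' := b ≫ inv (T.toLim.map (T.proj B h₂))
  have ha' : a' ≫ T.toLim.map (T.proj A h₁) = a :=
    (Category.assoc _ _ _).trans ((congrArg (a ≫ ·) (IsIso.inv_hom_id _)).trans (Category.comp_id _))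
  have hb' : b' ≫ T.toLim.map (T.proj B h₂) = b :=
    (Category.assoc _ _ _).trans ((congrArg (b ≫ ·) (IsIso.inv_hom_id _)).trans (Category.comp_id _))
  let c : Cone (pair A'.obj B'.obj ⋙ EtCoh.bc (T.pr k)) :=
    { pt := U
      π := Discrete.natTrans fun ⟨x⟩ => WalkingPair.casesOn x a' b' }
  refine ⟨(T.incl k).obj (A'.obj ⨯ B'.obj), hl.lift c, (T.incl k).map prod.fst ≫ T.proj A h₁,
    (T.incl k).map prod.snd ≫ T.proj B h₂, ?_, ?_⟩
  · refine (congrArg (hl.lift c ≫ ·) ((T.toLim.map_comp _ _).trans
      (congrArg (· ≫ T.toLim.map (T.proj A h₁)) (T.incl_toLim_map k prod.fst)))).trans ?_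
    refine (Category.assoc _ _ _).symm.trans ?_
    refine (congrArg (· ≫ T.toLim.map (T.proj A h₁)) (hl.fac c ⟨WalkingPair.left⟩)).trans ?_
    exact ha'
  · refine (congrArg (hl.lift c ≫ ·) ((T.toLim.map_comp _ _).trans
      (congrArg (· ≫ T.toLim.map (T.proj B h₂)) (T.incl_toLim_map k prod.snd)))).trans ?_
    refine (Category.assoc _ _ _).symm.trans ?_
    refine (congrArg (· ≫ T.toLim.map (T.proj B h₂)) (hl.fac c ⟨WalkingPair.right⟩)).trans ?_
    exact hb'

theorem exists_equalizing {U : T.lim.Etale} {A B : Obj T} (f g : A ⟶ B) (a : U ⟶ T.toLim.obj A)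
    (h : a ≫ T.toLim.map f = a ≫ T.toLim.map g) :
    ∃ (C : Obj T) (c : U ⟶ T.toLim.obj C) (e : C ⟶ A), c ≫ T.toLim.map e = a ∧ e ≫ f = e ≫ g := by
  have hBA : B.stage ≤ A.stage := f.hle
  obtain ⟨f', hf'⟩ := (T.incl A.stage).map_surjective
    (X := A.obj) (Y := (T.pullTo B hBA).obj) (T.liftTo' f hBA)
  obtain ⟨g', hg'⟩ := (T.incl A.stage).map_surjective
    (X := A.obj) (Y := (T.pullTo B hBA).obj) (T.liftTo' g hBA)
  have ef : (T.incl A.stage).map f' ≫ T.proj B hBA = f :=
    (congrArg (· ≫ T.proj B hBA) hf').trans (T.liftTo'_proj f hBA)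
  have eg : (T.incl A.stage).map g' ≫ T.proj B hBA = g :=
    (congrArg (· ≫ T.proj B hBA) hg').trans (T.liftTo'_proj g hBA)
  let hl := isLimitOfPreserves (EtCoh.bc (T.pr A.stage)) (limit.isLimit (parallelPair f' g'))
  have hP : a ≫ (EtCoh.bc (T.pr A.stage)).map f' = a ≫ (EtCoh.bc (T.pr A.stage)).map g' := by
    refine (cancel_mono (T.toLim.map (T.proj B hBA))).1 ?_
    have e1 : ∀ φ : A.obj ⟶ (T.pullTo B hBA).obj,
        (a ≫ (EtCoh.bc (T.pr A.stage)).map φ) ≫ T.toLim.map (T.proj B hBA) =
          a ≫ T.toLim.map ((T.incl A.stage).map φ ≫ T.proj B hBA) := fun φ =>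
      (Category.assoc _ _ _).trans (congrArg (a ≫ ·) ((congrArg (· ≫ T.toLim.map (T.proj B hBA))
        (T.incl_toLim_map A.stage φ).symm).trans (T.toLim.map_comp _ _).symm))
    exact (e1 f').trans ((congrArg (fun m => a ≫ T.toLim.map m) ef).trans
      (h.trans ((congrArg (fun m => a ≫ T.toLim.map m) eg).symm.trans (e1 g').symm)))
  let c : Cone (parallelPair f' g' ⋙ EtCoh.bc (T.pr A.stage)) :=
    { pt := U
      π :=
        { app := fun j => match j with
            | .zero => a
            | .one => a ≫ (EtCoh.bc (T.pr A.stage)).map f'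
          naturality := fun j j' m => by
            cases m with
            | left => exact Category.id_comp _
            | right => exact (Category.id_comp _).trans hP
            | id j =>
              refine (Category.id_comp _).trans ?_
              exact ((congrArg (_ ≫ ·) ((parallelPair f' g' ⋙ EtCoh.bc (T.pr A.stage)).map_id j)).trans
                (Category.comp_id _)).symm } }
  refine ⟨(T.incl A.stage).obj (equalizer f' g'), hl.lift c, (T.incl A.stage).map (equalizer.ι f' g'), ?_, ?_⟩
  · refine (congrArg (hl.lift c ≫ ·) (T.incl_toLim_map A.stage (equalizer.ι f' g'))).trans ?_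
    exact hl.fac c WalkingParallelPair.zero
  · have e3 : (T.incl A.stage).map (equalizer.ι f' g') ≫ (T.incl A.stage).map f' =
        (T.incl A.stage).map (equalizer.ι f' g') ≫ (T.incl A.stage).map g' := by
      rw [← (T.incl A.stage).map_comp, ← (T.incl A.stage).map_comp, equalizer.condition]
    exact (congrArg (_ ≫ ·) ef.symm).trans ((Category.assoc _ _ _).symm.trans
      ((congrArg (· ≫ T.proj B hBA) e3).trans ((Category.assoc _ _ _).trans (congrArg (_ ≫ ·) eg))))

instance representablyFlat_toLim : RepresentablyFlat T.toLim where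
  cofiltered U := by
    obtain ⟨i⟩ := ‹Nonempty ι›
    refine @IsCofiltered.mk _ _ ⟨fun P Q => ?_, fun {P Q} f g => ?_⟩
      ⟨StructuredArrow.mk (Y := (T.incl i).obj (EtCoh.top _)) ((EtCore.bcTopIsTerminal (T.pr i)).from U)⟩
    · obtain ⟨C, c, p, q, hp, hq⟩ := T.exists_span P.right Q.right P.hom Q.hom
      exact ⟨StructuredArrow.mk c, StructuredArrow.homMk p hp, StructuredArrow.homMk q hq, trivial⟩
    · obtain ⟨C, c, e, he, he'⟩ := T.exists_equalizing f.right g.right P.hom
        ((StructuredArrow.w f).trans (StructuredArrow.w g).symm)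
      exact ⟨StructuredArrow.mk c, StructuredArrow.homMk e he, StructuredArrow.ext _ _ he'⟩

instance isContinuous_toLim : T.toLim.IsContinuous T.topology T.lim.smallEtaleTopology :=
  Functor.isContinuous_of_coverPreserving (compatiblePreservingOfFlat _ _) T.coverPreserving_toLim

end Tower

end Groth.Agent.EtLim64
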