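import Groth.Agent.EtLim64.AdjComp
import Groth.Agent.EtLim64.Comparison
import Groth.Prelude.Def_EtLim

/-!
# Compatible systems of sheaves on the stages as sheaves on the total site
-/

set_option autoImplicit false
set_option maxHeartbeats 1000000
set_option maxRecDepth 10000
set_option backward.isDefEq.respectTransparency.types false
set_option linter.style.haveILetI false
set_option linter.unusedSectionVars false

universe u

open CategoryTheory CategoryTheory.Limits AlgebraicGeometry Opposite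

namespace Groth.Agent.EtLim64

variable {ι : Type u} [Preorder ι] [IsDirected ι (· ≤ ·)] [Nonempty ι]

/-- A system of sheaves, transitions allowed to be idempotent but not identity on a single stage. -/
structure PreSys (T : Tower ι) : Type (u + 2) where
  F : ∀ i : ι, EtCoh.Ab (T.obj i)
  φ : ∀ ⦃i j : ι⦄ (h : i ≤ j), (EtCoh.pull (T.tr h)).obj (F i) ⟶ F j
  hφ : ∀ ⦃i j k : ι⦄ (hij : i ≤ j) (hjk : j ≤ k),
    φ (hij.trans hjk) = (EtLim.pullTrans T.Xs hij hjk).hom.app (F i) ≫
      (EtCoh.pull (T.tr hjk)).map (φ hij) ≫ φ hjk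

namespace PreSys

open Tower

variable {T : Tower ι} (D : PreSys T)

/-- The adjoint transition map. -/
noncomputable def a {i j : ι} (h : i ≤ j) : D.F i ⟶ (EtCoh.push (T.tr h)).obj (D.F j) :=
  (EtCoh.pullPushAdj (T.tr h)).homEquiv _ _ (D.φ h)

theorem a_natural {i j : ι} (h : i ≤ j) {V W : (T.obj i).Etale} (g : V ⟶ W) (s : (D.F i).obj.obj (op W)) :
    ((D.a h).hom.app (op V)).hom (((D.F i).obj.map g.op).hom s) =
      ((D.F j).obj.map ((EtCoh.bc (T.tr h)).map g).op).hom (((D.a h).hom.app (op W)).hom s) :=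
  NatTrans.naturality_apply (D.a h).hom g.op s

theorem a_comp {i j k : ι} (hij : i ≤ j) (hjk : j ≤ k) (V : (T.obj i).Etale) (s : (D.F i).obj.obj (op V)) :
    ((D.a (hij.trans hjk)).hom.app (op V)).hom s =
      ((D.F k).obj.map (bcCompMap (T.tr hjk) (T.tr hij) (T.tr_tr hij hjk).symm V).op).hom
        (((D.a hjk).hom.app (op ((EtCoh.bc (T.tr hij)).obj V))).hom (((D.a hij).hom.app (op V)).hom s)) :=
  (congrArg (fun m => (((EtCoh.pullPushAdj (T.tr (hij.trans hjk))).homEquiv _ _ m).hom.app (op V)).hom s)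
    (D.hφ hij hjk)).trans
    (homEquiv_comp_apply (T.tr hjk) (T.tr hij) (T.tr_tr hij hjk).symm (D.φ hij) (D.φ hjk) V s)

/-- A morphism of the total site as a morphism of etale schemes at the stage of its source. -/
noncomputable def low {A B : Obj T} (f : B ⟶ A) : B.obj ⟶ (EtCoh.bc (T.tr f.hle)).obj A.obj :=
  MorphismProperty.Over.homMk (pullback.lift f.map B.str f.w) (pullback.lift_snd _ _ _) trivial

theorem low_comp {A B C : Obj T} (g : C ⟶ B) (f : B ⟶ A) :
    low g ≫ (EtCoh.bc (T.tr g.hle)).map (low f) =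
      low (g ≫ f) ≫ bcCompMap (T.tr g.hle) (T.tr f.hle) (T.tr_tr f.hle g.hle).symm A.obj := by
  refine bc2_hom_ext _ _ _ _ ?_
  refine Eq.trans ?_ ((Category.assoc _ _ _).trans (congrArg ((low (g ≫ f)).left ≫ ·)
    (bcCompMap_fst (T.tr g.hle) (T.tr f.hle) (T.tr_tr f.hle g.hle).symm A.obj))).symm
  refine (Category.assoc _ _ _).trans ?_
  refine (congrArg ((low g).left ≫ ·) ((Category.assoc _ _ _).symm.trans
    ((congrArg (· ≫ _) (EtCoh.isPullback_bc_map (T.tr g.hle) (low f)).w).trans (Category.assoc _ _ _)))).trans ?_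
  refine (Category.assoc _ _ _).symm.trans ((congrArg (· ≫ _) (pullback.lift_fst _ _ _)).trans ?_)
  refine (congrArg (g.map ≫ ·) (pullback.lift_fst _ _ _)).trans ?_
  exact (pullback.lift_fst (g ≫ f).map C.str (g ≫ f).w).symm

theorem low_incl {i : ι} {V W : (T.obj i).Etale} (g : V ⟶ W) :
    low ((T.incl i).map g) = low (𝟙 ((T.incl i).obj V)) ≫ (EtCoh.bc (T.tr (le_refl i))).map g := by
  refine MorphismProperty.Over.Hom.ext (pullback.hom_ext ?_ ?_)
  · refine (pullback.lift_fst _ _ _).trans (Eq.trans ?_ (Category.assoc _ _ _).symm)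
    refine Eq.trans ?_ (congrArg (_ ≫ ·) (EtCoh.isPullback_bc_map (T.tr (le_refl i)) g).w).symm
    refine Eq.trans ?_ (Category.assoc _ _ _)
    exact (Category.id_comp _).symm.trans (congrArg (· ≫ g.left) (pullback.lift_fst _ _ _).symm)
  · exact (MorphismProperty.Over.w (low ((T.incl i).map g))).trans (MorphismProperty.Over.w
      (low (𝟙 ((T.incl i).obj V)) ≫ (EtCoh.bc (T.tr (le_refl i))).map g)).symm

/-- Restriction along a morphism of the total site. -/
noncomputable def M {A B : Obj T} (f : B ⟶ A) :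
    (D.F A.stage).obj.obj (op A.obj) ⟶ (D.F B.stage).obj.obj (op B.obj) :=
  (D.a f.hle).hom.app (op A.obj) ≫ (D.F B.stage).obj.map (low f).op

theorem M_comp {A B C : Obj T} (g : C ⟶ B) (f : B ⟶ A) (s : (D.F A.stage).obj.obj (op A.obj)) :
    (D.M g).hom ((D.M f).hom s) = (D.M (g ≫ f)).hom s := by
  refine (congrArg ((D.F C.stage).obj.map (low g).op).hom (D.a_natural g.hle (low f) _)).trans ?_
  refine Eq.trans ?_ (congrArg ((D.F C.stage).obj.map (low (g ≫ f)).op).hom (D.a_comp f.hle g.hle A.obj s)).symm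
  refine (Functor.map_comp_apply (D.F C.stage).obj ((EtCoh.bc (T.tr g.hle)).map (low f)).op (low g).op _).symm.trans ?_
  refine Eq.trans ?_ (Functor.map_comp_apply (D.F C.stage).obj _ (low (g ≫ f)).op _)
  exact congrArg (fun r => ((D.F C.stage).obj.map r).hom _)
    (op_comp.symm.trans ((congrArg Quiver.Hom.op (low_comp g f)).trans op_comp))

/-- The sections fixed by the idempotent. -/
noncomputable def fixed (A : Obj T) : AddSubgroup ((D.F A.stage).obj.obj (op A.obj)) :=
  AddMonoidHom.eqLocus (D.M (𝟙 A)).hom (AddMonoidHom.id _)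

theorem mem_fixed {A : Obj T} {s : (D.F A.stage).obj.obj (op A.obj)} :
    s ∈ D.fixed A ↔ (D.M (𝟙 A)).hom s = s := Iff.rfl

theorem M_mem {A B : Obj T} (f : B ⟶ A) (s : (D.F A.stage).obj.obj (op A.obj)) :
    (D.M f).hom s ∈ D.fixed B :=
  (D.M_comp (𝟙 B) f s).trans (congrArg (fun m => (D.M m).hom s) (Category.id_comp f))

theorem M_incl {i : ι} {V W : (T.obj i).Etale} (g : V ⟶ W) (s : (D.F i).obj.obj (op W)) :
    (D.M ((T.incl i).map g)).hom s = (D.M (𝟙 ((T.incl i).obj V))).hom (((D.F i).obj.map g.op).hom s) := by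
  refine Eq.trans ?_ (congrArg ((D.F i).obj.map (low (𝟙 ((T.incl i).obj V))).op).hom
    (D.a_natural (le_refl i) g s)).symm
  refine Eq.trans ?_ (Functor.map_comp_apply (D.F i).obj _ _ _)
  exact congrArg (fun r => ((D.F i).obj.map r).hom _) ((congrArg Quiver.Hom.op (low_incl g)).trans op_comp)

theorem low_incl' {i : ι} {V W : (T.obj i).Etale} (g : V ⟶ W) :
    low ((T.incl i).map g) = g ≫ low (𝟙 ((T.incl i).obj W)) := by
  refine MorphismProperty.Over.Hom.ext (pullback.hom_ext ?_ ?_)
  · refine (pullback.lift_fst _ _ _).trans (Eq.trans ?_ (Category.assoc _ _ _).symm)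
    exact (Category.comp_id _).symm.trans (congrArg (g.left ≫ ·) (pullback.lift_fst _ _ _).symm)
  · exact (MorphismProperty.Over.w (low ((T.incl i).map g))).trans (MorphismProperty.Over.w
      (g ≫ low (𝟙 ((T.incl i).obj W)))).symm

theorem M_incl' {i : ι} {V W : (T.obj i).Etale} (g : V ⟶ W) (s : (D.F i).obj.obj (op W)) :
    (D.M ((T.incl i).map g)).hom s = ((D.F i).obj.map g.op).hom ((D.M (𝟙 ((T.incl i).obj W))).hom s) := by
  refine Eq.trans ?_ (Functor.map_comp_apply (D.F i).obj _ _ _)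
  exact congrArg (fun r => ((D.F i).obj.map r).hom _) ((congrArg Quiver.Hom.op (low_incl' g)).trans op_comp)

theorem M_incl_of_mem {i : ι} {V W : (T.obj i).Etale} (g : V ⟶ W) {s : (D.F i).obj.obj (op W)}
    (hs : s ∈ D.fixed ((T.incl i).obj W)) : (D.M ((T.incl i).map g)).hom s = ((D.F i).obj.map g.op).hom s :=
  (D.M_incl' g s).trans (congrArg ((D.F i).obj.map g.op).hom hs)

/-- The presheaf on the total site. -/
noncomputable def presheaf : (Obj T)ᵒᵖ ⥤ AddCommGrpCat.{u + 1} where
  obj A := AddCommGrpCat.of (D.fixed A.unop)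
  map {A B} f := AddCommGrpCat.ofHom
    (AddMonoidHom.codRestrict ((D.M f.unop).hom.comp (D.fixed A.unop).subtype) (D.fixed B.unop)
      fun s => D.M_mem f.unop _)
  map_id A := by
    ext ⟨s, hs⟩
    exact hs
  map_comp {A B C} f g := by
    ext ⟨s, hs⟩
    exact (D.M_comp g.unop f.unop s).symm

theorem presheaf_map_val {A B : Obj T} (f : B ⟶ A) (s : D.presheaf.obj (op A)) :
    ((D.presheaf.map f.op).hom s).1 = (D.M f).hom s.1 := rfl

theorem isSheaf_presheaf : Presheaf.IsSheaf T.topology D.presheaf := by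
  rw [Presheaf.isSheaf_iff_isSheaf_forget _ _ (forget AddCommGrpCat.{u + 1})]
  refine (isSheaf_iff_isSheaf_of_type _ _).2 (T.isSheaf_of_restrictions _ fun i => ?_)
  intro U S hS x hx
  let x' : Presieve.FamilyOfElements ((D.F i).obj ⋙ forget AddCommGrpCat.{u + 1}) S.arrows :=
    fun V g hg => (x g hg).1
  have hx' : x'.Compatible := fun Y₁ Y₂ Z g₁ g₂ f₁ f₂ h₁ h₂ e =>
    (D.M_incl_of_mem g₁ (x f₁ h₁).2).symm.trans
      ((congrArg Subtype.val (hx g₁ g₂ h₁ h₂ e)).trans (D.M_incl_of_mem g₂ (x f₂ h₂).2))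
  have hF := isSheaf_type (D.F i) S hS
  obtain ⟨t, ht, htu⟩ := hF x' hx'
  have htm : t ∈ D.fixed ((T.incl i).obj U) := htu _ fun V g hg => by
    refine (D.M_incl' g t).symm.trans ((D.M_incl g t).trans ?_)
    exact (congrArg (D.M (𝟙 ((T.incl i).obj V))).hom (ht g hg)).trans (x g hg).2
  refine ⟨⟨t, htm⟩, fun V g hg => Subtype.ext ((D.M_incl_of_mem g htm).trans (ht g hg)), fun t' ht' => ?_⟩
  exact Subtype.ext (htu _ fun V g hg => (D.M_incl_of_mem g t'.2).symm.trans (congrArg Subtype.val (ht' g hg)))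

/-- The sheaf on the total site. -/
noncomputable def sys : T.Sys := ⟨D.presheaf, D.isSheaf_presheaf⟩

/-- The inclusion of the fixed part. -/
noncomputable def inc (i : ι) : (T.res i).obj D.sys ⟶ D.F i :=
  ObjectProperty.homMk
    { app := fun V => AddCommGrpCat.ofHom (D.fixed ((T.incl i).obj V.unop)).subtype
      naturality := fun V W g => by
        ext s
        exact D.M_incl_of_mem g.unop s.2 }

/-- The projection to the fixed part. -/
noncomputable def prj (i : ι) : D.F i ⟶ (T.res i).obj D.sys :=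
  ObjectProperty.homMk
    { app := fun V => AddCommGrpCat.ofHom (AddMonoidHom.codRestrict (D.M (𝟙 ((T.incl i).obj V.unop))).hom
        (D.fixed ((T.incl i).obj V.unop)) fun s => D.M_mem _ _)
      naturality := fun V W g => by
        ext s
        refine Subtype.ext ?_
        refine (D.M_incl g.unop s).symm.trans ?_
        refine Eq.trans ?_ (D.M_comp ((T.incl i).map g.unop) (𝟙 _) s).symm
        exact congrArg (fun m => (D.M (A := (T.incl i).obj V.unop) (B := (T.incl i).obj W.unop) m).hom s) (Category.comp_id _).symm }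

end PreSys

end Groth.Agent.EtLim64
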