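import Groth.Agent.EtLim64.System

/-!
# The colimit of the pullbacks of a system is the sheaf attached to it
-/

set_option autoImplicit false
set_option maxHeartbeats 1000000
set_option maxRecDepth 10000
set_option backward.isDefEq.respectTransparency.types false
set_option linter.style.haveILetI false
set_option linter.unusedSectionVars false

universe u

open CategoryTheory CategoryTheory.Limits AlgebraicGeometry Opposite

namespace Groth.Agent.EtLim64.PreSys

open Tower

variable {ι : Type u} [Preorder ι] [IsDirected ι (· ≤ ·)] [Nonempty ι] {T : Tower ι} (D : PreSys T)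

theorem ab_map_id {C : Type (u + 1)} [Category.{u} C] (G : Cᵒᵖ ⥤ AddCommGrpCat.{u + 1}) {Y : C}
    (x : G.obj (op Y)) : (G.map (𝟙 Y).op).hom x = x :=
  ConcreteCategory.congr_hom (G.map_id (op Y)) x

theorem low_proj {i j : ι} (h : i ≤ j) (V : (T.obj i).Etale) :
    low (T.proj ((T.incl i).obj V) h) = 𝟙 ((EtCoh.bc (T.tr h)).obj V) :=
  MorphismProperty.Over.Hom.ext (pullback.hom_ext ((pullback.lift_fst _ _ _).trans (Category.id_comp _).symm)
    ((pullback.lift_snd _ _ _).trans (Category.id_comp _).symm))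

theorem M_proj {i j : ι} (h : i ≤ j) (V : (T.obj i).Etale) (s : (D.F i).obj.obj (op V)) :
    (D.M (T.proj ((T.incl i).obj V) h)).hom s = ((D.a h).hom.app (op V)).hom s := by
  refine (congrArg (fun r => ((D.F j).obj.map (Quiver.Hom.op r)).hom (((D.a h).hom.app (op V)).hom s))
    (low_proj h V)).trans ?_
  exact congrArg (fun r => r.hom (((D.a h).hom.app (op V)).hom s)) ((D.F j).obj.map_id _)

theorem bc_low {A B : Obj T} (f : B ⟶ A) :
    (EtCoh.bc (T.pr B.stage)).map (low f) =
      T.toLim.map f ≫ bcCompMap (T.pr B.stage) (T.tr f.hle) (T.pr_tr f.hle).symm A.obj := by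
  refine bc2_hom_ext _ _ _ _ ?_
  refine Eq.trans ?_ ((Category.assoc _ _ _).trans (congrArg ((T.toLim.map f).left ≫ ·)
    (bcCompMap_fst (T.pr B.stage) (T.tr f.hle) (T.pr_tr f.hle).symm A.obj))).symm
  refine Eq.trans ?_ (T.toLim_map_fst f).symm
  refine (Category.assoc _ _ _).symm.trans ((congrArg (· ≫ _) (EtCoh.isPullback_bc_map (T.pr B.stage) (low f)).w).trans ?_)
  exact (Category.assoc _ _ _).trans (congrArg (_ ≫ ·) (pullback.lift_fst _ _ _))

theorem bcCompMap_proj {i j : ι} (h : i ≤ j) (V : (T.obj i).Etale) :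
    bcCompMap (T.pr j) (T.tr h) (T.pr_tr h).symm V ≫ T.toLim.map (T.proj ((T.incl i).obj V) h) =
      𝟙 ((EtCoh.bc (T.pr i)).obj V) := by
  refine MorphismProperty.Over.Hom.ext (T.toLim_hom_ext (B := (T.incl i).obj V) ?_ ?_)
  · refine Eq.trans ?_ (Category.id_comp _).symm
    refine (Category.assoc _ _ _).trans ((congrArg ((bcCompMap (T.pr j) (T.tr h) (T.pr_tr h).symm V).left ≫ ·)
      (T.toLim_map_fst (T.proj ((T.incl i).obj V) h))).trans ?_)
    exact bcCompMap_fst (T.pr j) (T.tr h) (T.pr_tr h).symm V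
  · refine Eq.trans ?_ (Category.id_comp _).symm
    exact MorphismProperty.Over.w
      (bcCompMap (T.pr j) (T.tr h) (T.pr_tr h).symm V ≫ T.toLim.map (T.proj ((T.incl i).obj V) h))

/-- A cocone on the limit. -/
structure Under : Type (u + 2) where
  C : EtCoh.Ab T.lim
  b : ∀ i : ι, D.F i ⟶ (EtCoh.push (T.pr i)).obj C
  compat : ∀ ⦃i j : ι⦄ (h : i ≤ j) (V : (T.obj i).Etale) (s : (D.F i).obj.obj (op V)),
    ((b i).hom.app (op V)).hom s =
      (C.obj.map (bcCompMap (T.pr j) (T.tr h) (T.pr_tr h).symm V).op).hom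
        (((b j).hom.app (op ((EtCoh.bc (T.tr h)).obj V))).hom (((D.a h).hom.app (op V)).hom s))

variable {D} (U : Under D)

theorem b_M {A B : Obj T} (f : B ⟶ A) (s : (D.F A.stage).obj.obj (op A.obj)) :
    ((U.b B.stage).hom.app (op B.obj)).hom ((D.M f).hom s) =
      (U.C.obj.map (T.toLim.map f).op).hom (((U.b A.stage).hom.app (op A.obj)).hom s) := by
  refine (NatTrans.naturality_apply (U.b B.stage).hom (low f).op _).trans ?_
  refine Eq.trans ?_ (congrArg (U.C.obj.map (T.toLim.map f).op).hom (U.compat f.hle A.obj s)).symm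
  exact (ab_map_map U.C.obj _ _ (bc_low f).symm _).symm

theorem b_fix (i : ι) (V : (T.obj i).Etale) (s : (D.F i).obj.obj (op V)) :
    ((U.b i).hom.app (op V)).hom ((D.M (𝟙 ((T.incl i).obj V))).hom s) = ((U.b i).hom.app (op V)).hom s :=
  (b_M U (𝟙 ((T.incl i).obj V)) s).trans
    ((congrArg (fun r => (U.C.obj.map (Quiver.Hom.op r)).hom _) (T.toLim.map_id _)).trans
      (ab_map_id U.C.obj _))

/-- The induced map of systems. -/
noncomputable def θ : D.sys ⟶ T.pushAll.obj U.C :=
  ObjectProperty.homMk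
    { app := fun A => AddCommGrpCat.ofHom
        (((U.b A.unop.stage).hom.app (op A.unop.obj)).hom.comp (D.fixed A.unop).subtype)
      naturality := fun A B f => by
        ext s
        exact b_M U f.unop s.1 }

/-- The induced map on the limit. -/
noncomputable def Θ : T.colimF.obj D.sys ⟶ U.C := (T.colimAdj.homEquiv _ _).symm (θ U)

theorem Θ_atLim {A : Obj T} (s : D.sys.obj.obj (op A)) :
    ((Θ U).hom.app (op (T.toLim.obj A))).hom (atLim D.sys s) = ((U.b A.stage).hom.app (op A.obj)).hom s.1 :=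
  ConcreteCategory.congr_hom (congrArg (fun m : D.sys ⟶ T.pushAll.obj U.C => m.hom.app (op A))
    ((Adjunction.homEquiv_unit _ _ _ _).symm.trans ((T.colimAdj.homEquiv _ _).apply_symm_apply (θ U)))) s

variable (D) in
/-- The system itself as a cocone. -/
noncomputable def self : Under D where
  C := T.colimF.obj D.sys
  b i := D.prj i ≫ T.unitAt i D.sys
  compat i j h V s := by
    let s' : D.sys.obj.obj (op ((T.incl i).obj V)) := ((D.prj i).hom.app (op V)).hom s
    have e : ((D.prj j).hom.app (op ((EtCoh.bc (T.tr h)).obj V))).hom (((D.a h).hom.app (op V)).hom s) =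
        (D.sys.obj.map (T.proj ((T.incl i).obj V) h).op).hom s' := by
      refine Subtype.ext ?_
      change (D.M (𝟙 ((T.incl j).obj ((EtCoh.bc (T.tr h)).obj V)))).hom (((D.a h).hom.app (op V)).hom s) =
        (D.M (T.proj ((T.incl i).obj V) h)).hom ((D.M (𝟙 ((T.incl i).obj V))).hom s)
      refine (congrArg (D.M (𝟙 ((T.incl j).obj ((EtCoh.bc (T.tr h)).obj V)))).hom (D.M_proj h V s).symm).trans
        ((D.M_comp (A := (T.incl i).obj V) (B := (T.incl j).obj ((EtCoh.bc (T.tr h)).obj V))
          (C := (T.incl j).obj ((EtCoh.bc (T.tr h)).obj V)) (𝟙 _) (T.proj ((T.incl i).obj V) h) s).trans ?_)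
      refine Eq.trans ?_ (D.M_comp (T.proj ((T.incl i).obj V) h) (𝟙 _) s).symm
      exact congrArg (fun m => (D.M (A := (T.incl i).obj V) (B := (T.incl j).obj ((EtCoh.bc (T.tr h)).obj V)) m).hom s)
        ((Category.id_comp (T.proj ((T.incl i).obj V) h)).trans (Category.comp_id (T.proj ((T.incl i).obj V) h)).symm)
    refine Eq.symm ?_
    refine (congrArg (((T.colimF.obj D.sys).obj.map (bcCompMap (T.pr j) (T.tr h) (T.pr_tr h).symm V).op).hom)
      ((congrArg (fun t => ((T.unitAt j D.sys).hom.app (op ((EtCoh.bc (T.tr h)).obj V))).hom t) e).trans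
        (atLim_map D.sys (T.proj ((T.incl i).obj V) h) s'))).trans ?_
    exact ab_map_map_id (T.colimF.obj D.sys).obj _ _ (bcCompMap_proj h V) _

theorem self_b_of_mem {A : Obj T} (s : D.sys.obj.obj (op A)) :
    (((self D).b A.stage).hom.app (op A.obj)).hom s.1 = atLim D.sys s :=
  congrArg (atLim D.sys (A := A)) (Subtype.ext s.2)

theorem inc_b (i : ι) : D.inc i ≫ U.b i = T.unitAt i D.sys ≫ (EtCoh.push (T.pr i)).map (Θ U) := by
  ext V : 3
  ext s
  exact (Θ_atLim U s).symm

theorem prj_b (i : ι) : D.prj i ≫ T.unitAt i D.sys ≫ (EtCoh.push (T.pr i)).map (Θ U) = U.b i := by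
  ext V : 3
  ext s
  exact (Θ_atLim U (A := (T.incl i).obj V.unop) (((D.prj i).hom.app V).hom s)).trans (b_fix U i V.unop s)

variable (D) in
/-- The structure map to the sheaf attached to the system. -/
noncomputable def toColim (i : ι) : (EtCoh.pull (T.pr i)).obj (D.F i) ⟶ T.colimF.obj D.sys :=
  ((EtCoh.pullPushAdj (T.pr i)).homEquiv _ _).symm ((self D).b i)

variable (D) in
theorem homEquiv_toColim (i : ι) :
    (EtCoh.pullPushAdj (T.pr i)).homEquiv _ _ (toColim D i) = (self D).b i :=
  ((EtCoh.pullPushAdj (T.pr i)).homEquiv _ _).apply_symm_apply _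

variable (D) in
theorem trans_toColim {i j : ι} (h : i ≤ j) :
    (EtCore.pullCongr (T.pr_tr h).symm ≪≫ EtCore.pullComp (T.pr j) (T.tr h)).hom.app (D.F i) ≫
      (EtCoh.pull (T.pr j)).map (D.φ h) ≫ toColim D j = toColim D i := by
  apply ((EtCoh.pullPushAdj (T.pr i)).homEquiv _ _).injective
  rw [homEquiv_toColim]
  ext V : 3
  ext s
  refine (homEquiv_comp_apply (T.pr j) (T.tr h) (T.pr_tr h).symm (D.φ h) (toColim D j) V.unop s).trans ?_
  rw [homEquiv_toColim]
  exact ((self D).compat h V.unop s).symm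

end Groth.Agent.EtLim64.PreSys
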