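import Groth.Agent.EtLim64.SystemColim

/-!
# The colimit of a diagram identified with the pullbacks of a system
-/

set_option autoImplicit false
set_option maxHeartbeats 1000000
set_option maxRecDepth 10000
set_option backward.isDefEq.respectTransparency.types false
set_option linter.unusedSectionVars false

universe u

open CategoryTheory CategoryTheory.Limits AlgebraicGeometry Opposite

namespace Groth.Agent.EtLim64.PreSys

open Tower

variable {ι : Type u} [Preorder ι] [IsDirected ι (· ≤ ·)] [Nonempty ι] {T : Tower ι} (D : PreSys T)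

/-- A diagram on the limit identified with the pullbacks of the system. -/
structure Diag : Type (u + 2) where
  G : ι ⥤ EtCoh.Ab T.lim
  ψ : ∀ i : ι, (EtCoh.pull (T.pr i)).obj (D.F i) ≅ G.obj i
  hψ : ∀ ⦃i j : ι⦄ (h : i ≤ j), (ψ i).hom ≫ G.map (homOfLE h) =
    (EtCore.pullCongr (T.pr_tr h).symm ≪≫ EtCore.pullComp (T.pr j) (T.tr h)).hom.app (D.F i) ≫
      (EtCoh.pull (T.pr j)).map (D.φ h) ≫ (ψ j).hom

variable {D} (E : Diag D)

/-- The structure map to the colimit. -/
noncomputable def Diag.leg (i : ι) : (EtCoh.pull (T.pr i)).obj (D.F i) ⟶ colimit E.G :=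
  (E.ψ i).hom ≫ colimit.ι E.G i

theorem Diag.leg_trans ⦃i j : ι⦄ (h : i ≤ j) :
    E.leg i = (EtCore.pullCongr (T.pr_tr h).symm ≪≫ EtCore.pullComp (T.pr j) (T.tr h)).hom.app (D.F i) ≫
      (EtCoh.pull (T.pr j)).map (D.φ h) ≫ E.leg j := by
  refine (congrArg ((E.ψ i).hom ≫ ·) (colimit.w E.G (homOfLE h)).symm).trans ?_
  exact (Category.assoc _ _ _).symm.trans ((congrArg (· ≫ colimit.ι E.G j) (E.hψ h)).trans
    ((Category.assoc _ _ _).trans (congrArg (_ ≫ ·) (Category.assoc _ _ _))))

/-- The colimit as a cocone under the system. -/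
noncomputable def Diag.under : Under D where
  C := colimit E.G
  b i := (EtCoh.pullPushAdj (T.pr i)).homEquiv _ _ (E.leg i)
  compat i j h V s := (congrArg (fun m => (((EtCoh.pullPushAdj (T.pr i)).homEquiv _ _ m).hom.app (op V)).hom s)
      (E.leg_trans h)).trans
    (homEquiv_comp_apply (T.pr j) (T.tr h) (T.pr_tr h).symm (D.φ h) (E.leg j) V s)

/-- The comparison from the colimit. -/
noncomputable def Diag.Ξ : colimit E.G ⟶ T.colimF.obj D.sys :=
  colimit.desc E.G
    { pt := T.colimF.obj D.sys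
      ι :=
        { app := fun i => (E.ψ i).inv ≫ toColim D i
          naturality := fun i j f => by
            refine Eq.trans ?_ (Category.comp_id _).symm
            refine (cancel_epi (E.ψ i).hom).1 ?_
            refine Eq.trans ?_ (Iso.hom_inv_id_assoc (E.ψ i) _).symm
            refine Eq.trans ?_ (trans_toColim D (leOfHom f))
            refine (Category.assoc _ _ _).symm.trans ?_
            refine (congrArg (· ≫ _) (E.hψ (leOfHom f))).trans ?_
            refine (Category.assoc _ _ _).trans (congrArg (_ ≫ ·) ((Category.assoc _ _ _).trans ?_))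
            exact congrArg (_ ≫ ·) (Iso.hom_inv_id_assoc (E.ψ j) _) } }

theorem Diag.leg_Ξ (i : ι) : E.leg i ≫ E.Ξ = toColim D i :=
  (Category.assoc _ _ _).trans ((congrArg ((E.ψ i).hom ≫ ·) (colimit.ι_desc _ i)).trans (Iso.hom_inv_id_assoc (E.ψ i) _))

theorem Diag.Ξ_Θ : E.Ξ ≫ Θ E.under = 𝟙 (colimit E.G) := by
  refine colimit.hom_ext fun i => (cancel_epi (E.ψ i).hom).1 ?_
  refine Eq.trans ?_ (congrArg ((E.ψ i).hom ≫ ·) (Category.comp_id _).symm)
  refine ((Category.assoc (E.ψ i).hom (colimit.ι E.G i) (E.Ξ ≫ Θ E.under)).symm.trans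
    (Category.assoc (E.leg i) E.Ξ (Θ E.under)).symm).trans ?_
  refine (congrArg (· ≫ Θ E.under) (E.leg_Ξ i)).trans ?_
  apply ((EtCoh.pullPushAdj (T.pr i)).homEquiv _ _).injective
  rw [Adjunction.homEquiv_naturality_right, homEquiv_toColim]
  exact (Category.assoc _ _ _).trans (prj_b E.under i)

theorem Diag.inc_leg (i : ι) :
    (EtCoh.pull (T.pr i)).map (D.inc i) ≫ E.leg i = (T.αLim i).app D.sys ≫ Θ E.under := by
  apply ((EtCoh.pullPushAdj (T.pr i)).homEquiv _ _).injective
  refine ((EtCoh.pullPushAdj (T.pr i)).homEquiv_naturality_left _ _).trans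
    (Eq.trans ?_ ((EtCoh.pullPushAdj (T.pr i)).homEquiv_naturality_right _ _).symm)
  rw [T.homEquiv_αLim]
  exact inc_b E.under i

theorem Diag.prj_αLim (i : ι) :
    (EtCoh.pull (T.pr i)).map (D.prj i) ≫ (T.αLim i).app D.sys = E.leg i ≫ E.Ξ := by
  rw [E.leg_Ξ]
  apply ((EtCoh.pullPushAdj (T.pr i)).homEquiv _ _).injective
  rw [Adjunction.homEquiv_naturality_left, T.homEquiv_αLim, homEquiv_toColim]
  rfl

variable (D) in
theorem prj_βStage_inc {i j : ι} (h : i ≤ j) :
    (EtCoh.pull (T.tr h)).map (D.prj i) ≫ (T.βStage h).app D.sys ≫ D.inc j = D.φ h := by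
  apply ((EtCoh.pullPushAdj (T.tr h)).homEquiv _ _).injective
  rw [Adjunction.homEquiv_naturality_left, Adjunction.homEquiv_naturality_right, T.homEquiv_βStage]
  ext V : 3
  ext s
  refine (D.M_comp (T.proj ((T.incl i).obj V.unop) h) (𝟙 _) s).trans ?_
  exact (congrArg (fun m => (D.M (A := (T.incl i).obj V.unop) (B := T.pullTo ((T.incl i).obj V.unop) h) m).hom s)
    (Category.comp_id (T.proj ((T.incl i).obj V.unop) h))).trans (D.M_proj h V.unop s)

end Groth.Agent.EtLim64.PreSys
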